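import Groth.Agent.Dix.DimClosed
import Groth.Agent.An.H867.QfDim
import Groth.Agent.TopDim.K284.Basic
import Mathlib.AlgebraicGeometry.Morphisms.Finite

/-!
# Dimension of closed subsets: images and preimages under closed and quasi-finite maps, unions
-/

set_option autoImplicit false
universe u

open CategoryTheory AlgebraicGeometry TopologicalSpace Topology
open Groth.Agent

namespace K527.DimSet

theorem dim_le {X Y : Scheme.{u}} (f : X ⟶ Y) [LocallyQuasiFinite f] :
    topologicalKrullDim X ≤ topologicalKrullDim Y :=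
  An.H867.QfDim.topologicalKrullDim_le_of_discrete f f.continuous fun z =>
    (f.isDiscrete_preimage_singleton z).to_subtype

theorem dim_preimage_le {X Y : Scheme.{u}} (f : X ⟶ Y) [LocallyQuasiFinite f] (Z : Set Y) (hZ : IsClosed Z) :
    topologicalKrullDim (f ⁻¹' Z) ≤ topologicalKrullDim Z := by
  have h1 : IsClosed (f ⁻¹' Z) := hZ.preimage f.continuous
  have h2 : QuasiSober (f ⁻¹' Z) := h1.isClosedEmbedding_subtypeVal.quasiSober
  refine An.H867.QfDim.topologicalKrullDim_le_of_discrete (Set.MapsTo.restrict f (f ⁻¹' Z) Z (fun _ h => h))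
    (f.continuous.restrict _) fun z => ?_
  have h3 : DiscreteTopology (f ⁻¹' {z.1}) := (f.isDiscrete_preimage_singleton z.1).to_subtype
  let φ : (Set.MapsTo.restrict f (f ⁻¹' Z) Z (fun _ h => h)) ⁻¹' {z} → f ⁻¹' {z.1} := fun w =>
    ⟨w.1.1, congrArg Subtype.val w.2⟩
  have hc : Continuous φ := (continuous_subtype_val.comp continuous_subtype_val).subtype_mk _
  refine DiscreteTopology.of_continuous_injective hc fun a b hab => ?_
  have h4 : a.1.1 = b.1.1 := congrArg (fun w : f ⁻¹' {z.1} => w.1) hab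
  exact Subtype.ext (Subtype.ext h4)

theorem dim_image_le {X Y : Type u} [TopologicalSpace X] [TopologicalSpace Y] [QuasiSober X] [T0Space X]
    [QuasiSober Y] [T0Space Y] (f : X → Y) (hf : IsClosedMap f) (Z : Set X) (hZ : IsClosed Z) :
    topologicalKrullDim (f '' Z) ≤ topologicalKrullDim Z := by
  have h1 : QuasiSober Z := hZ.isClosedEmbedding_subtypeVal.quasiSober
  have h2 : QuasiSober (f '' Z) := (hf _ hZ).isClosedEmbedding_subtypeVal.quasiSober
  refine Dix.DimClosed.topologicalKrullDim_le_of_isClosedMap (Set.MapsTo.restrict f Z (f '' Z) (Set.mapsTo_image f Z))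
    ?_ ?_
  · intro W hW
    have h3 : IsClosed (f '' (Subtype.val '' W)) := hf _ (hZ.isClosedEmbedding_subtypeVal.isClosedMap _ hW)
    have h4 : Set.MapsTo.restrict f Z (f '' Z) (Set.mapsTo_image f Z) '' W =
        Subtype.val ⁻¹' (f '' (Subtype.val '' W)) := by
      ext y
      constructor
      · rintro ⟨w, hw, rfl⟩
        exact ⟨w.1, ⟨w, hw, rfl⟩, rfl⟩
      · rintro ⟨_, ⟨w, hw, rfl⟩, hy⟩
        exact ⟨w, hw, Subtype.ext hy⟩
    rw [h4]
    exact h3.preimage continuous_subtype_val
  · rintro ⟨_, z, hz, rfl⟩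
    exact ⟨⟨z, hz⟩, rfl⟩

variable {X : Type*} [TopologicalSpace X]

theorem dim_union (A B : Set X) (hA : IsClosed A) (hB : IsClosed B) :
    topologicalKrullDim ↥(A ∪ B) = max (topologicalKrullDim A) (topologicalKrullDim B) := by
  apply le_antisymm
  · let Y : Bool → Set ↥(A ∪ B) := fun b => cond b (Subtype.val ⁻¹' A) (Subtype.val ⁻¹' B)
    rw [K284.TopDim.dim_eq_iSup_of_finite Y ?_ ?_]
    · refine iSup_le fun b => ?_
      cases b
      · change topologicalKrullDim (Subtype.val ⁻¹' B : Set ↥(A ∪ B)) ≤ _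
        rw [K284.TopDim.dim_preimage_val, Set.inter_eq_left.2 Set.subset_union_right]
        exact le_max_right _ _
      · change topologicalKrullDim (Subtype.val ⁻¹' A : Set ↥(A ∪ B)) ≤ _
        rw [K284.TopDim.dim_preimage_val, Set.inter_eq_left.2 Set.subset_union_left]
        exact le_max_left _ _
    · intro b
      cases b
      · exact hB.preimage continuous_subtype_val
      · exact hA.preimage continuous_subtype_val
    · rw [Set.eq_univ_iff_forall]
      rintro ⟨x, hx⟩
      rcases hx with hx | hx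
      · exact Set.mem_iUnion.2 ⟨true, hx⟩
      · exact Set.mem_iUnion.2 ⟨false, hx⟩
  · exact max_le (K284.TopDim.dim_mono Set.subset_union_left) (K284.TopDim.dim_mono Set.subset_union_right)

theorem dim_union_lt {A B : Set X} (hA : IsClosed A) (hB : IsClosed B) {n : WithBot ℕ∞}
    (h1 : topologicalKrullDim A < n) (h2 : topologicalKrullDim B < n) : topologicalKrullDim ↥(A ∪ B) < n := by
  rw [dim_union A B hA hB]
  exact max_lt h1 h2

theorem exists_closed {ι : Type*} {s : Set ι} (hs : s.Finite) (Z : ι → Set X) (hZ : ∀ i ∈ s, IsClosed (Z i))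
    {n : WithBot ℕ∞} (hn : topologicalKrullDim (∅ : Set X) < n) (hd : ∀ i ∈ s, topologicalKrullDim (Z i) < n) :
    ∃ W : Set X, IsClosed W ∧ topologicalKrullDim W < n ∧ ∀ i ∈ s, Z i ⊆ W := by
  induction s, hs using Set.Finite.induction_on with
  | empty => exact ⟨∅, isClosed_empty, hn, fun i hi => absurd hi (Set.notMem_empty i)⟩
  | @insert a s _ _ ih =>
    obtain ⟨W, hW, hWd, hWZ⟩ := ih (fun i hi => hZ i (Set.mem_insert_of_mem _ hi))
      (fun i hi => hd i (Set.mem_insert_of_mem _ hi))
    refine ⟨Z a ∪ W, (hZ a (Set.mem_insert _ _)).union hW,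
      dim_union_lt (hZ a (Set.mem_insert _ _)) hW (hd a (Set.mem_insert _ _)) hWd, fun i hi => ?_⟩
    rcases Set.mem_insert_iff.1 hi with rfl | hi
    · exact Set.subset_union_left
    · exact (hWZ i hi).trans Set.subset_union_right

theorem dim_empty : topologicalKrullDim (∅ : Set X) = ⊥ := by
  rw [topologicalKrullDim, Order.krullDim_eq_bot_iff]
  exact ⟨fun Z => by
    obtain ⟨x, -⟩ := Z.isIrreducible.nonempty
    exact x.2⟩

theorem bot_lt_nat (n : ℕ) : (⊥ : WithBot ℕ∞) < (n : WithBot ℕ∞) := by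
  exact WithBot.bot_lt_coe _

/-- The bound used in the definition of `GV`. -/
theorem add_le_of_lt {d : WithBot ℕ∞} {g j : ℕ} (hj : j ≤ g) (h : d < ((g - j + 1 : ℕ) : WithBot ℕ∞)) :
    d + (j : WithBot ℕ∞) ≤ g := by
  obtain rfl | ⟨n, rfl⟩ : d = ⊥ ∨ ∃ n : ℕ, d = (n : WithBot ℕ∞) := by
    induction d using WithBot.recBotCoe with
    | bot => exact Or.inl rfl
    | coe d =>
      induction d using ENat.recTopCoe with
      | top =>
        exfalso
        have h' : (⊤ : ℕ∞) < ((g - j + 1 : ℕ) : ℕ∞) := WithBot.coe_lt_coe.1 h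
        exact absurd h' (by simp)
      | coe d => exact Or.inr ⟨d, rfl⟩
  · simp
  · have h1 : n < g - j + 1 := by
      have h' : ((n : ℕ∞) : WithBot ℕ∞) < (((g - j + 1 : ℕ) : ℕ∞) : WithBot ℕ∞) := h
      exact_mod_cast WithBot.coe_lt_coe.1 h'
    have h2 : n + j ≤ g := by omega
    have h3 : (((n + j : ℕ) : ℕ∞) : WithBot ℕ∞) ≤ ((g : ℕ∞) : WithBot ℕ∞) := WithBot.coe_le_coe.2 (by exact_mod_cast h2)
    refine le_trans (le_of_eq ?_) h3
    push_cast
    rfl

end K527.DimSet
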