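import Groth.Agent.FormalB.PullCoh
import Groth.Agent.Fga.PicMon
import Groth.Agent.ASBun.K791.Tens
import Groth.Agent.Grpsch.Cube
import Groth.Agent.Ega3B.CohTensor
import Groth.Agent.Ega3B.FlatTensInv
import Groth.Agent.Ega1.TensorRestrict
import Groth.Agent.FormalB.PullCoh
import Groth.Agent.AbVar.K524.Kun

/-!
# Classes of modules: pull back, vanishing of cohomology, Künneth

`MC X` is the monoid of isomorphism classes of `O_X`-modules.
* `pm f : MC Y →* MC X` pull back; `ic : Pic X →* MC X`; `pm_ic`;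
* `V c n`: `H^n(X, c) = 0`; `QC`, `CO`: quasi-coherent, coherent classes;
* `V_pm_iso`, `V_box_iff`.
-/

set_option autoImplicit false
universe u

open CategoryTheory CategoryTheory.Limits MonoidalCategory CartesianMonoidalCategory AlgebraicGeometry
open Groth.Agent Groth.Agent.Fga.PicMon Groth.Agent.Grpsch.PicGrp Groth.Agent.Grpsch.Cube

namespace K527.Cls

variable {X Y Z : Scheme.{u}}

/-- Pull back of classes of modules. -/
noncomputable def pm (f : X ⟶ Y) : MC Y →* MC X where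
  toFun := Quot.lift (fun M => mc ((Scheme.Modules.pullback f).obj M))
    (fun _ _ ⟨e⟩ => mc_eq ((Scheme.Modules.pullback f).mapIso e))
  map_one' := mc_eq (ASBun.K791.Tens.pullUnit f)
  map_mul' a b := by
    induction a using MC.ind with | h L => ?_
    induction b using MC.ind with | h M => ?_
    exact mc_eq (ASBun.K791.Tens.pullTens f L M)

theorem pm_mc (f : X ⟶ Y) (M : Y.Modules) : pm f (mc M) = mc ((Scheme.Modules.pullback f).obj M) := rfl

theorem pm_comp (f : X ⟶ Y) (g : Y ⟶ Z) (c : MC Z) : pm (f ≫ g) c = pm f (pm g c) := by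
  induction c using MC.ind with | h L => ?_
  exact mc_eq ((Scheme.Modules.pullbackComp f g).app L).symm

theorem pm_id (c : MC X) : pm (𝟙 X) c = c := by
  induction c using MC.ind with | h L => ?_
  exact mc_eq ((Scheme.Modules.pullbackId X).app L)

/-- The class of an invertible class in the monoid of all modules. -/
noncomputable def ic (X : Scheme.{u}) : Pic X →* MC X where
  toFun := Quotient.lift (s := isoSetoid X) (fun L => mc L.1) (fun _ _ ⟨e⟩ => mc_eq e)
  map_one' := rfl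
  map_mul' a b := by
    induction a using ind with | _ L hL => ?_
    induction b using ind with | _ M hM => ?_
    rfl

theorem ic_mk {L : X.Modules} (hL : PicF.IsInvertible L) : ic X (mk L hL) = mc L := rfl

theorem pm_ic (f : X ⟶ Y) (c : Pic Y) : pm f (ic Y c) = ic X (pull f c) := by
  obtain ⟨L, hL, rfl⟩ := exists_mk c
  rw [pull_mk, ic_mk, ic_mk, pm_mc]

theorem ic_inv_mul (c : Pic X) : ic X c⁻¹ * ic X c = 1 := by
  rw [← map_mul, inv_mul_cancel, map_one]

theorem ic_mul_inv (c : Pic X) : ic X c * ic X c⁻¹ = 1 := by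
  rw [← map_mul, mul_inv_cancel, map_one]

/-! ### Cohomology -/

/-- `H^n(X, c) = 0`. -/
def V (c : MC X) (n : ℕ) : Prop :=
  Quot.lift (fun L : X.Modules => Subsingleton (Coh.HH X L n)) (fun _ _ ⟨e⟩ =>
    propext ⟨Flat2D.LocalGlobalH.subsingleton_HH_of_iso e n, Flat2D.LocalGlobalH.subsingleton_HH_of_iso e.symm n⟩) c

theorem V_mc (L : X.Modules) (n : ℕ) : V (mc L) n ↔ Subsingleton (Coh.HH X L n) := Iff.rfl

/-- quasi-coherent classes -/
def QC (c : MC X) : Prop := ∃ L : X.Modules, Coh.IsQCoh L ∧ mc L = c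

/-- coherent classes -/
def CO (c : MC X) : Prop := ∃ L : X.Modules, Coh.IsCoh L ∧ mc L = c

theorem CO.qc {c : MC X} (h : CO c) : QC c := by
  obtain ⟨L, hL, rfl⟩ := h
  exact ⟨L, hL.1, rfl⟩

theorem QC.mk' {L : X.Modules} (hL : Coh.IsQCoh L) : QC (mc L) := ⟨L, hL, rfl⟩

theorem CO.mk' {L : X.Modules} (hL : Coh.IsCoh L) : CO (mc L) := ⟨L, hL, rfl⟩

theorem CO.ic (c : Pic X) : CO (ic X c) := by
  obtain ⟨L, hL, rfl⟩ := exists_mk c
  exact ⟨L, Groth.Agent.S2329.isCoh_of_isInvertible hL, rfl⟩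

theorem CO.mul_ic {c : MC X} (h : CO c) (d : Pic X) : CO (c * K527.Cls.ic X d) := by
  obtain ⟨L, hL, rfl⟩ := h
  obtain ⟨M, hM, rfl⟩ := exists_mk d
  exact ⟨_, Ega3B.CohTensor.isCoh_tensor hL hM, rfl⟩

theorem QC.mul {c d : MC X} (h : QC c) (h' : QC d) : QC (c * d) := by
  obtain ⟨L, hL, rfl⟩ := h
  obtain ⟨M, hM, rfl⟩ := h'
  exact ⟨_, Ega1.TensorRestrict.isQCoh_tensorMod _ _ hL hM, rfl⟩

theorem QC.pm (f : X ⟶ Y) {c : MC Y} (h : QC c) : QC (pm f c) := by
  obtain ⟨L, hL, rfl⟩ := h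
  exact ⟨_, VarietyB.PullSec.isQCoh_pullback f L hL, rfl⟩

theorem CO.pm (f : X ⟶ Y) {c : MC Y} (h : CO c) : CO (K527.Cls.pm f c) := by
  obtain ⟨L, hL, rfl⟩ := h
  exact ⟨_, FormalB.PullCoh.isCoh_pullback f hL, rfl⟩

theorem V_pm_iso (e : X ⟶ Y) [IsIso e] {c : MC Y} (hc : QC c) (n : ℕ) : V (pm e c) n ↔ V c n := by
  obtain ⟨L, hL, rfl⟩ := hc
  exact Flat2H.ThickFibre.subsingleton_HH_pullback_iff e L hL n

/-! ### In the category of `k`-schemes -/

section Over

variable {k : Type u} [Field k] {A B C : Over (Spec (CommRingCat.of k))}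

/-- Pull back of classes of modules along a morphism of `k`-schemes. -/
noncomputable abbrev pmo (f : A ⟶ B) : MC B.left →* MC A.left := pm f.left

theorem pmo_comp (f : A ⟶ B) (g : B ⟶ C) (c : MC C.left) : pmo (f ≫ g) c = pmo f (pmo g c) := pm_comp _ _ _

theorem pmo_id (c : MC A.left) : pmo (𝟙 A) c = c := pm_id c

theorem pmo_ic (f : A ⟶ B) (c : Pic B.left) : pmo f (ic _ c) = ic _ (pl f c) := pm_ic _ _

theorem isIso_left (f : A ⟶ B) [IsIso f] : IsIso f.left :=
  inferInstanceAs (IsIso ((Over.forget (Spec (CommRingCat.of k))).map f))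

theorem V_pmo_iso (f : A ⟶ B) [IsIso f] {c : MC B.left} (hc : QC c) (n : ℕ) : V (pmo f c) n ↔ V c n := by
  have := isIso_left f
  exact V_pm_iso f.left hc n

end Over

end K527.Cls
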