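import Groth.Agent.AbVar.K527.FibreVan
import Groth.Agent.AbVar.K527.Cls
import Groth.Agent.AbVar.K512.Slice

/-!
# Vanishing above a bound from the rational fibres

`k` algebraically closed, `X` proper over `k`, `A` of finite type over `k`, `M` coherent on `X × A` and flat over `A`.
If for all `j ≥ 1` the rational points `y` of `A` with `H^j(X, M_y) ≠ 0` lie in a closed subset of dimension `≤ g - j`, and
`dim A ≤ g`, then `H^n(X × A, M) = 0` for `n > g`.
-/

set_option autoImplicit false
universe u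

open CategoryTheory CategoryTheory.Limits MonoidalCategory CartesianMonoidalCategory AlgebraicGeometry TopologicalSpace
open Groth.Agent Groth.Agent.Grpsch.PicGrp Groth.Agent.Grpsch.Cube

namespace K527.FibPts

/-- A closed set containing the closed points of another closed set contains it. -/
theorem subset_of_closedPoints {Y : Type*} [TopologicalSpace Y] [JacobsonSpace Y] {N Z : Set Y} (hN : IsClosed N)
    (hZ : IsClosed Z) (h : ∀ y, IsClosed ({y} : Set Y) → y ∈ N → y ∈ Z) : N ⊆ Z := by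
  have h1 := JacobsonSpace.closure_inter_closedPoints_eq_closure hN.isLocallyClosed
  rw [hN.closure_eq] at h1
  rw [← h1]
  exact closure_minimal (fun y hy => h y hy.2 hy.1) hZ

variable {k : Type u} [Field k] [IsAlgClosed k] {X A : Over (Spec (CommRingCat.of k))}

/-- The point of `A` underlying a rational point. -/
noncomputable def pt (y : 𝟙_ (Over (Spec (CommRingCat.of k))) ⟶ A) : A.left := y.left (IsLocalRing.closedPoint k)

omit [IsAlgClosed k] in
theorem range_eq (y : 𝟙_ (Over (Spec (CommRingCat.of k))) ⟶ A) : Set.range y.left.base = {pt y} := by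
  have h : Subsingleton ↥(Spec (CommRingCat.of k)) := inferInstanceAs (Subsingleton (PrimeSpectrum k))
  refine Set.eq_singleton_iff_unique_mem.2 ⟨Set.mem_range_self _, ?_⟩
  rintro _ ⟨x, rfl⟩
  exact congrArg y.left.base (h.elim x (IsLocalRing.closedPoint k))

omit [IsAlgClosed k] in
theorem range_subset_iff (y : 𝟙_ (Over (Spec (CommRingCat.of k))) ⟶ A) (Z : Set A.left) :
    Set.range y.left.base ⊆ Z ↔ pt y ∈ Z := by
  rw [range_eq, Set.singleton_subset_iff]

theorem subsingleton_HH [IsProper X.hom] [LocallyOfFiniteType A.hom] [QuasiCompact A.hom]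
    (M : (X ⊗ A).left.Modules) (hM : Coh.IsCoh M) (hfl : FlatMod.IsFlatOver (snd X A).left M)
    (g : ℕ) (hg : topologicalKrullDim A.left ≤ g) (Z : ℕ → Set A.left)
    (hZ : ∀ j, 1 ≤ j → IsClosed (Z j))
    (hd : ∀ j : ℕ, 1 ≤ j → topologicalKrullDim (Z j) + (j : WithBot ℕ∞) ≤ g)
    (hv : ∀ j, 1 ≤ j → ∀ y : 𝟙_ (Over (Spec (CommRingCat.of k))) ⟶ A, pt y ∉ Z j →
      Subsingleton (Coh.HH X.left ((Scheme.Modules.pullback (K512.Slice.j2 X y).left).obj M) j))
    (n : ℕ) (hn : g < n) : Subsingleton (Coh.HH (X ⊗ A).left M n) := by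
  have i1 : IsProper (snd X A).left := K512.Slice.isProper_snd
  have i2 : IsLocallyNoetherian A.left := LocallyOfFiniteType.isLocallyNoetherian A.hom
  have i3 : CompactSpace A.left := QuasiCompact.compactSpace_of_compactSpace A.hom
  have i4 : IsNoetherian A.left := { }
  have i5 : JacobsonSpace A.left := LocallyOfFiniteType.jacobsonSpace A.hom
  refine FibreVan.subsingleton_HH (snd X A).left M hM hfl g hg Z hZ hd (fun j hj => ?_) n hn
  have hsub : {y | Subsingleton (CohIII.fiberH (snd X A).left M y j)}ᶜ ⊆ Z j := by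
    refine subset_of_closedPoints (FibreVan.isOpen_van _ M hM hfl j).isClosed_compl (hZ j hj) fun y hy hyN => ?_
    by_contra hyZ
    obtain ⟨x, rfl⟩ := K512.Pts.exists_pt y hy
    obtain ⟨m, rfl⟩ : ∃ m, j = m + 1 := ⟨j - 1, by omega⟩
    refine hyN ((FibreVan.fiberH_iff _ M hM.1 x.left (K512.Slice.j2 X x).left (toUnit X).left
      (K512.Slice.isPullback_left_j2 x) m).2 (hv _ hj x hyZ))
  intro y hy
  by_contra h
  exact hy (hsub h)

theorem V_of_slices [IsProper X.hom] [LocallyOfFiniteType A.hom] [QuasiCompact A.hom]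
    (M : (X ⊗ A).left.Modules) (hM : Coh.IsCoh M) (hfl : FlatMod.IsFlatOver (snd X A).left M)
    (g : ℕ) (hg : topologicalKrullDim A.left ≤ g) (Z : ℕ → Set A.left)
    (hZ : ∀ j, 1 ≤ j → IsClosed (Z j))
    (hd : ∀ j : ℕ, 1 ≤ j → topologicalKrullDim (Z j) + (j : WithBot ℕ∞) ≤ g)
    (hv : ∀ j, 1 ≤ j → ∀ y : 𝟙_ (Over (Spec (CommRingCat.of k))) ⟶ A, pt y ∉ Z j →
      Cls.V (Cls.pm (K512.Slice.j2 X y).left (Fga.PicMon.mc M)) j)
    (n : ℕ) (hn : g < n) : Cls.V (Fga.PicMon.mc M) n :=
  subsingleton_HH M hM hfl g hg Z hZ hd hv n hn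

end K527.FibPts
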