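import Groth.Agent.EtpbcA.CdLeray
import Groth.Agent.CohqB.SuppVanish
import Groth.Agent.CohqB.RpushStalk
import Groth.Agent.CohtopA.PushClosed

/-!
# Vanishing above a bound for a map whose higher direct images have small support

`f : X ⟶ Y`, `Y` a Noetherian space of dimension `≤ g`, `F` an abelian sheaf on `X`, `Z j` closed in `Y` with
`dim Z j + j ≤ g` and `(R^j f_* F)_y = 0` for `y ∉ Z j` (`j ≥ 1`).  Then `H^n(X, F) = 0` for `n > g`.
-/

set_option autoImplicit false
universe u

open CategoryTheory Limits Opposite TopologicalSpace Abelian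
open Groth.Agent.CohtopB.TopPull

namespace K527.SuppVan

variable {X Y : TopCat.{u}}

/-- Elementary Leray vanishing. -/
theorem subsingleton_H_of_leray (f : X ⟶ Y) (F : CohTop.Ab X) (n : ℕ)
    (h0 : Subsingleton (CohTop.H ((CohTop.push f).obj F) n))
    (h : ∀ p q, p + (q + 1) = n → Subsingleton (CohTop.H ((CohTop.Rpush f (q + 1)).obj F) p)) :
    Subsingleton (CohTop.H F n) := by
  have h1 := Groth.Agent.EtpbcA.CdLeray.ext_subsingleton_of_leray (adj f)
    (Groth.Agent.CohtopA.PushClosed.ZZ Y) n F h0 h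
  refine (Groth.Agent.CohtopA.HTop.extPrecompIso
    (Groth.Agent.CohtopA.PushClosed.pullConstIso f).symm F n).symm.toEquiv.subsingleton

/-- A sheaf with zero stalks has no cohomology. -/
theorem subsingleton_H_of_stalks (F : CohTop.Ab Y) (h : ∀ y, Subsingleton (CohTop.stalk F y)) (n : ℕ) :
    Subsingleton (CohTop.H F n) := by
  refine Sheaf.subsingleton_H_of_isZero ?_ n
  have h1 : ∀ U : Opens Y, Subsingleton (F.obj.obj (op U)) := by
    intro U
    refine subsingleton_of_forall_eq 0 fun s => ?_
    refine TopCat.Presheaf.section_ext F U s 0 fun y hy => ?_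
    exact @Subsingleton.elim _ (h y) _ _
  rw [IsZero.iff_id_eq_zero]
  ext U s
  exact @Subsingleton.elim _ (h1 U.unop) _ _

/-- **Vanishing above a bound.** -/
theorem subsingleton_H (f : X ⟶ Y) [NoetherianSpace Y] (F : CohTop.Ab X) (g : ℕ)
    (hg : topologicalKrullDim Y ≤ g) (Z : ℕ → Set Y) (hZ : ∀ j, 1 ≤ j → IsClosed (Z j))
    (hd : ∀ j : ℕ, 1 ≤ j → topologicalKrullDim (Z j) + (j : WithBot ℕ∞) ≤ g)
    (hv : ∀ j, 1 ≤ j → ∀ y, y ∉ Z j → Subsingleton (CohTop.stalk ((CohTop.Rpush f j).obj F) y))
    (n : ℕ) (hn : g < n) : Subsingleton (CohTop.H F n) := by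
  refine subsingleton_H_of_leray f F n
    (Groth.Agent.CohtopA.NoethVanish.subsingleton_H_of_krullDim g hg _ n hn) fun p q hpq => ?_
  by_cases hne : (Z (q + 1)).Nonempty
  · have hd1 := hd (q + 1) (by omega)
    have hne' : Nonempty (Z (q + 1)) := hne.to_subtype
    have hN : NoetherianSpace (Z (q + 1)) := inferInstance
    obtain ⟨d, hd2⟩ : ∃ d : ℕ, topologicalKrullDim (Z (q + 1)) = d := by
      have h0 : (0 : WithBot ℕ∞) ≤ topologicalKrullDim (Z (q + 1)) := by
        rw [topologicalKrullDim]
        have : Nonempty (IrreducibleCloseds (Z (q + 1))) := by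
          obtain ⟨z⟩ := hne'
          exact ⟨⟨closure {z}, isIrreducible_singleton.closure, isClosed_closure⟩⟩
        exact Order.krullDim_nonneg
      have h1 : topologicalKrullDim (Z (q + 1)) ≤ g := by
        refine le_trans ?_ hd1
        exact le_add_of_nonneg_right (by exact_mod_cast Nat.zero_le _)
      generalize topologicalKrullDim (Z (q + 1)) = t at h0 h1
      induction t using WithBot.recBotCoe with
      | bot => simp at h0
      | coe t =>
        have h2 : t ≤ (g : ℕ∞) := by exact_mod_cast h1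
        obtain ⟨d, rfl⟩ := ENat.ne_top_iff_exists.1 (ne_top_of_le_ne_top (ENat.coe_ne_top g) h2)
        exact ⟨d, rfl⟩
    refine Groth.Agent.CohqB.SuppVanish.subsingleton_H_of_support (Z (q + 1)) (hZ _ (by omega)) d hd2.le _
      (hv (q + 1) (by omega)) p ?_
    rw [hd2] at hd1
    have : d + (q + 1) ≤ g := by exact_mod_cast hd1
    omega
  · refine subsingleton_H_of_stalks _ (fun y => hv (q + 1) (by omega) y fun hy => hne ⟨y, hy⟩) p

end K527.SuppVan
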