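import Groth.Agent.Ega3B.Package
import Groth.Agent.Ega3B.AcycNbhd
import Groth.Agent.Ega3B.SpecPoint
import Groth.Agent.Ega3B.RpushAff
import Groth.Agent.Coherent.K54.CxAlg
import Groth.Agent.Dcoh.DerSch
import Groth.Agent.Flat2D.LocalGlobalH
import Groth.Agent.AbVar.K527.SuppVan

/-!
# Vanishing of the cohomology of the fibres and of the higher direct images

`f : X ⟶ Y` proper, `Y` locally Noetherian, `F` coherent on `X` and flat over `Y`.
* `isOpen_van`: the set of `y` with `H^p(X_y, F_y) = 0` is open;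
* `subsingleton_HHon`: if `H^p(X_y, F_y) = 0` for all `y` in an affine open `V` then `H^p(f⁻¹ V, F) = 0`;
* `subsingleton_stalk`: if `H^p(X_y, F_y) = 0` then `(R^p f_* F)_y = 0`;
* `subsingleton_HH`: vanishing of `H^n(X, F)` for `n > g` from the dimensions of the loci `H^j(X_y, F_y) ≠ 0`.
-/

set_option autoImplicit false
universe u

open CategoryTheory Limits Opposite TopologicalSpace AlgebraicGeometry
open Groth.Agent Groth.Agent.Ega3B.SpecPoint

namespace K527.FibreVan

variable {X Y : Scheme.{u}} (f : X ⟶ Y) [IsProper f] [IsLocallyNoetherian Y] (F : X.Modules)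
  (hF : Coh.IsCoh F) (hfl : FlatMod.IsFlatOver f F) (p : ℕ)

include hF hfl in
theorem isOpen_van : IsOpen {y : Y | Subsingleton (CohIII.fiberH f F y p)} := by
  rw [isOpen_iff_forall_mem_open]
  intro y hy
  obtain ⟨V, hV, hyV⟩ := exists_affine_nhd y
  have hN := isNoetherianRing hV
  have hinj : HasInjectiveResolutions X.Modules := Dcoh.DerSch.hasInjectiveResolutions X
  obtain ⟨P, hP, hb, hH, hr⟩ := Ega3B.Package.package f F hF hfl V hV
  have hfin : ∀ z : V, Module.Finite (Y.residueField z.1) (CohIII.fiberH f F z.1 p) := fun z => (hr z p).1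
  have hrk := fun z : V => (hr z p).2
  have h1 := (hP (-(p : ℤ))).1
  have h2 := (hP (-(p : ℤ) - 1)).1
  have h3 := (hP (-(p : ℤ) - 1)).2
  have h4 : Module.FinitePresentation Γ(Y, V) (P.X (-(p : ℤ) - 1)) :=
    Module.finitePresentation_of_finite _ _
  have hsc := Ega3A.DRank.upperSemicontinuous_dRank P (-(p : ℤ)) (-(p : ℤ) - 1) (by simp)
  have hsub : ∀ z : V, Subsingleton (CohIII.fiberH f F z.1 p) ↔
      CohIII.dRank P (-(p : ℤ)) (hV.primeIdealOf z) < 1 := by
    intro z
    have := hfin z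
    rw [← hrk z, Nat.lt_one_iff, CohIII.fiberRank]
    exact Module.finrank_zero_iff.symm
  refine ⟨hV.fromSpec '' {x | CohIII.dRank P (-(p : ℤ)) x < 1}, ?_, ?_, ?_⟩
  · rintro _ ⟨x, hx, rfl⟩
    change Subsingleton _
    have := hsub ⟨hV.fromSpec x, fromSpec_mem hV x⟩
    rw [primeIdealOf_fromSpec] at this
    exact this.2 hx
  · exact hV.fromSpec.isOpenEmbedding.isOpenMap _ (hsc.isOpen_preimage 1)
  · refine ⟨hV.primeIdealOf ⟨y, hyV⟩, (hsub ⟨y, hyV⟩).1 hy, hV.fromSpec_primeIdealOf ⟨y, hyV⟩⟩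

include hF hfl in
theorem subsingleton_HHon {V : Y.Opens} (hV : IsAffineOpen V)
    (h : ∀ y ∈ V, Subsingleton (CohIII.fiberH f F y p)) : Subsingleton (Coh.HHon X F (f ⁻¹ᵁ V) p) := by
  have hN := isNoetherianRing hV
  have hinj : HasInjectiveResolutions X.Modules := Dcoh.DerSch.hasInjectiveResolutions X
  rw [← Ega3B.RpushAff.subsingleton_iff f F hF.1 hV p]
  obtain ⟨P, hP, hb, hH, hr⟩ := Ega3B.Package.package f F hF hfl V hV
  obtain ⟨e⟩ := hH p
  refine e.toEquiv.subsingleton_congr.2 ?_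
  have h0 : ∀ x, CohIII.dRank P (-(p : ℤ)) x = 0 := by
    intro x
    have h1 := (hr ⟨hV.fromSpec x, fromSpec_mem hV x⟩ p).2
    rw [primeIdealOf_fromSpec] at h1
    rw [← h1]
    have := h _ (fromSpec_mem hV x)
    exact Module.finrank_zero_of_subsingleton
  have hP' : ∀ i, Module.Finite Γ(Y, V) (P.X i) ∧ Module.Projective Γ(Y, V) (P.X i) := fun i => by
    have h1 := (hP i).1
    have h2 := (hP i).2
    have : Module.FinitePresentation Γ(Y, V) (P.X i) := Module.finitePresentation_of_finite _ _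
    exact ⟨h1, Module.Flat.projective_of_finitePresentation⟩
  exact ModuleCat.subsingleton_of_isZero (K54.CxAlg.isZero_homology_of_dRank_eq_zero P hP' _ h0)

include hF hfl in
/-- Vanishing of the fibre cohomology at `y` implies vanishing of the stalk of the higher direct image. -/
theorem subsingleton_stalk (y : Y) (h : Subsingleton (CohIII.fiberH f F y p)) :
    Subsingleton (CohTop.stalk ((CohTop.Rpush (X := X.toTopCat) (Y := Y.toTopCat) f.base p).obj (Coh.toAb F)) y) := by
  let U : Y.Opens := ⟨_, isOpen_van f F hF hfl p⟩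
  refine AddCommGrpCat.subsingleton_of_isZero
    (CohqB.RpushStalk.isZero_stalk_Rpush (X := X.toTopCat) (Y := Y.toTopCat) f.base (Coh.toAb F) p y
      fun V hyV ξ => ?_)
  obtain ⟨W, hW, hyW, hWV⟩ := exists_isAffineOpen_mem_and_subset (X := Y) (x := y) (U := V ⊓ U) ⟨hyV, h⟩
  refine ⟨W, fun z hz => (hWV hz).1, hyW, ?_⟩
  have h1 := (Flat2D.LocalGlobalH.HU_iff_HHon F (f ⁻¹ᵁ W) p).2
    (subsingleton_HHon f F hF hfl p hW fun z hz => (hWV hz).2)
  exact @Subsingleton.elim _ h1 _ _

include hF hfl in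
/-- **Vanishing above a bound.** -/
theorem subsingleton_HH [NoetherianSpace Y] (g : ℕ) (hg : topologicalKrullDim Y ≤ g) (Z : ℕ → Set Y)
    (hZ : ∀ j, 1 ≤ j → IsClosed (Z j))
    (hd : ∀ j : ℕ, 1 ≤ j → topologicalKrullDim (Z j) + (j : WithBot ℕ∞) ≤ g)
    (hv : ∀ j, 1 ≤ j → ∀ y, y ∉ Z j → Subsingleton (CohIII.fiberH f F y j))
    (n : ℕ) (hn : g < n) : Subsingleton (Coh.HH X F n) := by
  have : NoetherianSpace Y.toTopCat := ‹NoetherianSpace Y›
  exact SuppVan.subsingleton_H (X := X.toTopCat) (Y := Y.toTopCat) f.base (Coh.toAb F) g hg Z hZ hd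
    (fun j hj y hy => subsingleton_stalk f F hF hfl j y (hv j hj y hy)) n hn

omit [IsProper f] [IsLocallyNoetherian Y] in
/-- The cohomology of the fibre at a point and at its residue field. -/
theorem fiberH_iff [QuasiCompact f] [IsSeparated f] (hF : Coh.IsQCoh F) {K : Type u} [Field K]
    (t : Spec (CommRingCat.of K) ⟶ Y) {XK : Scheme.{u}}
    (g : XK ⟶ X) (πK : XK ⟶ Spec (CommRingCat.of K)) (H : IsPullback g πK f t) (n : ℕ) :
    Subsingleton (CohIII.fiberH f F (t (IsLocalRing.closedPoint K)) (n + 1)) ↔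
      Subsingleton (Coh.HH XK ((Scheme.Modules.pullback g).obj F) (n + 1)) := by
  let t0 : Spec (CommRingCat.of K) ⟶ Spec (Y.residueField (t (IsLocalRing.closedPoint K))) :=
    Spec.map (Y.descResidueField (Scheme.stalkClosedPointTo t))
  have ht : t0 ≫ Y.fromSpecResidueField _ = t :=
    Y.descResidueField_stalkClosedPointTo_fromSpecResidueField K t
  have H0 : IsPullback (f.fiberι (t (IsLocalRing.closedPoint K)))
      (f.fiberToSpecResidueField (t (IsLocalRing.closedPoint K))) f (Y.fromSpecResidueField _) :=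
    IsPullback.of_hasPullback _ _
  obtain ⟨g0, hg0, HK⟩ := Ega3B.AcycNbhd.factor H H0 t0 ht
  have hF' : Coh.IsQCoh ((Scheme.Modules.pullback (f.fiberι (t (IsLocalRing.closedPoint K)))).obj F) :=
    VarietyB.PullSec.isQCoh_pullback _ F hF
  have hfl : Flat t0 := inferInstance
  have hs : IsSeparated (f.fiberToSpecResidueField (t (IsLocalRing.closedPoint K))) :=
    MorphismProperty.pullback_snd (P := @IsSeparated) f _ ‹_›
  have hqc : QuasiCompact (f.fiberToSpecResidueField (t (IsLocalRing.closedPoint K))) :=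
    MorphismProperty.pullback_snd (P := @QuasiCompact) f _ ‹_›
  constructor
  · intro h
    exact Flat2D.LocalGlobalH.subsingleton_HH_of_iso (Ega3B.AcycNbhd.compIso g0 _ g hg0 F) _
      (Flat2D.LocalGlobalH.HH_of_flat HK _ hF' n h)
  · intro h
    refine Flat2D.LocalGlobalH.HH_of_flat_cover (κ := Unit) (fun _ => t0) (fun _ => g0) _ (fun _ => πK)
      (fun _ => HK) ?_ _ hF' n fun _ =>
        Flat2D.LocalGlobalH.subsingleton_HH_of_iso (Ega3B.AcycNbhd.compIso g0 _ g hg0 F).symm _ h
    intro s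
    exact ⟨(), IsLocalRing.closedPoint K, Subsingleton.elim _ _⟩

end K527.FibreVan
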