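import Groth.Agent.AbVar.K527.LocFree
import Groth.Agent.CurvesB.HZero
import Groth.Agent.S0002

/-!
# Free modules with finite dimensional sections have finite rank
-/

set_option autoImplicit false
universe u

open CategoryTheory CategoryTheory.Limits AlgebraicGeometry TopologicalSpace
open Groth.Agent Groth.Agent.Fga.PicMon K527.Cls K527.Seq K527.LocFree Groth.Agent.CurvesB.HZero

namespace K527.FreeFin

variable (k : Type u) [Field k] {X : Scheme.{u}} [X.Over (Spec (CommRingCat.of k))]

/-- The basis section. -/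
noncomputable def bs {X : Scheme.{u}} {J : Type u} (j : J) : Γ((SheafOfModules.free J : X.Modules), ⊤) :=
  (Scheme.Modules.Hom.app (M := Coh.structureModule X) (N := (SheafOfModules.free J : X.Modules))
    (SheafOfModules.ιFree j) ⊤) (1 : Γ(X, ⊤))

open Classical in
/-- The projection to a coordinate. -/
noncomputable def pr {X : Scheme.{u}} {J : Type u} (i : J) : (SheafOfModules.free J : X.Modules) ⟶ Coh.structureModule X :=
  Cofan.IsColimit.desc (SheafOfModules.isColimitFreeCofan J) (fun j => if j = i then 𝟙 _ else 0)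

open Classical in
theorem pr_bs {X : Scheme.{u}} {J : Type u} (i j : J) :
    Scheme.Modules.Hom.app (pr (X := X) i) ⊤ (bs j) =
      ((if j = i then 1 else 0 : Γ(X, ⊤)) : Γ(Coh.structureModule X, ⊤)) := by
  have key : ∀ φ : Coh.structureModule X ⟶ Coh.structureModule X, φ = (if j = i then 𝟙 _ else 0) →
      φ.app ⊤ (1 : Γ(X, ⊤)) = ((if j = i then 1 else 0 : Γ(X, ⊤)) : Γ(Coh.structureModule X, ⊤)) := by
    intro φ hφ
    split_ifs at hφ ⊢
    · rw [hφ]; rfl
    · rw [hφ]; rfl
  refine key ((SheafOfModules.ιFree j : Coh.structureModule X ⟶ (SheafOfModules.free J : X.Modules)) ≫ pr i) ?_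
  rw [pr, ← SheafOfModules.freeCofan_inj]
  exact Cofan.IsColimit.fac _ _ _

theorem finite_of_injective [IsProper (X ↘ Spec (CommRingCat.of k))] [Nonempty X] {L : X.Modules} (hL : Coh.IsCoh L)
    {J : Type u} (ev : (SheafOfModules.free J : X.Modules) ⟶ L)
    (hev : Function.Injective (Sheaf.H.map ((SheafOfModules.toSheaf X.ringCatSheaf).map ev) 0)) : Finite J := by
  have h1 := Groth.Agent.S0002.result k X L hL 0
  let _ := moduleΓ k L
  have h2 : Module.Finite k Γ(L, ⊤) := Module.Finite.equiv (equivLin k L)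
  have h3 : Function.Injective (Scheme.Modules.Hom.app ev ⊤) := by
    intro a b hab
    obtain ⟨x, rfl⟩ := (equivAdd _).surjective a
    obtain ⟨y, rfl⟩ := (equivAdd _).surjective b
    have h4 := equivAdd_map (X := X) ev x
    have h5 := equivAdd_map (X := X) ev y
    rw [← h4, ← h5] at hab
    rw [hev ((equivAdd _).injective hab)]
  have h4 : LinearIndependent k (fun j : J => (Scheme.Modules.Hom.app ev ⊤ (bs j) : Γ(L, ⊤))) := by
    classical
    rw [linearIndependent_iff']
    intro T c hc i hi
    have h5 : ∑ j ∈ T, (gl k X (c j)) • (bs (X := X) j) = 0 := by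
      apply h3
      rw [map_sum, map_zero, ← hc]
      refine Finset.sum_congr rfl fun j _ => ?_
      exact Scheme.Modules.Hom.app_smul ev _ _
    have h6 := congrArg (Scheme.Modules.Hom.app (pr (X := X) i) ⊤) h5
    rw [map_sum, map_zero] at h6
    have h7 : ∀ j, Scheme.Modules.Hom.app (pr (X := X) i) ⊤ ((gl k X (c j)) • (bs (X := X) j)) =
        (gl k X (c j) * (if j = i then 1 else 0) : Γ(X, ⊤)) := by
      intro j
      rw [Scheme.Modules.Hom.app_smul, pr_bs]
      rfl
    have h8 := (Finset.sum_eq_single_of_mem i hi (f := fun j => Scheme.Modules.Hom.app (pr (X := X) i) ⊤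
      ((gl k X (c j)) • (bs (X := X) j))) (fun j _ hji => by
        change Scheme.Modules.Hom.app (pr (X := X) i) ⊤ ((gl k X (c j)) • (bs (X := X) j)) = 0
        rw [h7, if_neg hji, mul_zero]
        rfl)).symm.trans h6
    rw [h7, if_pos rfl, mul_one] at h8
    by_contra hci
    obtain ⟨x⟩ := ‹Nonempty X›
    refine germ_gl_ne_zero (k := k) (X := X) (c i) hci x ?_
    rw [show gl k X (c i) = 0 from h8]
    exact map_zero _
  exact h4.finite

theorem isFinLocFree_free {X : Scheme.{u}} (J : Type u) [Finite J] :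
    FlatMod.IsFinLocFree (SheafOfModules.free J : X.Modules) := by
  obtain ⟨n, ⟨e⟩⟩ := Finite.exists_equiv_fin J
  let e1 : FlatMod.freeMod X n ≅ (SheafOfModules.free J : X.Modules) :=
    Limits.Sigma.whiskerEquiv (C := X.Modules) (f := fun _ : Fin n => Coh.structureModule X)
      (g := fun _ : J => Coh.structureModule X) e.symm (fun _ => Iso.refl _)
  exact Dcoh.ResFree.isFinLocFree_of_iso e1 (Dcoh.ResFree.isFinLocFree_freeMod n)

/-- The kernel of an evaluation map is locally free. -/
theorem lf_kernel [IsProper (X ↘ Spec (CommRingCat.of k))] [Nonempty X] {L : X.Modules} (hL : PicF.IsInvertible L)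
    {J : Type u} (ev : (SheafOfModules.free J : X.Modules) ⟶ L) [Epi ev]
    (hev : Function.Injective (Sheaf.H.map ((SheafOfModules.toSheaf X.ringCatSheaf).map ev) 0)) :
    FlatMod.IsFinLocFree (kernel ev) := by
  have : Finite J := finite_of_injective k (Groth.Agent.S2329.isCoh_of_isInvertible hL) ev hev
  refine @Dcoh.Spread.isFinLocFree_kernel _ _ _ ev ‹_› (isFinLocFree_free J) fun x => ?_
  obtain ⟨U, hx, e⟩ := Ega2.QCohLocal.isFinLocFreeOfRank_one_iff.2 hL x
  exact ⟨U, 1, hx, e⟩

end K527.FreeFin
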