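import Mathlib.CategoryTheory.Abelian.Exact
import Mathlib.CategoryTheory.Preadditive.Basic
import Mathlib.Algebra.Homology.ShortComplex.ShortExact
import Mathlib.Algebra.Homology.ShortComplex.PreservesHomology
import Mathlib.FieldTheory.IsAlgClosed.Basic
import Mathlib.RingTheory.Artinian.Algebra
import Mathlib.RingTheory.Ideal.AssociatedPrime.Basic
import Mathlib.LinearAlgebra.Dual.Lemmas

/-!
# Filtrations of an object with an action of a finite dimensional commutative algebra

`F : C ⥤ D` exact, `E : C` with an action `T` of a finite dimensional commutative algebra `R` over an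
algebraically closed field `k`, and `F E ≅ Hom_k(R, O)`.  Then `E` has a finite filtration with graded
pieces `Q` with `F Q ≅ O` (`Filt`): annihilators of a composition series of ideals of `R`.
-/

set_option autoImplicit false

universe v₁ v₂ u₁ u₂ w

open CategoryTheory CategoryTheory.Limits

namespace K527.AbsFilt

/-- Objects with a finite filtration whose graded pieces satisfy `Q`. -/
inductive Filt {C : Type u₁} [Category.{v₁} C] [Abelian C] (Q : C → Prop) : C → Prop
  | zero (E : C) (h : IsZero E) : Filt Q E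
  | ext (S : ShortComplex C) (hS : S.ShortExact) (h1 : Filt Q S.X₁) (h3 : Q S.X₃) : Filt Q S.X₂

section Alg

variable (k : Type w) [Field k] [IsAlgClosed k] {R : Type w} [CommRing R] [Algebra k R] [Module.Finite k R]

/-- A proper ideal has an element `u` outside with `R u = k u` modulo the ideal. -/
theorem exists_socle (I : Ideal R) (hI : I ≠ ⊤) :
    ∃ u : R, u ∉ I ∧ ∀ r : R, ∃ a : k, (r - algebraMap k R a) * u ∈ I := by
  have hart : IsNoetherianRing R := IsNoetherianRing.of_finite k R
  have hne : Nontrivial (R ⧸ I) := Ideal.Quotient.nontrivial_iff.2 hI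
  obtain ⟨P, hP⟩ := associatedPrimes.nonempty R (R ⧸ I)
  obtain ⟨hP1, x, hx⟩ := isAssociatedPrime_iff.1 (AssociatedPrimes.mem_iff.1 hP)
  obtain ⟨u, rfl⟩ := Ideal.Quotient.mk_surjective x
  have hmem : ∀ r : R, r ∈ P ↔ r * u ∈ I := by
    intro r
    rw [hx, Submodule.mem_colon_singleton, Submodule.mem_bot, ← Ideal.Quotient.eq_zero_iff_mem,
      map_mul]
    rfl
  refine ⟨u, ?_, ?_⟩
  · intro hu
    apply hP1.ne_top
    rw [Ideal.eq_top_iff_one, hmem, one_mul]
    exact hu
  · intro r
    have : Module.Finite k (R ⧸ P) := Module.Finite.of_surjective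
      (Ideal.Quotient.mkₐ k P).toLinearMap Ideal.Quotient.mk_surjective
    obtain ⟨a, ha⟩ := (IsAlgClosed.algebraMap_bijective_of_isIntegral (k := k) (K := R ⧸ P)).2
      (Ideal.Quotient.mk P r)
    refine ⟨a, (hmem _).1 ?_⟩
    rw [← Ideal.Quotient.eq_zero_iff_mem, map_sub, sub_eq_zero, ← ha]
    rfl

end Alg

section Main

variable {C : Type u₁} [Category.{v₁} C] [Abelian C] {D : Type u₂} [Category.{v₂} D] [Abelian D]
  (F : C ⥤ D) [F.Additive] [PreservesFiniteLimits F] [PreservesFiniteColimits F]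
  {R : Type w} [CommRing R] {E : C} (T : R →+* End E)

/-- `ι : K ⟶ E` is the annihilator of `I` in `E`, also after applying `F`. -/
structure IsAnn (I : Ideal R) {K : C} (ι : K ⟶ E) : Prop where
  mono : Mono ι
  zero : ∀ v ∈ I, ι ≫ T v = 0
  fac : ∀ {Z : C} (z : Z ⟶ E), (∀ v ∈ I, z ≫ T v = 0) → ∃ y, y ≫ ι = z
  facF : ∀ {Z : D} (z : Z ⟶ F.obj E), (∀ v ∈ I, z ≫ F.map (T v) = 0) → ∃ y, y ≫ F.map ι = z

theorem T_mul (a b : R) : (T (a * b) : E ⟶ E) = T a ≫ T b := by
  rw [mul_comm, map_mul]
  rfl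

theorem T_add (a b : R) : (T (a + b) : E ⟶ E) = T a + T b := by
  rw [map_add]

theorem T_one : (T 1 : E ⟶ E) = 𝟙 E := by
  rw [map_one]
  rfl

omit [F.Additive] in
theorem exists_isAnn (W : C → Prop) (hE : W E)
    (hW : ∀ {M N : C} (φ : M ⟶ N), W M → W N → W (kernel φ)) [IsNoetherianRing R] (I : Ideal R) :
    ∃ (K : C) (ι : K ⟶ E), IsAnn F T I ι ∧ W K := by
  classical
  obtain ⟨s, rfl⟩ := IsNoetherian.noetherian I
  induction s using Finset.induction_on with
  | empty =>
    refine ⟨E, 𝟙 E, ⟨inferInstance, ?_, fun z _ => ⟨z, Category.comp_id _⟩, fun z _ => ⟨z, ?_⟩⟩, hE⟩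
    · intro v hv
      simp only [Finset.coe_empty, Submodule.span_empty, Submodule.mem_bot] at hv
      subst hv
      rw [map_zero]
      exact comp_zero
    · rw [F.map_id, Category.comp_id]
  | insert v s hv ih =>
    obtain ⟨K, ι, hι, hK⟩ := ih
    have := hι.mono
    refine ⟨kernel (ι ≫ T v), kernel.ι _ ≫ ι, ⟨mono_comp _ _, ?_, ?_, ?_⟩, hW _ hK hE⟩
    · intro w hw
      rw [Finset.coe_insert, Submodule.mem_span_insert] at hw
      obtain ⟨a, z, hz, rfl⟩ := hw
      rw [T_add, Preadditive.comp_add, smul_eq_mul, mul_comm, T_mul, Category.assoc, Category.assoc,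
        hι.zero z hz, comp_zero, add_zero, ← Category.assoc ι, kernel.condition_assoc, zero_comp]
    · intro Z z hz
      obtain ⟨y, rfl⟩ := hι.fac z fun w hw => hz w (Submodule.span_mono (by simp) hw)
      refine ⟨kernel.lift _ y ?_, ?_⟩
      · have := hz v (Submodule.subset_span (by simp))
        rwa [Category.assoc] at this
      · rw [← Category.assoc, kernel.lift_ι]
    · intro Z z hz
      obtain ⟨y, rfl⟩ := hι.facF z fun w hw => hz w (Submodule.span_mono (by simp) hw)
      have h := hz v (Submodule.subset_span (by simp))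
      rw [Category.assoc, ← F.map_comp] at h
      let hl := isLimitForkMapOfIsLimit' F (kernel.condition (ι ≫ T v)) (kernelIsKernel (ι ≫ T v))
      obtain ⟨l, hl'⟩ := KernelFork.IsLimit.lift' hl y h
      refine ⟨l, ?_⟩
      rw [F.map_comp, ← Category.assoc]
      exact congrArg (· ≫ F.map ι) hl'

variable {F T}

theorem IsAnn.mapMono {I : Ideal R} {K : C} {ι : K ⟶ E} (h : IsAnn F T I ι) : Mono (F.map ι) :=
  have := h.mono
  inferInstance

variable {O : D} (c : F.obj E ⟶ O)

/-- the functional attached to `u`. -/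
def Θ (F : C ⥤ D) (T : R →+* End E) (c : F.obj E ⟶ O) (u : R) : F.obj E ⟶ O := F.map (T u) ≫ c

omit [PreservesFiniteLimits F] [PreservesFiniteColimits F] in
theorem Θ_add (u v : R) : Θ F T c (u + v) = Θ F T c u + Θ F T c v := by
  rw [Θ, T_add, F.map_add, Preadditive.add_comp]
  rfl

omit [F.Additive] [PreservesFiniteLimits F] [PreservesFiniteColimits F] in
theorem Θ_mul (u v : R) : Θ F T c (u * v) = F.map (T u) ≫ Θ F T c v := by
  rw [Θ, Θ, T_mul, F.map_comp, Category.assoc]

variable {k : Type w} [Field k] [Algebra k R] (τ : k →+* End O)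

/-- The hypotheses on `F E ≅ Hom_k(R, O)`. -/
structure Data : Prop where
  smul : ∀ (a : k) (u : R), Θ F T c (algebraMap k R a * u) = Θ F T c u ≫ τ a
  ext : ∀ {Z : D} (z z' : Z ⟶ F.obj E), (∀ u, z ≫ Θ F T c u = z' ≫ Θ F T c u) → z = z'
  ex : ∀ ℓ : R →ₗ[k] k, ∃ s : O ⟶ F.obj E, ∀ u, s ≫ Θ F T c u = τ (ℓ u)

variable {c τ}

theorem Data.step (h : Data (F := F) (T := T) c τ) {I I' : Ideal R} (hII : I ≤ I') {u : R} (hu : u ∈ I')
    (huI : u ∉ I) (hI' : ∀ w ∈ I', ∃ a : k, w - algebraMap k R a * u ∈ I)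
    {K K' : C} {ι : K ⟶ E} {ι' : K' ⟶ E} (hι : IsAnn F T I ι) (hι' : IsAnn F T I' ι') :
    ∃ j : K' ⟶ K, Mono j ∧ j ≫ ι = ι' ∧ Nonempty (F.obj (cokernel j) ≅ O) := by
  have hm := hι.mono
  have hm' := hι'.mono
  have hFm := hι.mapMono
  have hFm' := hι'.mapMono
  obtain ⟨j, hj⟩ := hι.fac ι' fun v hv => hι'.zero v (hII hv)
  have hjm : Mono j := by
    have : Mono (j ≫ ι) := by rw [hj]; exact hm'
    exact mono_of_mono j ι
  refine ⟨j, hjm, hj, ?_⟩
  -- the functional `θ`
  have hFj : F.map j ≫ F.map ι = F.map ι' := by rw [← F.map_comp, hj]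
  have hzI : ∀ v ∈ I, F.map ι ≫ Θ F T c v = 0 := by
    intro v hv
    rw [Θ, ← Category.assoc, ← F.map_comp, hι.zero v hv, F.map_zero, zero_comp]
  have hzI' : ∀ v ∈ I', F.map ι' ≫ Θ F T c v = 0 := by
    intro v hv
    rw [Θ, ← Category.assoc, ← F.map_comp, hι'.zero v hv, F.map_zero, zero_comp]
  set θ : F.obj K ⟶ O := F.map ι ≫ Θ F T c u with hθ
  have hw : F.map j ≫ θ = 0 := by
    rw [hθ, ← Category.assoc, hFj, hzI' u hu]
  -- factorization
  have hfac : ∀ {Z : D} (z : Z ⟶ F.obj K), z ≫ θ = 0 → ∃ y : Z ⟶ F.obj K', y ≫ F.map j = z := by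
    intro Z z hz
    have h1 : ∀ w ∈ I', z ≫ F.map ι ≫ Θ F T c w = 0 := by
      intro w hw
      obtain ⟨a, ha⟩ := hI' w hw
      have hsplit : w = (w - algebraMap k R a * u) + algebraMap k R a * u := by ring
      rw [hsplit, Θ_add, Preadditive.comp_add, hzI _ ha, zero_add, h.smul, ← Category.assoc,
        ← Category.assoc, Category.assoc z, ← hθ, hz, zero_comp]
    obtain ⟨y, hy⟩ := hι'.facF (z ≫ F.map ι) (by
      intro v hv
      apply h.ext
      intro x
      rw [zero_comp, Category.assoc, Category.assoc, ← Θ_mul]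
      exact h1 _ (I'.mul_mem_right _ hv))
    refine ⟨y, ?_⟩
    rw [← cancel_mono (F.map ι), Category.assoc, hFj, hy]
  -- `θ` is a split epi
  obtain ⟨f, hfv, hfI⟩ := Submodule.exists_le_ker_of_notMem (K := k)
    (p := (I.restrictScalars k : Submodule k R)) (v := u) huI
  obtain ⟨s, hs⟩ := h.ex ((f u)⁻¹ • f)
  have hsI : ∀ v ∈ I, s ≫ Θ F T c v = 0 := by
    intro v hv
    rw [hs, LinearMap.smul_apply, show f v = 0 from hfI hv, smul_zero, map_zero]
  obtain ⟨t, ht⟩ := hι.facF s (by
    intro v hv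
    apply h.ext
    intro x
    rw [zero_comp, Category.assoc, ← Θ_mul]
    exact hsI _ (I.mul_mem_right _ hv))
  have htθ : t ≫ θ = 𝟙 O := by
    rw [hθ, ← Category.assoc, ht, hs, LinearMap.smul_apply, smul_eq_mul, inv_mul_cancel₀ hfv,
      map_one]
    rfl
  have hepi : Epi θ := by
    have : IsSplitEpi θ := ⟨⟨⟨t, htθ⟩⟩⟩
    infer_instance
  -- compare cokernels
  have hmono : Mono (F.map j) := inferInstance
  let S' : ShortComplex D := ShortComplex.mk (F.map j) θ hw
  have hS' : S'.Exact := by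
    apply ShortComplex.exact_of_f_is_kernel
    exact KernelFork.IsLimit.ofι' _ _ fun {Z} z hz =>
      ⟨(hfac z hz).choose, (hfac z hz).choose_spec⟩
  have : Mono S'.f := hmono
  have : Epi S'.g := hepi
  have hc1 := hS'.gIsCokernel
  have hc2 := isColimitCoforkMapOfIsColimit' F (cokernel.condition j) (cokernelIsCokernel j)
  exact ⟨hc2.coconePointUniqueUpToIso hc1⟩

/-- **Filtration.** -/
theorem Data.filt [IsAlgClosed k] [Module.Finite k R] (h : Data (F := F) (T := T) c τ)
    (W : C → Prop) (hE : W E) (hW : ∀ {M N : C} (φ : M ⟶ N), W M → W N → W (kernel φ))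
    (hW' : ∀ {M N : C} (φ : M ⟶ N), W M → W N → W (cokernel φ)) :
    Filt (fun M => W M ∧ Nonempty (F.obj M ≅ O)) E := by
  have hN : IsNoetherianRing R := IsNoetherianRing.of_finite k R
  have key : ∀ (I : Ideal R) (K : C) (ι : K ⟶ E), IsAnn F T I ι → W K →
      Filt (fun M => W M ∧ Nonempty (F.obj M ≅ O)) K := by
    intro I
    induction I using WellFoundedGT.induction with
    | ind I ih =>
      intro K ι hι hK
      by_cases hI : I = ⊤
      · refine Filt.zero _ ?_
        have h0 : ι = 0 := by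
          have := hι.zero 1 (by rw [hI]; exact Submodule.mem_top)
          rwa [T_one, Category.comp_id] at this
        have := hι.mono
        rw [IsZero.iff_id_eq_zero, ← cancel_mono ι, h0, comp_zero, comp_zero]
      · obtain ⟨u, huI, hu⟩ := exists_socle k I hI
        have hlt : I < I ⊔ Ideal.span {u} :=
          lt_of_le_of_ne le_sup_left fun he => huI (by
            rw [he]
            exact Ideal.mem_sup_right (Ideal.mem_span_singleton_self u))
        obtain ⟨K', ι', hι', hK'⟩ := exists_isAnn F T W hE hW (I ⊔ Ideal.span {u})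
        obtain ⟨j, hj, hjι, hc⟩ := h.step (I := I) (I' := I ⊔ Ideal.span {u}) le_sup_left
          (Ideal.mem_sup_right (Ideal.mem_span_singleton_self u)) huI (by
            intro w hw
            obtain ⟨i, hi, z, hz, rfl⟩ := Submodule.mem_sup.1 hw
            obtain ⟨r, rfl⟩ := Ideal.mem_span_singleton'.1 hz
            obtain ⟨a, ha⟩ := hu r
            refine ⟨a, ?_⟩
            have : i + r * u - algebraMap k R a * u = i + (r - algebraMap k R a) * u := by ring
            rw [this]
            exact I.add_mem hi ha) hι hι'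
        have hf := ih _ hlt K' ι' hι' hK'
        refine Filt.ext (ShortComplex.mk j (cokernel.π j) (cokernel.condition j)) ?_ hf
          ⟨hW' _ hK' hK, hc⟩
        exact { exact := ShortComplex.exact_cokernel j }
  have h0 : IsAnn F T ⊥ (𝟙 E) := by
    refine ⟨inferInstance, ?_, fun z _ => ⟨z, Category.comp_id _⟩, fun z _ => ⟨z, ?_⟩⟩
    · intro v hv
      rw [(Submodule.mem_bot R).1 hv, map_zero]
      exact comp_zero
    · rw [F.map_id, Category.comp_id]
  exact key ⊥ E (𝟙 E) h0 hE

end Main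

end K527.AbsFilt
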