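import Groth.Agent.VarietyB.ProjForm
import Groth.Agent.VarietyB.PullSec
import Groth.Agent.Ega1.TensorRestrict
import Groth.Agent.CohqA.PullbackQCoh
import Groth.Agent.Ega1.QcqsPush
import Mathlib.RingTheory.TensorProduct.IsBaseChangeHom

/-!
# Projection formula for affine morphisms and quasi-coherent modules

`E ⊗ f_* G ≅ f_* (f^* E ⊗ G)` for `f` affine, `E` and `G` quasi-coherent.
-/

set_option autoImplicit false
universe u

open CategoryTheory CategoryTheory.Limits AlgebraicGeometry Opposite TopologicalSpace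
open scoped TensorProduct
open Groth.Agent Groth.Agent.Ega1.TensorRestrict Groth.Agent.VarietyB.PullSec Groth.Agent.VarietyB.ProjForm

namespace K527.ProjAff

theorem exists_equiv {A B M M' N : Type u} [CommRing A] [CommRing B] [Algebra A B] [AddCommGroup M]
    [Module A M] [AddCommGroup M'] [Module A M'] [Module B M'] [IsScalarTower A B M'] [AddCommGroup N] [Module A N]
    [Module B N] [IsScalarTower A B N] (β : M →ₗ[A] M') (hβ : IsBaseChange B β) :
    ∃ e : M ⊗[A] N ≃+ M' ⊗[B] N, ∀ m n, e (m ⊗ₜ n) = β m ⊗ₜ n := by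
  let e1 : M ⊗[A] N ≃ₗ[A] N ⊗[A] M := TensorProduct.comm A M N
  let e2 : N ⊗[B] (B ⊗[A] M) ≃ₗ[B] N ⊗[A] M := TensorProduct.AlgebraTensorModule.cancelBaseChange A B B N M
  let e3 : N ⊗[B] (B ⊗[A] M) ≃ₗ[B] N ⊗[B] M' := TensorProduct.congr (LinearEquiv.refl B N) hβ.equiv
  let e4 : N ⊗[B] M' ≃ₗ[B] M' ⊗[B] N := TensorProduct.comm B N M'
  refine ⟨e1.toAddEquiv.trans (e2.symm.toAddEquiv.trans (e3.toAddEquiv.trans e4.toAddEquiv)), fun m n => ?_⟩
  change e4 (e3 (e2.symm (n ⊗ₜ m))) = _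
  have h1 : e2.symm (n ⊗ₜ m) = n ⊗ₜ (1 ⊗ₜ m) := by
    rw [LinearEquiv.symm_apply_eq]
    simp [e2]
  rw [h1]
  change e4 (n ⊗ₜ hβ.equiv (1 ⊗ₜ m)) = _
  rw [IsBaseChange.equiv_tmul, one_smul]
  rfl

variable {X Y : Scheme.{u}} (f : X ⟶ Y) [IsAffineHom f] (E : Y.Modules) (G : X.Modules)

theorem bijective_app (hE : Coh.IsQCoh E) (hG : Coh.IsQCoh G) {V : Y.Opens} (hV : IsAffineOpen V) :
    Function.Bijective ((projMor f E G).app V) := by
  have hG' : Coh.IsQCoh ((Scheme.Modules.pushforward f).obj G) := Ega1.QcqsPush.isQCoh_pushforward f G hG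
  have hE' : Coh.IsQCoh ((Scheme.Modules.pullback f).obj E) := isQCoh_pullback f E hE
  have hU : IsAffineOpen (f ⁻¹ᵁ V) := hV.preimage f
  have h1 := bijective_toT E ((Scheme.Modules.pushforward f).obj G) hE hG' hV
  have h2 := bijective_toT ((Scheme.Modules.pullback f).obj E) G hE' hG hU
  let _ : Algebra Γ(Y, V) Γ(X, f ⁻¹ᵁ V) := (f.appLE V (f ⁻¹ᵁ V) le_rfl).hom.toAlgebra
  let _ := secModule f E (le_refl (f ⁻¹ᵁ V))
  have i1 : IsScalarTower Γ(Y, V) Γ(X, f ⁻¹ᵁ V) Γ((Scheme.Modules.pullback f).obj E, f ⁻¹ᵁ V) :=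
    ⟨fun a b c => by rw [Algebra.smul_def, mul_smul]; rfl⟩
  have hb := isBaseChange_secₗ f E (le_refl (f ⁻¹ᵁ V)) hE hV hU
  let _ : Module Γ(Y, V) Γ(G, f ⁻¹ᵁ V) := (((Scheme.Modules.pushforward f).obj G).val.obj (op V)).isModule
  have i2 : IsScalarTower Γ(Y, V) Γ(X, f ⁻¹ᵁ V) Γ(G, f ⁻¹ᵁ V) := by
    refine ⟨fun a b c => ?_⟩
    rw [Algebra.smul_def, mul_smul]
    change (f.appLE V (f ⁻¹ᵁ V) le_rfl) a • b • c = (f.app V a) • b • c
    rw [Scheme.Hom.appLE_eq_app]
  obtain ⟨e, he⟩ : ∃ e : PT E ((Scheme.Modules.pushforward f).obj G) V ≃+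
      PT ((Scheme.Modules.pullback f).obj E) G (f ⁻¹ᵁ V),
      ∀ (m : Γ(E, V)) (n : Γ((Scheme.Modules.pushforward f).obj G, V)),
        e (m ⊗ₜ n) = sec f E (le_refl (f ⁻¹ᵁ V)) m ⊗ₜ[Γ(X, f ⁻¹ᵁ V)] (show Γ(G, f ⁻¹ᵁ V) from n) :=
    exists_equiv (N := Γ(G, f ⁻¹ᵁ V)) _ hb
  have key : ∀ x, (projMor f E G).app V (toT E ((Scheme.Modules.pushforward f).obj G) V x) =
      toT ((Scheme.Modules.pullback f).obj E) G (f ⁻¹ᵁ V) (e x) := by
    intro x
    induction x using TensorProduct.induction_on with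
    | zero => simp only [map_zero]; rfl
    | tmul m n =>
      rw [he]
      refine (projMor_tmul f E G m n).trans ?_
      congr 2
      exact (Fdesc.LocGen.res_refl _ _).symm
    | add x y hx hy => simp only [map_add, hx, hy]; rfl
  rw [← Function.Bijective.of_comp_iff _ h1]
  have h3 : (projMor f E G).app V ∘ toT E ((Scheme.Modules.pushforward f).obj G) V =
      toT ((Scheme.Modules.pullback f).obj E) G (f ⁻¹ᵁ V) ∘ e := funext key
  rw [h3]
  exact h2.comp e.bijective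

theorem isIso_projMor (hE : Coh.IsQCoh E) (hG : Coh.IsQCoh G) : IsIso (projMor f E G) := by
  refine CohqA.PullbackQCoh.isIso_of_bijective_basis _ (ι := Y.affineOpens) Subtype.val ?_ fun V =>
    bijective_app f E G hE hG V.2
  rw [Subtype.range_coe_subtype]
  exact Y.isBasis_affineOpens

/-- **Projection formula.** -/
noncomputable def projIso (hE : Coh.IsQCoh E) (hG : Coh.IsQCoh G) :
    CohB1.tensorMod E ((Scheme.Modules.pushforward f).obj G) ≅
      (Scheme.Modules.pushforward f).obj (CohB1.tensorMod ((Scheme.Modules.pullback f).obj E) G) :=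
  haveI := isIso_projMor f E G hE hG
  asIso (projMor f E G)

end K527.ProjAff
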