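import Groth.Agent.Dcoh.FlatSES
import Groth.Agent.Dcoh.Spread
import Groth.Agent.Ega2.QCohLocal
import Groth.Agent.VarietyB.TensCoh
import Groth.Agent.VarietyA.EulerLES
import Groth.Agent.CohtopA.NoethVanish
import Groth.Agent.VarietyB.HHPush
import Groth.Agent.Fdesc.StructMod
import Groth.Agent.AbVar.K527.AbsFilt
import Groth.Agent.AbVar.K527.Cls
import Groth.Agent.AbVar.K527.ProjAff

/-!
# Vanishing of cohomology along a finite morphism with filtered direct image

`f : X' ⟶ X` affine, `K` a subgroup of `Pic X` killed by `f^*`, and `f_* O` has a finite filtration with graded pieces in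
`K` (`InF`).  For a quasi-coherent class `c` on `X`:
* `V_pm_of_forall`: if `H^i(X, c κ) = 0` for all `κ ∈ K` then `H^i(X', f^* c) = 0`;
* `V_of_pm`: if `H^j(X', f^* c) = 0` for all `j ≥ i` then `H^j(X, c κ) = 0` for all `κ ∈ K` and `j ≥ i`.
-/

set_option autoImplicit false
universe u

open CategoryTheory CategoryTheory.Limits AlgebraicGeometry TopologicalSpace
open Groth.Agent Groth.Agent.Grpsch.PicGrp Groth.Agent.Fga.PicMon K527.Cls K527.AbsFilt
open Groth.Agent.VarietyA.EulerLES (exact₂ exact₃)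

namespace K527.FiltVan

variable {X : Scheme.{u}}

theorem isFlat_of_isInvertible {M : X.Modules} (h : PicF.IsInvertible M) : FlatMod.IsFlat M :=
  Dcoh.Spread.isFlat_of_isFinLocFree fun x => by
    obtain ⟨U, hx, e⟩ := Ega2.QCohLocal.isFinLocFreeOfRank_one_iff.2 h x
    exact ⟨U, 1, hx, e⟩

/-- The module has a finite filtration with graded pieces in `K`. -/
def InF (K : Set (Pic X)) (E : X.Modules) : Prop :=
  Filt (fun M : X.Modules => ∃ (hM : PicF.IsInvertible M), mk M hM ∈ K) E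

/-- Finitely many classes suffice. -/
theorem InF.exists_finite {K : Set (Pic X)} {E : X.Modules} (hE : InF K E) :
    ∃ S : Set (Pic X), S.Finite ∧ S ⊆ K ∧ InF S E := by
  have mono : ∀ {S T : Set (Pic X)} {E : X.Modules}, S ⊆ T → InF S E → InF T E := by
    intro S T E hST h
    induction h with
    | zero E hz => exact Filt.zero E hz
    | ext S hS h1 h3 ih =>
      obtain ⟨hM, hκ⟩ := h3
      exact Filt.ext S hS ih ⟨hM, hST hκ⟩
  induction hE with
  | zero E hz => exact ⟨∅, Set.finite_empty, Set.empty_subset _, Filt.zero E hz⟩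
  | ext S hS h1 h3 ih =>
    obtain ⟨T, hT, hTK, hT'⟩ := ih
    obtain ⟨hM, hκ⟩ := h3
    refine ⟨insert (mk S.X₃ hM) T, hT.insert _, Set.insert_subset hκ hTK, ?_⟩
    exact Filt.ext S hS (mono (Set.subset_insert _ _) hT') ⟨hM, Set.mem_insert _ _⟩

section LES

variable {S : ShortComplex X.Modules} (hS : S.ShortExact) (h3 : FlatMod.IsFlat S.X₃)

include hS h3 in
theorem V_mid (c : MC X) (i : ℕ) (v1 : V (c * mc S.X₁) i) (v3 : V (c * mc S.X₃) i) : V (c * mc S.X₂) i := by
  induction c using MC.ind with | h G => ?_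
  have hT := Dcoh.FlatSES.shortExact_tensor' hS h3 G
  have i1 : Subsingleton (Coh.HH X (S.map (DCoh.tensorBi.obj G)).X₁ i) := v1
  have i3 : Subsingleton (Coh.HH X (S.map (DCoh.tensorBi.obj G)).X₃ i) := v3
  change Subsingleton (Coh.HH X (S.map (DCoh.tensorBi.obj G)).X₂ i)
  refine subsingleton_of_forall_eq 0 fun x => ?_
  obtain ⟨y, rfl⟩ := (exact₂ _ hT i x).1 (Subsingleton.elim _ _)
  rw [Subsingleton.elim y 0, map_zero]

include hS h3 in
theorem V_right (c : MC X) (i : ℕ) (v2 : V (c * mc S.X₂) i) (v1 : V (c * mc S.X₁) (i + 1)) : V (c * mc S.X₃) i := by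
  induction c using MC.ind with | h G => ?_
  have hT := Dcoh.FlatSES.shortExact_tensor' hS h3 G
  have i1 : Subsingleton (Coh.HH X (S.map (DCoh.tensorBi.obj G)).X₁ (i + 1)) := v1
  have i3 : Subsingleton (Coh.HH X (S.map (DCoh.tensorBi.obj G)).X₂ i) := v2
  change Subsingleton (Coh.HH X (S.map (DCoh.tensorBi.obj G)).X₃ i)
  refine subsingleton_of_forall_eq 0 fun x => ?_
  obtain ⟨y, rfl⟩ := (exact₃ _ hT i (i + 1) rfl x).1 (Subsingleton.elim _ _)
  rw [Subsingleton.elim y 0, map_zero]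

end LES

theorem V_of_isZero {E : X.Modules} (hE : IsZero E) (c : MC X) (i : ℕ) : V (c * mc E) i := by
  induction c using MC.ind with | h G => ?_
  have hz : IsZero ((DCoh.tensorBi.obj G).obj E) := Functor.map_isZero _ hE
  have hz' : IsZero ((SheafOfModules.toSheaf X.ringCatSheaf).obj ((DCoh.tensorBi.obj G).obj E)) :=
    Functor.map_isZero _ hz
  exact Sheaf.subsingleton_H_of_isZero hz' i

theorem V_of_inF {K : Set (Pic X)} {E : X.Modules} (hE : InF K E) (c : MC X) (i : ℕ)
    (h : ∀ κ ∈ K, V (c * ic X κ) i) : V (c * mc E) i := by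
  induction hE with
  | zero E hz => exact V_of_isZero hz c i
  | ext S hS h1 h3 ih =>
    obtain ⟨hM, hκ⟩ := h3
    exact V_mid hS (isFlat_of_isInvertible hM) c i ih (h _ hκ)

theorem exists_top {K : Set (Pic X)} {E : X.Modules} (hE : InF K E) (hne : ¬ IsZero E) :
    ∃ (S : ShortComplex X.Modules) (_ : S.ShortExact) (_ : S.X₂ = E) (_ : InF K S.X₁) (hM : PicF.IsInvertible S.X₃),
      mk S.X₃ hM ∈ K := by
  cases hE with
  | zero E hz => exact absurd hz hne
  | ext S hS h1 h3 =>
    obtain ⟨hM, hκ⟩ := h3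
    exact ⟨S, hS, rfl, h1, hM, hκ⟩

theorem V_of_dim [NoetherianSpace X] (d : ℕ) (hd : topologicalKrullDim X ≤ d) (c : MC X) (i : ℕ) (hi : d < i) : V c i := by
  induction c using MC.ind with | h G => ?_
  have : NoetherianSpace X.toTopCat := ‹NoetherianSpace X›
  exact CohtopA.NoethVanish.subsingleton_H_of_krullDim (X := X.toTopCat) d hd (Coh.toAb G) i hi

section Push

variable {X' : Scheme.{u}} (f : X' ⟶ X) [IsAffineHom f]

theorem V_push_iff {c : MC X} (hc : QC c) (i : ℕ) :
    V (c * mc ((Scheme.Modules.pushforward f).obj (Coh.structureModule X'))) i ↔ V (pm f c) i := by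
  obtain ⟨G, hG, rfl⟩ := hc
  have hO : Coh.IsQCoh (Coh.structureModule X') := Fdesc.StructMod.isQCoh_structureModule X'
  have hG' : Coh.IsQCoh ((Scheme.Modules.pullback f).obj G) := VarietyB.PullSec.isQCoh_pullback f G hG
  have e1 : CohB1.tensorMod G ((Scheme.Modules.pushforward f).obj (Coh.structureModule X')) ≅
      (Scheme.Modules.pushforward f).obj ((Scheme.Modules.pullback f).obj G) :=
    ProjAff.projIso f G _ hG hO ≪≫ (Scheme.Modules.pushforward f).mapIso (Ega2.Tens.runit _)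
  rw [← mc_tensor, mc_eq e1, pm_mc]
  let _ : X.Over (Spec (CommRingCat.of Γ(X, ⊤))) := ⟨X.toSpecΓ⟩
  let _ : X'.Over (Spec (CommRingCat.of Γ(X, ⊤))) := ⟨f ≫ X.toSpecΓ⟩
  obtain ⟨e⟩ := VarietyB.HHPush.exists_linearEquiv f Γ(X, ⊤) rfl ((Scheme.Modules.pullback f).obj G) hG' i
  exact e.toEquiv.subsingleton_congr

theorem V_pm_of_set {S : Set (Pic X)}
    (hF : InF S ((Scheme.Modules.pushforward f).obj (Coh.structureModule X'))) {c : MC X} (hc : QC c) (i : ℕ)
    (h : ∀ κ ∈ S, V (c * ic X κ) i) : V (pm f c) i :=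
  (V_push_iff f hc i).1 (V_of_inF hF c i h)

variable {K : Subgroup (Pic X)} (hK : ∀ κ ∈ K, pull f κ = 1)
  (hF : InF (K : Set (Pic X)) ((Scheme.Modules.pushforward f).obj (Coh.structureModule X')))

include hF in
theorem V_pm_of_forall {c : MC X} (hc : QC c) (i : ℕ) (h : ∀ κ ∈ K, V (c * ic X κ) i) : V (pm f c) i :=
  (V_push_iff f hc i).1 (V_of_inF hF c i h)

include hF hK in
theorem V_of_pm [NoetherianSpace X] (d : ℕ) (hd : topologicalKrullDim X ≤ d)
    (hne : ¬ IsZero ((Scheme.Modules.pushforward f).obj (Coh.structureModule X'))) {c : MC X} (hc : QC c) (i : ℕ)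
    (h : ∀ j, i ≤ j → V (pm f c) j) : ∀ j, i ≤ j → ∀ κ ∈ K, V (c * ic X κ) j := by
  obtain ⟨S, hS, hS2, h1, hM, hκ0⟩ := exists_top hF hne
  have key : ∀ m j, i ≤ j → d + 1 ≤ j + m → ∀ κ ∈ K, V (c * ic X κ) j := by
    intro m
    induction m with
    | zero => exact fun j _ hj κ _ => V_of_dim d hd _ j (by omega)
    | succ m ih =>
      intro j hij hj κ hκ
      have h2 : V (c * ic X (κ * (mk S.X₃ hM)⁻¹) * mc S.X₂) j := by
        rw [hS2, V_push_iff f (hc.mul (CO.ic _).qc), map_mul, pm_ic, hK _ (K.mul_mem hκ (K.inv_mem hκ0)), map_one,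
          mul_one]
        exact h j hij
      have h3 : V (c * ic X (κ * (mk S.X₃ hM)⁻¹) * mc S.X₁) (j + 1) := by
        refine V_of_inF h1 _ _ fun κ' hκ' => ?_
        rw [mul_assoc, ← map_mul]
        exact ih (j + 1) (by omega) (by omega) _ (K.mul_mem (K.mul_mem hκ (K.inv_mem hκ0)) hκ')
      have h4 := V_right hS (isFlat_of_isInvertible hM) _ j h2 h3
      have h5 : c * ic X (κ * (mk S.X₃ hM)⁻¹) * mc S.X₃ = c * ic X κ := by
        rw [← ic_mk hM, mul_assoc, ← map_mul, inv_mul_cancel_right]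
      rwa [h5] at h4
  exact fun j hij κ hκ => key (d + 1) j hij (by omega) κ hκ

end Push

end K527.FiltVan
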