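import Groth.Agent.AbVar.K527.ThmQ
import Groth.Agent.AbVar.K527.DimSet
import Groth.Agent.AbVar.K527.FiltVan
import Groth.Agent.AbVar.K512.PhiSurj
import Groth.Agent.AbVar.K524.Index
import Groth.Agent.AbVar.K511.AmpleVan
import Groth.Agent.AbVar.K512.PoincMod
import Groth.Agent.Sga5.AmpleFib

/-!
# `IT(0)` and `GV` classes on an abelian variety, parametrised by the variety itself

* `IsAmp ℓ`: `ℓ` is the class of an ample module; `IsAmp.surj`, `IsAmp.top`, `IsAmp.van`.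
* `IT c`: `H^i(c κ) = 0` for `i ≥ 1` and all translation invariant `κ`;
* `GV ℓ g c`: the points `y` with `H^i(c φ_ℓ(y)) ≠ 0` lie in a closed subset of dimension `< g - i + 1`, for all `i ≥ 1`;
* `IT_of_GV`: `GV ℓ g c → IT (c ℓ)`.
-/

set_option autoImplicit false
universe u

open CategoryTheory CategoryTheory.Limits MonoidalCategory CartesianMonoidalCategory AlgebraicGeometry TopologicalSpace
open scoped MonObj
open Groth.Agent Groth.Agent.Grpsch.PicGrp Groth.Agent.Grpsch.Cube Groth.Agent.Fga.PicMon K527.Cls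
open K527.FibPts (pt)
open K518.Phi

namespace K527.ITGV

variable {k : Type u} [Field k] {A B : Over (Spec (CommRingCat.of k))}

theorem van_iff {X : Scheme.{u}} (c : Pic X) (i : ℕ) : K524.Kun.Van c i ↔ V (ic X c) i := by
  obtain ⟨L, hL, rfl⟩ := exists_mk c
  rw [K524.Kun.van_mk, ic_mk]
  exact (V_mc L i).symm

/-- The class of an ample module. -/
def IsAmp {X : Scheme.{u}} (ℓ : Pic X) : Prop := ∃ (L : X.Modules) (hL : CohB1.IsAmple L), mk L hL.1 = ℓ

theorem IsAmp.pull {X Y : Scheme.{u}} (f : X ⟶ Y) [IsAffineHom f] {ℓ : Pic Y} (h : IsAmp ℓ) :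
    IsAmp (Groth.Agent.Grpsch.PicGrp.pull f ℓ) := by
  obtain ⟨L, hL, rfl⟩ := h
  exact ⟨_, Sga5.AmpleFib.isAmple_pullback f hL, (pull_mk f hL.1).symm⟩

theorem pt_comp (y : Pt A) (f : A ⟶ B) : pt (y ≫ f) = f.left (pt y) := by
  change (y ≫ f).left (IsLocalRing.closedPoint k) = _
  rw [Over.comp_left]
  exact Scheme.Hom.comp_apply y.left f.left _

variable [GrpObj A] [GrpObj B]

theorem comp_tr (y x : Pt A) : y ≫ tr x = y * x := by
  change y ≫ (𝟙 A * (toUnit A ≫ x)) = _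
  rw [MonObj.comp_mul, Category.comp_id, ← Category.assoc, toUnit_unique (y ≫ toUnit A) (𝟙 _), Category.id_comp]

/-- `IT(0)` -/
def IT (c : MC A.left) : Prop := ∀ i : ℕ, 1 ≤ i → ∀ κ ∈ Inv A, V (c * ic _ κ) i

/-- `GV` -/
def GV (ℓ : Pic A.left) (g : ℕ) (c : MC A.left) : Prop :=
  ∀ i : ℕ, 1 ≤ i → ∃ Z : Set A.left, IsClosed Z ∧ topologicalKrullDim Z < ((g - i + 1 : ℕ) : WithBot ℕ∞) ∧
    ∀ y : Pt A, ¬ V (c * ic _ (phi ℓ y)) i → pt y ∈ Z

section

variable [IsProper A.hom] [GeometricallyIntegral A.hom]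

omit [IsProper A.hom] [GeometricallyIntegral A.hom] in
theorem IT.mul_ic {c : MC A.left} (h : IT c) {κ : Pic A.left} (hκ : κ ∈ Inv A) : IT (c * ic _ κ) := by
  intro i hi κ' hκ'
  rw [mul_assoc, ← map_mul]
  exact h i hi _ ((Inv A).mul_mem hκ hκ')

theorem IT.gv {c : MC A.left} (h : IT c) (ℓ : Pic A.left) (g : ℕ) : GV ℓ g c := by
  intro i hi
  refine ⟨∅, isClosed_empty, ?_, fun y hy => absurd (h i hi _ (phi_mem_Inv ℓ y)) hy⟩
  rw [DimSet.dim_empty]
  exact DimSet.bot_lt_nat _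

omit [IsProper A.hom] [GeometricallyIntegral A.hom] in
theorem isIso_tr (x : Pt A) : IsIso (tr x) := K512.PoincMod.isIso_tr x

end

section Amp

variable [IsAlgClosed k] [IsProper A.hom] [GeometricallyIntegral A.hom]

theorem IsAmp.surj {ℓ : Pic A.left} (h : IsAmp ℓ) {κ : Pic A.left} (hκ : κ ∈ Inv A) : ∃ y : Pt A, phi ℓ y = κ := by
  obtain ⟨L, hL, rfl⟩ := h
  exact K512.PhiSurj.exists_eq_of_isAmple L hL κ (mem_Inv_iff.1 hκ)

omit [IsAlgClosed k] in
theorem IsAmp.van {ℓ : Pic A.left} (h : IsAmp ℓ) {i : ℕ} (hi : 1 ≤ i) : V (ic _ ℓ) i := by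
  obtain ⟨L, hL, rfl⟩ := h
  exact K511.AmpleVan.vanish A L hL i hi

omit [IsAlgClosed k] in
theorem IsAmp.nd {ℓ : Pic A.left} (h : IsAmp ℓ) : {x : Pt A | phi ℓ x = 1}.Finite := by
  obtain ⟨L, hL, rfl⟩ := h
  have h1 := K512.PhiSurj.finite_of_isAmple L hL
  simpa only [phi, mul_inv_eq_one] using h1

/-- The top cohomology of the inverse of an ample class. -/
theorem IsAmp.top {ℓ : Pic A.left} (h : IsAmp ℓ) {g : ℕ} (hg : topologicalKrullDim A.left = g) :
    ¬ V (ic _ ℓ⁻¹) g := by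
  obtain ⟨i, hi, h1, h2⟩ := K524.Index.ND.exists_idx g hg (c := ℓ) h.nd
  have h0 : i = 0 := by
    by_contra hne
    exact h1.2 ((van_iff _ _).2 (h.van (Nat.one_le_iff_ne_zero.2 hne)))
  rw [h0, Nat.sub_zero] at h2
  rw [← van_iff]
  exact h2.2

/-- `H^0` of an ample class. -/
theorem IsAmp.sec {ℓ : Pic A.left} (h : IsAmp ℓ) {g : ℕ} (hg : topologicalKrullDim A.left = g) :
    ¬ V (ic _ ℓ) 0 := by
  obtain ⟨i, hi, h1, h2⟩ := K524.Index.ND.exists_idx g hg (c := ℓ) h.nd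
  have h0 : i = 0 := by
    by_contra hne
    exact h1.2 ((van_iff _ _).2 (h.van (Nat.one_le_iff_ne_zero.2 hne)))
  rw [h0] at h1
  rw [← van_iff]
  exact h1.2

theorem IsAmp.mul_inv {ℓ κ : Pic A.left} (h : IsAmp ℓ) (hκ : κ ∈ Inv A) : IsAmp (κ * ℓ) := by
  obtain ⟨y, rfl⟩ := h.surj hκ
  have : IsIso (tr y) := isIso_tr y
  have : IsIso (tr y).left := isIso_left (tr y)
  rw [← pl_tr]
  exact h.pull _

omit [IsAlgClosed k] [IsProper A.hom] [GeometricallyIntegral A.hom] in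
theorem phi_inv_mul (ℓ : Pic A.left) {κ : Pic A.left} (hκ : κ ∈ Inv A) (y : Pt A) : phi (κ * ℓ) y = phi ℓ y := by
  rw [phi_mul_left, hκ, one_mul]

end Amp

section GVlem

variable [IsProper A.hom] [GeometricallyIntegral A.hom]

omit [IsProper A.hom] [GeometricallyIntegral A.hom] in
theorem GV.congr_phi {ℓ ℓ' : Pic A.left} {g : ℕ} {c : MC A.left} (h : GV ℓ g c) (he : ∀ y : Pt A, phi ℓ' y = phi ℓ y) :
    GV ℓ' g c := by
  intro i hi
  obtain ⟨Z, hZ, hd, hv⟩ := h i hi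
  exact ⟨Z, hZ, hd, fun y hy => hv y (he y ▸ hy)⟩

omit [IsProper A.hom] [GeometricallyIntegral A.hom] in
/-- Change of the parameter along a quasi-finite morphism. -/
theorem GV.pull {ℓ : Pic A.left} {g : ℕ} {c c' : MC A.left} (h : GV ℓ g c) (u : A ⟶ A) [LocallyQuasiFinite u.left]
    {ℓ' : Pic A.left} (he : ∀ (i : ℕ) (y : Pt A), 1 ≤ i → V (c * ic _ (phi ℓ (y ≫ u))) i → V (c' * ic _ (phi ℓ' y)) i) :
    GV ℓ' g c' := by
  intro i hi
  obtain ⟨Z, hZ, hd, hv⟩ := h i hi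
  refine ⟨u.left ⁻¹' Z, hZ.preimage u.left.continuous, lt_of_le_of_lt (DimSet.dim_preimage_le u.left Z hZ) hd,
    fun y hy => ?_⟩
  rw [Set.mem_preimage, ← pt_comp]
  exact hv _ fun h => hy (he i y hi h)

theorem GV.mul_ic {ℓ : Pic A.left} {g : ℕ} {c : MC A.left} (h : GV ℓ g c) (x : Pt A) :
    GV ℓ g (c * ic _ (phi ℓ x)) := by
  have : IsIso (tr x) := isIso_tr x
  have : IsIso (tr x).left := isIso_left (tr x)
  refine h.pull (tr x) fun i y _ hv => ?_
  rwa [comp_tr, phi_mul, mul_comm (phi ℓ y), map_mul, ← mul_assoc] at hv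

variable [IsAlgClosed k]

omit [GrpObj A] [GeometricallyIntegral A.hom] [IsAlgClosed k] in
variable (A) in
theorem noetherianSpace : NoetherianSpace A.left := by
  have : IsLocallyNoetherian A.left := LocallyOfFiniteType.isLocallyNoetherian A.hom
  have : CompactSpace A.left := QuasiCompact.compactSpace_of_compactSpace A.hom
  have : IsNoetherian A.left := {}
  infer_instance

/-- A `GV` class becomes `IT(0)` after a twist by an ample class. -/
theorem IT_of_GV {ℓ : Pic A.left} (hℓ : IsAmp ℓ) {g : ℕ} (hg : topologicalKrullDim A.left = g) {c : MC A.left} (hc : CO c)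
    (h : GV ℓ g c) : IT (c * ic _ ℓ) := by
  intro i hi κ hκ
  obtain ⟨x, rfl⟩ := hℓ.surj hκ
  have h1 := h.mul_ic x
  have e1 : c * ic _ ℓ * ic _ (phi ℓ x) = (c * ic _ (phi ℓ x)) * ic _ (pl (𝟙 A) ℓ) := by
    rw [pl_id, mul_assoc, mul_assoc, mul_comm (ic _ ℓ)]
  rw [e1]
  let nv : A ⟶ A := (𝟙 A)⁻¹
  have hnv : nv ≫ nv = 𝟙 A := by
    rw [GrpObj.comp_inv, Category.comp_id, inv_inv]
  have : IsIso nv := ⟨nv, hnv, hnv⟩
  have : IsIso nv.left := isIso_left nv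
  have h2 : ∀ j : ℕ, 1 ≤ j → ∃ Z : Set A.left, IsClosed Z ∧ topologicalKrullDim Z + (j : WithBot ℕ∞) ≤ g ∧
      ∀ y : Pt A, pt y ∉ Z → V ((c * ic _ (phi ℓ x)) * ic _ (pl (𝟙 A) (phi ℓ y)⁻¹)) j := by
    intro j hj
    by_cases hjg : j ≤ g
    · obtain ⟨Z, hZ, hd, hv⟩ := h1 j hj
      refine ⟨nv.left ⁻¹' Z, hZ.preimage nv.left.continuous,
        DimSet.add_le_of_lt hjg (lt_of_le_of_lt (DimSet.dim_preimage_le nv.left _ hZ) hd), fun y hy => ?_⟩
      have hy' : y ≫ nv = y⁻¹ := by rw [GrpObj.comp_inv, Category.comp_id]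
      rw [Set.mem_preimage, ← pt_comp, hy'] at hy
      rw [pl_id, ← phi_inv]
      by_contra hne
      exact hy (hv _ hne)
    · refine ⟨∅, isClosed_empty, ?_, fun y _ => ?_⟩
      · rw [DimSet.dim_empty]
        simp
      · have := noetherianSpace A
        exact FiltVan.V_of_dim g hg.le _ j (by omega)
  choose! Z hZ hd hv using h2
  exact ThmQ.V_of_loci (𝟙 A) ℓ (c * ic _ (phi ℓ x)) g hg.le (CO.mul_ic hc _) (hℓ.top hg) Z hZ hd hv i hi

end GVlem

end K527.ITGV
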