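import Groth.Agent.AbVar.K527.IsogFilt
import Mathlib.AlgebraicGeometry.Group.Abelian
import Mathlib.AlgebraicGeometry.Morphisms.Finite

/-!
# Filtration of `f_* O_B` for an isogeny `f : B ⟶ A`
-/

set_option autoImplicit false
universe u

open CategoryTheory CategoryTheory.Limits AlgebraicGeometry Opposite TopologicalSpace AlgebraicGeometry.Scheme.Modules
open MonoidalCategory CartesianMonoidalCategory MonObj GrpObj

namespace K527.IsogFiltAV

open K527.TorsorAlg K527.TorsorComm K527.TorsorPush K527.AbsFilt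

section Bas

/-- A basis of the functions on a finite scheme over a field. -/
theorem exists_bas {k : Type u} [Field k] {X : Scheme.{u}} (h : X ⟶ Spec (CommRingCat.of k)) [IsFinite h] :
    ∃ (n : ℕ) (e : Fin n → Γ(X, ⊤)), Bas (pb h ⊤ ⊤ le_top) e := by
  let io : k →+* Γ(Spec (CommRingCat.of k), ⊤) := (Scheme.ΓSpecIso (CommRingCat.of k)).inv.hom
  have hio : Function.Bijective io := (Scheme.ΓSpecIso (CommRingCat.of k)).symm.commRingCatIsoToRingEquiv.bijective
  have h1 : (pb h ⊤ ⊤ le_top).Finite := by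
    have := IsFinite.finite_app (f := h) ⊤ (isAffineOpen_top _)
    rw [pb, show h.appLE ⊤ ⊤ le_top = h.app ⊤ from Scheme.Hom.appLE_eq_app h]
    exact this
  have h2 : ((pb h ⊤ ⊤ le_top).comp io).Finite := h1.comp (RingHom.Finite.of_surjective io hio.2)
  let : Algebra k Γ(X, ⊤) := ((pb h ⊤ ⊤ le_top).comp io).toAlgebra
  have : Module.Finite k Γ(X, ⊤) := h2
  let b := Module.finBasis k Γ(X, ⊤)
  refine ⟨_, b, ?_⟩
  have h3 : Function.Bijective (fun a : Fin (Module.finrank k Γ(X, ⊤)) → k =>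
      ∑ x, ((pb h ⊤ ⊤ le_top).comp io) (a x) * b x) := by
    have : (fun a : Fin (Module.finrank k Γ(X, ⊤)) → k =>
      ∑ x, ((pb h ⊤ ⊤ le_top).comp io) (a x) * b x) = b.equivFun.symm := by
      funext a
      rw [Module.Basis.equivFun_symm_apply]
      rfl
    rw [this]
    exact b.equivFun.symm.bijective
  have h4 : Function.Bijective (fun a : Fin (Module.finrank k Γ(X, ⊤)) → k => fun x => io (a x)) := by
    constructor
    · intro a a' haa
      funext x
      exact hio.1 (congrFun haa x)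
    · intro a
      choose c hc using fun x => hio.2 (a x)
      exact ⟨c, funext hc⟩
  exact (Function.Bijective.of_comp_iff (fun a : Fin (Module.finrank k Γ(X, ⊤)) → Γ(Spec (CommRingCat.of k), ⊤) =>
    ∑ x, (pb h ⊤ ⊤ le_top) (a x) * b x) h4).1 h3

theorem bas_of_isPullback {S K T Y : Scheme.{u}} [IsAffine S] {κ : K ⟶ S} {t : T ⟶ S} {q : Y ⟶ K} {pr : Y ⟶ T}
    (h : IsPullback q pr κ t) [IsAffineHom κ] {n : ℕ} {e : Fin n → Γ(K, ⊤)} (he : Bas (pb κ ⊤ ⊤ le_top) e)
    (V : T.Opens) (hV : IsAffineOpen V) :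
    Bas (pb pr V (pr ⁻¹ᵁ V) le_rfl) (fun x => pb q ⊤ (pr ⁻¹ᵁ V) le_top (e x)) :=
  Bas.of_isPushout (Groth.Agent.CohqA.AffineBaseChange.isPushout_appLE h (isAffineOpen_top S) hV le_top) he

end Bas

section Cat

variable {D : Type*} [Category D] [CartesianMonoidalCategory D] {C Y Z : D} [GrpObj Y] [GrpObj Z]
  (i : C ⟶ Y) (q : Y ⟶ Z) [IsMonHom q]

/-- the action of the subgroup -/
def act : Y ⊗ C ⟶ Y := fst Y C * (snd Y C ≫ i)

variable {i q}

lemma comp_act {T : D} (z : T ⟶ Y ⊗ C) : z ≫ act i = (z ≫ fst _ _) * (z ≫ snd _ _ ≫ i) := by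
  rw [act, comp_mul]

/-- `Y ⊗ C` is the fibre product `Y ×_Z Y`. -/
theorem isPullback_act (hk : IsPullback i (toUnit C) q η[Z]) : IsPullback (act i) (fst Y C) q q := by
  have hiq : ∀ {T : D} (c : T ⟶ C), c ≫ i ≫ q = 1 := by
    intro T c
    rw [hk.w, Hom.one_def, ← Category.assoc, comp_toUnit]
  refine ⟨⟨?_⟩, ⟨PullbackCone.IsLimit.mk _ (fun t => lift t.snd
    (hk.lift (t.snd⁻¹ * t.fst) (toUnit _) ?_)) ?_ ?_ ?_⟩⟩
  · rw [act, MonObj.mul_comp, Category.assoc, hiq, _root_.mul_one]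
  · rw [MonObj.mul_comp, GrpObj.inv_comp, t.condition, inv_mul_cancel, Hom.one_def]
  · intro t
    rw [comp_act, lift_fst, lift_snd_assoc, hk.lift_fst, mul_inv_cancel_left]
  · intro t
    rw [lift_fst]
  · intro t m hm1 hm2
    ext1
    · rw [lift_fst, hm2]
    · rw [lift_snd]
      apply hk.hom_ext
      · rw [hk.lift_fst, ← hm1, ← hm2, comp_act]
        simp only [Category.assoc, inv_mul_cancel_left]
      · exact toUnit_unique _ _

/-- The map `(y, c, d) ↦ (y c, d)`. -/
def mone (i : C ⟶ Y) : (Y ⊗ C) ⊗ C ⟶ Y ⊗ C := lift (fst _ _ ≫ act i) (snd _ _)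

variable (C Y) in
/-- The map `(y, c, d) ↦ (y, d, c)`. -/
def swap : (Y ⊗ C) ⊗ C ⟶ (Y ⊗ C) ⊗ C := lift (lift (fst _ _ ≫ fst _ _) (snd _ _)) (fst _ _ ≫ snd _ _)

theorem mone_fst : mone i ≫ fst Y C = fst (Y ⊗ C) C ≫ act i := by rw [mone, lift_fst]

theorem mone_snd : mone i ≫ snd Y C = snd (Y ⊗ C) C := by rw [mone, lift_snd]

theorem swap_mone_act (hc : ∀ (T : D) (x y : T ⟶ Y), x * y = y * x) :
    swap C Y ≫ mone i ≫ act i = mone i ≫ act i := by
  have h1 : ∀ {T : D} (z : T ⟶ (Y ⊗ C) ⊗ C), z ≫ mone i ≫ act i =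
      ((z ≫ fst _ _ ≫ fst _ _) * (z ≫ fst _ _ ≫ snd _ _ ≫ i)) * (z ≫ snd _ _ ≫ i) := by
    intro T z
    rw [← Category.assoc, comp_act, Category.assoc, Category.assoc, mone_fst, ← Category.assoc (mone i), mone_snd,
      ← Category.assoc z, comp_act, Category.assoc, Category.assoc]
  have h2 := h1 (𝟙 ((Y ⊗ C) ⊗ C))
  rw [Category.id_comp] at h2
  rw [h1, h2]
  have e1 : swap C Y ≫ fst _ _ ≫ fst _ _ = fst _ _ ≫ fst _ _ := by
    rw [swap, lift_fst_assoc, lift_fst]
  have e2 : swap C Y ≫ fst _ _ ≫ snd _ _ ≫ i = snd _ _ ≫ i := by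
    rw [swap, lift_fst_assoc, lift_snd_assoc]
  have e3 : swap C Y ≫ snd _ _ ≫ i = fst _ _ ≫ snd _ _ ≫ i := by
    rw [swap, lift_snd_assoc, Category.assoc]
  rw [e1, e2, e3, Category.id_comp, Category.id_comp, Category.id_comp, _root_.mul_assoc, _root_.mul_assoc]
  congr 1
  exact hc _ _ _

end Cat

section Main

variable {k : Type u} [Field k] [IsAlgClosed k] {K B A : Over (Spec (CommRingCat.of k))} [GrpObj B] [GrpObj A]
  (f : B ⟶ A) [IsMonHom f] [IsFinite f.left] [Flat f.left]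

/-- **Filtration of `f_* O_B`, with a given kernel.** -/
theorem filt_of_kernel (hc : ∀ (T : Over (Spec (CommRingCat.of k))) (x y : T ⟶ B), x * y = y * x)
    (hB : Function.Bijective (B.hom.app ⊤)) {i : K ⟶ B} (hk : IsPullback i (toUnit K) f η[A])
    [IsFinite K.hom] :
    Filt (fun M : A.left.Modules => Coh.IsQCoh M ∧
      Nonempty ((Scheme.Modules.pullback f.left).obj M ≅ Coh.structureModule B.left))
      ((pushforward f.left).obj (Coh.structureModule B.left)) := by
  obtain ⟨n, e, he⟩ := exists_bas K.hom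
  have hsq : IsPullback (act i).left (fst B K).left f.left f.left :=
    (isPullback_act hk).map (Over.forget _)
  have p1 : IsPullback (snd B K).left (fst B K).left K.hom B.hom :=
    (IsPullback.of_hasPullback B.hom K.hom).flip
  have p2 : IsPullback (snd (B ⊗ K) K).left (fst (B ⊗ K) K).left K.hom (B ⊗ K).hom :=
    (IsPullback.of_hasPullback (B ⊗ K).hom K.hom).flip
  have b1 := fun V hV => bas_of_isPullback p1 he V hV
  have b2 := fun V hV => bas_of_isPullback p2 he V hV
  have : IsIso (phi (fst B K).left (snd B K).left e) := isIso_phi _ _ e b1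
  have : IsAffineHom (fst B K).left := MorphismProperty.pullback_fst (P := @IsAffineHom) B.hom K.hom inferInstance
  have H := fun {X Y : Over (Spec (CommRingCat.of k))} {u v : X ⟶ Y} (h : u = v) => congrArg CommaMorphism.left h
  let τ : k →+* Γ(A.left, ⊤) := (A.hom.app ⊤).hom.comp (Scheme.ΓSpecIso (CommRingCat.of k)).inv.hom
  refine IsogFilt.filt_sch hsq (snd B K).left e τ ?_ (fst (B ⊗ K) K).left (mone i).left (snd (B ⊗ K) K).left
    (swap K B).left (H mone_fst) (H mone_snd) (H (swap_mone_act hc)) ?_ ?_ ?_ b1 b2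
  · have : ⇑((pb f.left ⊤ ⊤ le_top).comp τ) = (B.hom.app ⊤) ∘ (Scheme.ΓSpecIso (CommRingCat.of k)).inv.hom := by
      funext c
      change pb f.left ⊤ ⊤ le_top (A.hom.app ⊤ ((Scheme.ΓSpecIso (CommRingCat.of k)).inv.hom c)) =
        B.hom.app ⊤ ((Scheme.ΓSpecIso (CommRingCat.of k)).inv.hom c)
      have h1 : ∀ d, A.hom.app ⊤ d = pb A.hom ⊤ ⊤ le_top d := by
        intro d
        rw [pb, show A.hom.appLE ⊤ ⊤ le_top = A.hom.app ⊤ from Scheme.Hom.appLE_eq_app A.hom]
        rfl
      have h2 : ∀ d, B.hom.app ⊤ d = pb B.hom ⊤ ⊤ le_top d := by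
        intro d
        rw [pb, show B.hom.appLE ⊤ ⊤ le_top = B.hom.app ⊤ from Scheme.Hom.appLE_eq_app B.hom]
        rfl
      rw [h1, h2]
      refine (pb_pb A.hom f.left ⊤ ⊤ ⊤ le_top le_top _).trans ?_
      exact pb_congr (Over.w f) _ _ _ _ _
    rw [this]
    exact hB.comp (Scheme.ΓSpecIso (CommRingCat.of k)).symm.commRingCatIsoToRingEquiv.bijective
  · refine H (u := swap K B ≫ fst _ _ ≫ fst _ _) (v := fst _ _ ≫ fst _ _) ?_
    rw [swap, lift_fst_assoc, lift_fst]
  · refine H (u := swap K B ≫ fst _ _ ≫ snd _ _) (v := snd _ _) ?_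
    rw [swap, lift_fst_assoc, lift_snd]
  · refine H (u := swap K B ≫ snd _ _) (v := fst _ _ ≫ snd _ _) ?_
    rw [swap, lift_snd]

/-- **Filtration of `f_* O_B`** for a finite flat homomorphism `f : B ⟶ A` with `B` commutative and `Γ(B, O) = k`:
the graded pieces `M` are quasi-coherent with `f^* M ≅ O_B`. -/
theorem filt (hc : ∀ (T : Over (Spec (CommRingCat.of k))) (x y : T ⟶ B), x * y = y * x)
    (hB : Function.Bijective (B.hom.app ⊤)) :
    Filt (fun M : A.left.Modules => Coh.IsQCoh M ∧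
      Nonempty ((Scheme.Modules.pullback f.left).obj M ≅ Coh.structureModule B.left))
      ((pushforward f.left).obj (Coh.structureModule B.left)) := by
  have hk : IsPullback (pullback.fst f η[A]) (toUnit (pullback f η[A])) f η[A] := by
    have h := IsPullback.of_hasPullback f η[A]
    rwa [toUnit_unique (toUnit (pullback f η[A])) (pullback.snd f η[A])]
  have h1 : IsFinite (toUnit (pullback f η[A])).left :=
    MorphismProperty.of_isPullback (P := @IsFinite) (hk.map (Over.forget _)) ‹_›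
  have h2 : (toUnit (pullback f η[A])).left = (pullback f η[A]).hom := by
    have := Over.w (toUnit (pullback f η[A]))
    rw [← this]
    exact (Category.comp_id _).symm
  have h3 : IsFinite (pullback f η[A]).hom := h2 ▸ h1
  exact filt_of_kernel f hc hB hk

end Main

end K527.IsogFiltAV
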