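import Groth.Agent.AbVar.K527.FiltVan
import Groth.Agent.AbVar.K527.IsogFiltAV
import Groth.Agent.AbVar.K527.ITGV
import Groth.Agent.Pic13.H602.InvDesc
import Groth.Agent.Sga7.H756.RevIsog
import Groth.Agent.Grpsch.CubePush
import Groth.Agent.AbVar.K513.Tors2

/-!
# `IT(0)` and `GV` under isogenies

`f : B ⟶ A` a finite surjective homomorphism of abelian varieties over an algebraically closed field.
* `inF`: `f_* O_B` has a filtration with graded pieces in `ker f^*`;
* `ker_le`: `ker f^* ⊆ Pic⁰(A)`;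
* `IT_iff`, `GV_iff`.
-/

set_option autoImplicit false
universe u

open CategoryTheory CategoryTheory.Limits MonoidalCategory CartesianMonoidalCategory AlgebraicGeometry TopologicalSpace
open scoped MonObj
open Groth.Agent Groth.Agent.Grpsch.PicGrp Groth.Agent.Grpsch.Cube Groth.Agent.Fga.PicMon K527.Cls K527.AbsFilt
open K527.FibPts (pt)
open K518.Phi K527.ITGV K527.FiltVan

namespace K527.AVIso

theorem filt_mono {C : Type*} [Category C] [Abelian C] {Q Q' : C → Prop} (h : ∀ M, Q M → Q' M) {E : C}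
    (hE : Filt Q E) : Filt Q' E := by
  induction hE with
  | zero E hz => exact Filt.zero E hz
  | ext S hS h1 h3 ih => exact Filt.ext S hS ih (h _ h3)

variable {k : Type u} [Field k] {A B : Over (Spec (CommRingCat.of k))} [GrpObj A] [GrpObj B]
  [IsProper A.hom] [GeometricallyIntegral A.hom] [IsProper B.hom] [GeometricallyIntegral B.hom]
  (f : B ⟶ A) [IsMonHom f] [IsFinite f.left] [Surjective f.left]

include f in
omit [GeometricallyIntegral B.hom] [IsFinite f.left] in
theorem flat_left : Flat f.left := by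
  have hint : IsIntegral A.left := GeometricallyIntegral.isIntegral_of_subsingleton A.hom
  have : IsLocallyNoetherian A.left := LocallyOfFiniteType.isLocallyNoetherian A.hom
  have : QuasiCompact (f.left ≫ A.hom) := by rw [Over.w]; infer_instance
  have : QuasiCompact f.left := QuasiCompact.of_comp f.left A.hom
  exact Grpsch.MulFinFlat.flat_of_surjective k f

omit [GeometricallyIntegral A.hom] [IsProper A.hom] [IsProper B.hom] [GeometricallyIntegral B.hom] in
omit [GrpObj B] [IsMonHom f] in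
theorem isIsogeny : SGA7.IsIsogenyOver f := by
  refine ⟨‹_›, fun N i hN => ?_⟩
  have h1 : IsFinite (toUnit N).left :=
    MorphismProperty.of_isPullback (P := @IsFinite) (hN.map (Over.forget _)) ‹_›
  have h2 : (toUnit N).left = N.hom := by
    have := Over.w (toUnit N)
    rw [← this]
    exact (Category.comp_id _).symm
  exact h2 ▸ h1

variable [IsAlgClosed k]

omit [GeometricallyIntegral A.hom] [IsProper A.hom] in
theorem inF_of_flat [Flat f.left] :
    InF ((pull f.left).ker : Set (Pic A.left)) ((Scheme.Modules.pushforward f.left).obj (Coh.structureModule B.left)) := by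
  have hc : IsCommMonObj B := isCommMonObj_of_isProper_of_geometricallyIntegral B
  have h1 : Function.Bijective (B.hom.app ⊤) := by
    have := Grpsch.CubeData.isIso_app B.hom ⊤
    exact ConcreteCategory.bijective_of_isIso _
  refine filt_mono (fun M hM => ?_) (IsogFiltAV.filt f (fun T x y => mul_comm x y) h1)
  obtain ⟨h2, ⟨e⟩⟩ := hM
  have h3 : PicF.IsInvertible M := Pic13.H602.InvDesc.isInvertible_of_single f.left M h2
    (Krr.H490.PBFun.isInvertible_of_iso e.symm (Fdesc.LocGen.isInvertible_structureModule))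
  refine ⟨h3, ?_⟩
  rw [SetLike.mem_coe, MonoidHom.mem_ker, pull_mk, mk_eq_one_iff]
  exact ⟨e⟩

/-- Points lift along surjective homomorphisms. -/
theorem exists_comp_eq {B A : Over (Spec (CommRingCat.of k))} [IsProper A.hom] [IsProper B.hom] (f : B ⟶ A)
    [Surjective f.left] (x : Pt A) : ∃ z : Pt B, z ≫ f = x :=
  Books.AlgPts.exists_comp_eq_of_pt_mem_range f x (f.left.surjective _)

/-- Classes killed by an isogeny are translation invariant. -/
theorem ker_le {κ : Pic A.left} (hκ : pull f.left κ = 1) : κ ∈ Inv A := by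
  obtain ⟨n, v, hn, hv, h1, h2⟩ := Sga7.H756.RevIsog.exists_rev k f (isIsogeny f)
  have h3 : pl ((𝟙 A) ^ n) κ = 1 := by
    rw [← h2, pl_comp]
    change pl v (pull f.left κ) = 1
    rw [hκ, map_one]
  have hc : IsCommMonObj A := isCommMonObj_of_isProper_of_geometricallyIntegral A
  have hm : IsMonHom ((𝟙 A) ^ n) := inferInstance
  intro x
  obtain ⟨y, rfl⟩ := K513.Tors.exists_pow_eq A (n * n) (Nat.mul_pos hn hn) x
  have h4 := phi_pl ((𝟙 A) ^ n) κ y
  rw [h3, phi_one_left, MonObj.comp_pow, Category.comp_id, pl_pow_of_inv (phi_mem_Inv _ _), pl_id, ← phi_pow,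
    ← pow_mul] at h4
  exact h4.symm

/-- The filtration of `f_* O_B` by finitely many classes. -/
theorem exists_set [Flat f.left] : ∃ S : Set (Pic A.left), S.Finite ∧ (∀ κ ∈ S, κ ∈ Inv A ∧ pull f.left κ = 1) ∧
    InF S ((Scheme.Modules.pushforward f.left).obj (Coh.structureModule B.left)) := by
  obtain ⟨S, h1, h2, h3⟩ := (inF_of_flat f).exists_finite
  exact ⟨S, h1, fun κ hκ => ⟨ker_le f (h2 hκ), h2 hκ⟩, h3⟩

omit [GrpObj A] [GrpObj B] [IsProper A.hom] [GeometricallyIntegral A.hom] [IsProper B.hom] [IsMonHom f]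
  [Surjective f.left] [IsAlgClosed k] in
theorem not_isZero : ¬ IsZero ((Scheme.Modules.pushforward f.left).obj (Coh.structureModule B.left)) := by
  intro h
  have hint : IsIntegral B.left := GeometricallyIntegral.isIntegral_of_subsingleton B.hom
  have h1 := V_of_isZero h 1 0
  have hQ : QC (1 : MC A.left) := by
    have := (CO.ic (1 : Pic A.left)).qc
    rwa [map_one] at this
  rw [V_push_iff f.left hQ, map_one] at h1
  have h2 : K524.Kun.Van (1 : Pic B.left) 0 := by
    rw [van_iff, map_one]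
    exact h1
  exact K524.PicZeroVan.not_van_one h2

/-- Vanishing on the source of an isogeny. -/
theorem V_up {c : MC A.left} (hc : QC c) (i : ℕ) (h : ∀ κ ∈ Inv A, V (c * ic _ κ) i) : V (pmo f c) i := by
  have := flat_left f
  obtain ⟨S, -, h1, h2⟩ := exists_set f
  exact V_pm_of_set f.left h2 hc i fun κ hκ => h κ (h1 κ hκ).1

/-- Vanishing on the target of an isogeny. -/
theorem V_down {c : MC A.left} (hc : QC c) (i : ℕ) (h : ∀ j, i ≤ j → V (pmo f c) j) : ∀ j, i ≤ j → V c j := by
  have := flat_left f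
  have := noetherianSpace A
  obtain ⟨g, hg⟩ := K511.AmpleVan.exists_dim A
  intro j hij
  have h1 := V_of_pm f.left (K := (pull f.left).ker) (fun κ hκ => hκ) (inF_of_flat f) g hg.le (not_isZero f) hc i h j hij 1
    (one_mem _)
  rwa [map_one, mul_one] at h1

variable {ℓ : Pic A.left} (hℓ : IsAmp ℓ)

include hℓ

omit [Surjective f.left] in
theorem exists_pl {κ : Pic B.left} (hκ : κ ∈ Inv B) : ∃ κ' ∈ Inv A, pl f κ' = κ := by
  obtain ⟨z, hz⟩ := (hℓ.pull f.left).surj hκ
  exact ⟨phi ℓ (z ≫ f), phi_mem_Inv _ _, by rw [← phi_pl]; exact hz⟩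

/-- `IT(0)` is invariant under isogenies. -/
theorem IT_iff {c : MC A.left} (hc : QC c) : IT (pmo f c) ↔ IT c := by
  constructor
  · intro h i hi κ hκ
    have h1 := V_down f (hc.mul (CO.ic κ).qc) i (fun j hj => ?_) i le_rfl
    · exact h1
    · have h2 := h j (hi.trans hj) (pl f κ) (pl_mem_Inv f hκ)
      rwa [← pmo_ic, ← map_mul] at h2
  · intro h i hi κ hκ
    obtain ⟨κ', hκ', rfl⟩ := exists_pl f hℓ hκ
    rw [← pmo_ic, ← map_mul]
    refine V_up f (hc.mul (CO.ic κ').qc) i fun κ'' hκ'' => ?_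
    rw [mul_assoc, ← map_mul]
    exact h i hi _ (mul_mem hκ' hκ'')

theorem GV_up {g : ℕ} {c : MC A.left} (hc : QC c) (h : GV ℓ g c) : GV (pl f ℓ) g (pmo f c) := by
  have := flat_left f
  obtain ⟨S, hS, h1, h2⟩ := exists_set f
  have h3 : ∀ κ : Pic A.left, ∃ x : Pt A, κ ∈ S → phi ℓ x = κ := fun κ => by
    by_cases hκ : κ ∈ S
    · obtain ⟨x, hx⟩ := hℓ.surj (h1 κ hκ).1
      exact ⟨x, fun _ => hx⟩
    · exact ⟨1, fun h => absurd h hκ⟩
  choose x hx using h3
  intro i hi
  obtain ⟨Z, hZ, hd, hv⟩ := h i hi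
  obtain ⟨W, hW, hWd, hWZ⟩ := DimSet.exists_closed hS (n := ((g - i + 1 : ℕ) : WithBot ℕ∞)) (fun κ => (tr (x κ)).left ⁻¹' Z)
    (fun κ _ => hZ.preimage (tr (x κ)).left.continuous) (by rw [DimSet.dim_empty]; exact DimSet.bot_lt_nat _)
    (fun κ _ => by
      have : IsIso (tr (x κ)) := isIso_tr (x κ)
      have : IsIso (tr (x κ)).left := isIso_left (tr (x κ))
      exact lt_of_le_of_lt (DimSet.dim_preimage_le (tr (x κ)).left Z hZ) hd)
  refine ⟨f.left ⁻¹' W, hW.preimage f.left.continuous, lt_of_le_of_lt (DimSet.dim_preimage_le f.left W hW) hWd,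
    fun y hy => ?_⟩
  rw [phi_pl, ← pmo_ic, ← map_mul] at hy
  have h4 : ∃ κ ∈ S, ¬ V (c * ic _ (phi ℓ (y ≫ f)) * ic _ κ) i := by
    by_contra hcon
    push Not at hcon
    exact hy (V_pm_of_set f.left h2 (hc.mul (CO.ic _).qc) i hcon)
  obtain ⟨κ, hκ, hy'⟩ := h4
  refine hWZ κ hκ ?_
  rw [← pt_comp, Set.mem_preimage, ← pt_comp, comp_tr]
  refine hv _ fun hV => hy' ?_
  rwa [phi_mul, hx κ hκ, map_mul, ← mul_assoc] at hV

omit hℓ in
theorem GV_down {g : ℕ} (hg : topologicalKrullDim A.left = g) {c : MC A.left} (hc : QC c)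
    (h : GV (pl f ℓ) g (pmo f c)) : GV ℓ g c := by
  have := noetherianSpace B
  have hgB : topologicalKrullDim B.left ≤ g := hg ▸ DimSet.dim_le f.left
  choose! Z hZ hd hv using h
  intro i hi
  obtain ⟨W, hW, hWd, hWZ⟩ := DimSet.exists_closed (Set.finite_Icc i g) (n := ((g - i + 1 : ℕ) : WithBot ℕ∞))
    (fun j => f.left '' (Z j)) (fun j hj => f.left.isClosedMap _ (hZ j (hi.trans hj.1)))
    (by rw [DimSet.dim_empty]; exact DimSet.bot_lt_nat _)
    (fun j hj => by
      refine lt_of_le_of_lt (DimSet.dim_image_le f.left f.left.isClosedMap (Z j) (hZ j (hi.trans hj.1))) ?_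
      refine lt_of_lt_of_le (hd j (hi.trans hj.1)) ?_
      have h1 : g - j + 1 ≤ g - i + 1 := by have := hj.1; omega
      exact_mod_cast h1)
  refine ⟨W, hW, hWd, fun y hy => ?_⟩
  by_contra hne
  obtain ⟨z, rfl⟩ := exists_comp_eq f y
  refine hy (V_down f (hc.mul (CO.ic _).qc) i (fun j hj => ?_) i le_rfl)
  rw [map_mul, pmo_ic, ← phi_pl]
  by_cases hjg : j ≤ g
  · by_contra hcon
    refine hne (hWZ j ⟨hj, hjg⟩ ⟨_, hv j (hi.trans hj) z hcon, ?_⟩)
    rw [pt_comp]
  · exact V_of_dim g hgB _ j (by omega)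

/-- `GV` is invariant under isogenies. -/
theorem GV_iff {g : ℕ} (hg : topologicalKrullDim A.left = g) {c : MC A.left} (hc : QC c) :
    GV (pl f ℓ) g (pmo f c) ↔ GV ℓ g c :=
  ⟨GV_down f hg hc, GV_up f hℓ hc⟩

end K527.AVIso
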