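import Groth.Agent.AbVar.K527.Bridge
import Groth.Agent.AbVar.K527.AVIso
import Groth.Agent.S0002
import Groth.Prelude.Def_W4c5cohrankabvarRk

/-!
# The conditions of the rows in terms of classes

`IT_row_iff`, `GV_row_iff`: `IT(0)` and `GV` formulated with a Poincaré module agree with `IT`, `GV ℓ g`;
`mc_twist`: the class of `b_A^* F ⊗ L^m`.
-/

set_option autoImplicit false
universe u

open CategoryTheory CategoryTheory.Limits MonoidalCategory CartesianMonoidalCategory AlgebraicGeometry TopologicalSpace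
open scoped MonObj
open Groth.Agent Groth.Agent.Grpsch.PicGrp Groth.Agent.Grpsch.Cube Groth.Agent.Fga.PicMon K527.Cls
open Groth.Agent.Fga.RigGrp K732.PicZero K732.Dual K732.Prim
open K527.FibPts (pt)
open K518.Phi K527.ITGV K527.Bridge

namespace K527.Rows

theorem mc_tensorPow {X : Scheme.{u}} {L : X.Modules} {c : Pic X} (h : mc L = ic X c) (n : ℕ) :
    mc (CohB1.tensorPow L n) = ic X (c ^ n) := by
  induction n with
  | zero => rw [pow_zero, map_one]; rfl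
  | succ n ih =>
    rw [pow_succ, map_mul, ← ih, ← h]
    exact mc_tensor _ _

theorem mc_inv {X : Scheme.{u}} {L L' : X.Modules} {c : Pic X} (h : mc L = ic X c)
    (hLL' : Nonempty (CohB1.tensorMod L L' ≅ Coh.structureModule X)) : mc L' = ic X c⁻¹ := by
  obtain ⟨e⟩ := hLL'
  have h1 : mc L * mc L' = 1 := (mc_tensor _ _).symm.trans (mc_eq e)
  rw [h] at h1
  calc mc L' = ic X c⁻¹ * (ic X c * mc L') := by rw [← mul_assoc, ic_inv_mul, one_mul]
    _ = ic X c⁻¹ := by rw [h1, mul_one]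

theorem mc_zpow {X : Scheme.{u}} {L L' : X.Modules} {c : Pic X} (h : mc L = ic X c)
    (hLL' : Nonempty (CohB1.tensorMod L L' ≅ Coh.structureModule X)) (m : ℤ) :
    mc (W4c5cohrankabvar.zpow L L' m) = ic X (c ^ m) := by
  cases m with
  | ofNat n =>
    rw [Int.ofNat_eq_natCast, zpow_natCast]
    exact mc_tensorPow h n
  | negSucc n =>
    rw [zpow_negSucc, ← inv_pow]
    exact mc_tensorPow (mc_inv h hLL') (n + 1)

theorem isCoh_of_mc {X : Scheme.{u}} {M : X.Modules} (h : CO (mc M)) : Coh.IsCoh M := by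
  obtain ⟨L, hL, h'⟩ := h
  obtain ⟨e⟩ := (mc_eq_iff _ _).1 h'
  exact CohqB.SerTw.isCoh_of_iso e hL

theorem nonempty_pullback {X Y : Scheme.{u}} (f : X ⟶ Y) {L L' : Y.Modules}
    (h : Nonempty (CohB1.tensorMod L L' ≅ Coh.structureModule Y)) :
    Nonempty (CohB1.tensorMod ((Scheme.Modules.pullback f).obj L) ((Scheme.Modules.pullback f).obj L') ≅
      Coh.structureModule X) := by
  obtain ⟨e⟩ := h
  have h1 : mc L * mc L' = 1 := (mc_tensor _ _).symm.trans (mc_eq e)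
  have h2 := congrArg (pm f) h1
  rw [map_mul, map_one, pm_mc, pm_mc, ← mc_tensor] at h2
  exact (mc_eq_iff _ _).1 h2

variable {k : Type u} [Field k] {A At : Over (Spec (CommRingCat.of k))} [GrpObj A] [GrpObj At]

theorem mc_twist (F : A.left.Modules) {L L' : A.left.Modules} {c : Pic A.left} (h : mc L = ic _ c)
    (hLL' : Nonempty (CohB1.tensorMod L L' ≅ Coh.structureModule A.left)) (b : ℕ) (m : ℤ) :
    mc (W4c5cohrankabvar.twist A F L L' b m) = pmo ((𝟙 A) ^ b) (mc F) * ic _ (c ^ m) := by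
  rw [mc_tensor, mc_zpow h hLL']
  rfl

theorem comp_pow_eq {B : Over (Spec (CommRingCat.of k))} [GrpObj B] (f : B ⟶ A) [IsMonHom f] (b : ℕ) :
    f ≫ ((𝟙 A) ^ b) = ((𝟙 B) ^ b) ≫ f := by
  rw [MonObj.comp_pow, Category.comp_id, MonObj.pow_comp, Category.id_comp]

theorem pmo_twist {B : Over (Spec (CommRingCat.of k))} [GrpObj B] (f : B ⟶ A) [IsMonHom f] (b : ℕ) (x : MC A.left)
    (c : Pic A.left) (m : ℤ) : pmo f (pmo ((𝟙 A) ^ b) x * ic _ (c ^ m)) =
      pmo ((𝟙 B) ^ b) (pmo f x) * ic _ ((pl f c) ^ m) := by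
  rw [map_mul, pmo_ic, map_zpow, ← pmo_comp, ← pmo_comp, comp_pow_eq]

variable [IsProper A.hom] [GeometricallyIntegral A.hom]
  {φ : ∀ T : Over (Spec (CommRingCat.of k)), PicF.Cl (PicF.XT A.hom T) → (T ⟶ At)}
  (hφ : AbDual.IsDualAV Scheme.fppfPrecoverage A At φ)
  {P : (pullback A.hom At.hom).Modules} (hP : PicF.IsInvertible P)
  (hPξ : AbDual.IsPoincareCl A At φ (PicF.cl P))

omit [IsProper A.hom] [GeometricallyIntegral A.hom] in
include hPξ in
theorem poinc : (mk P hP : Pic (PicF.XT A.hom At)) ∈ pz A.hom At ∧ (mk P hP : Pic (PicF.XT A.hom At)) ∈ rg A At ∧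
    cm φ (mk P hP : Pic (PicF.XT A.hom At)) = 𝟙 At := by
  obtain ⟨ζ, h1, h2, h3, h4⟩ := K732.AV.exists_of_isPoincareCl hPξ
  have e : ζ = mk P hP := Fga.RigGrp.toCl_injective h4
  subst e
  exact ⟨h1, h2, h3⟩

omit [GrpObj A] [GrpObj At] [GeometricallyIntegral A.hom] in
theorem hAt_eq_zero_iff {F : A.left.Modules} (hF : Coh.IsCoh F) (α : Pt At) (i : ℕ) :
    W4c5cohrankabvar.hAt k P F α i = 0 ↔ V (mc F * ic _ (Pcl (mk P hP) α)) i := by
  let _ : A.left.Over (Spec (CommRingCat.of k)) := ⟨A.hom⟩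
  have hp : IsProper (A.left ↘ (Spec (CommRingCat.of k))) := ‹IsProper A.hom›
  have hL : PicF.IsInvertible (W4c5cohrankabvar.ptLB P α) := Fdesc.LocGen.isInvertible_pullback _ hP
  have hc : Coh.IsCoh (CohB1.tensorMod F (W4c5cohrankabvar.ptLB P α)) := Ega3B.CohTensor.isCoh_tensor hF hL
  have h1 := Groth.Agent.S0002.result k A.left (CohB1.tensorMod F (W4c5cohrankabvar.ptLB P α)) hc i
  have h2 : W4c5cohrankabvar.hAt k P F α i = 0 ↔
      Subsingleton (Coh.HH A.left (CohB1.tensorMod F (W4c5cohrankabvar.ptLB P α)) i) := Module.finrank_zero_iff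
  rw [h2, ← V_mc, mc_tensor]
  have h3 : mc (W4c5cohrankabvar.ptLB P α) = ic _ (Pcl (mk P hP) α) := by
    rw [← ic_mk hL]
    rfl
  rw [h3]

variable [IsAlgClosed k] [IsProper At.hom] [GeometricallyIntegral At.hom]

include hφ hP hPξ

theorem IT_row_iff {ℓ : Pic A.left} (hℓ : IsAmp ℓ) {F : A.left.Modules} (hF : Coh.IsCoh F) :
    (∀ (i : ℕ) (α : Pt At), 1 ≤ i → W4c5cohrankabvar.hAt k P F α i = 0) ↔ IT (mc F) := by
  have := geomConn At.hom
  obtain ⟨h1, h2, h3⟩ := poinc hP hPξ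
  constructor
  · intro h i hi κ hκ
    obtain ⟨α, rfl⟩ := exists_Pcl hφ h1 h2 h3 (fun κ hκ => hℓ.surj hκ) hκ
    exact (hAt_eq_zero_iff hP hF α i).1 (h i α hi)
  · intro h i α hi
    exact (hAt_eq_zero_iff hP hF α i).2 (h i hi _ (Pcl_mem hφ h1 h2 h3 α))

theorem GV_row_iff {ℓ : Pic A.left} (hℓ : IsAmp ℓ) (g : ℕ) {F : A.left.Modules} (hF : Coh.IsCoh F) :
    (∀ i : ℕ, 1 ≤ i → ∃ Z : Set ↥At.left, IsClosed Z ∧
        topologicalKrullDim ↥Z < ((g - i + 1 : ℕ) : WithBot ℕ∞) ∧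
        ∀ α : Pt At, 0 < W4c5cohrankabvar.hAt k P F α i → Set.range α.left.base ⊆ Z) ↔ GV ℓ g (mc F) := by
  have := geomConn At.hom
  obtain ⟨h1, h2, h3⟩ := poinc hP hPξ
  have hfin := isFinite_Phi hφ h1 h2 h3 hℓ.nd
  constructor
  · intro h i hi
    obtain ⟨Z, hZ, hd, hv⟩ := h i hi
    refine ⟨(Phi φ ℓ).left ⁻¹' Z, hZ.preimage (Phi φ ℓ).left.continuous,
      lt_of_le_of_lt (DimSet.dim_preimage_le (Phi φ ℓ).left Z hZ) hd, fun y hy => ?_⟩
    rw [Set.mem_preimage, ← pt_comp]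
    refine (FibPts.range_subset_iff _ _).1 (hv (y ≫ Phi φ ℓ) (Nat.pos_of_ne_zero fun h0 => hy ?_))
    rw [← Pcl_Phi hφ h1 h2 h3]
    exact (hAt_eq_zero_iff hP hF _ i).1 h0
  · intro h i hi
    obtain ⟨Z, hZ, hd, hv⟩ := h i hi
    refine ⟨(Phi φ ℓ).left '' Z, (Phi φ ℓ).left.isClosedMap _ hZ,
      lt_of_le_of_lt (DimSet.dim_image_le (Phi φ ℓ).left (Phi φ ℓ).left.isClosedMap Z hZ) hd, fun α hα => ?_⟩
    obtain ⟨y, rfl⟩ := exists_Phi hφ h1 h2 h3 (fun κ hκ => hℓ.surj hκ) α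
    refine (FibPts.range_subset_iff _ _).2 ⟨pt y, hv y fun hV => hα.ne' ?_, ?_⟩
    · rw [hAt_eq_zero_iff hP hF, Pcl_Phi hφ h1 h2 h3]
      exact hV
    · rw [pt_comp]

omit hφ hPξ hP [GrpObj At] [GeometricallyIntegral A.hom] [IsAlgClosed k] [IsProper A.hom] [IsProper At.hom]
  [GeometricallyIntegral At.hom] in
theorem isCoh_twist {F : A.left.Modules} (hF : Coh.IsCoh F) {L L' : A.left.Modules} {c : Pic A.left} (h : mc L = ic _ c)
    (hLL' : Nonempty (CohB1.tensorMod L L' ≅ Coh.structureModule A.left)) (b : ℕ) (m : ℤ) :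
    Coh.IsCoh (W4c5cohrankabvar.twist A F L L' b m) := by
  refine isCoh_of_mc ?_
  rw [mc_twist F h hLL']
  exact ((CO.mk' hF).pm _).mul_ic _

/-- `IT(0)` of a `ℚ`-twisted module. -/
theorem IT_twist_iff {L L' : A.left.Modules} (hL : CohB1.IsAmple L)
    (hLL' : Nonempty (CohB1.tensorMod L L' ≅ Coh.structureModule A.left)) {F : A.left.Modules} (hF : Coh.IsCoh F)
    (b : ℕ) (m : ℤ) : (∀ (i : ℕ) (α : Pt At), 1 ≤ i →
      W4c5cohrankabvar.hAt k P (W4c5cohrankabvar.twist A F L L' b m) α i = 0) ↔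
      IT (pmo ((𝟙 A) ^ b) (mc F) * ic _ ((mk L hL.1) ^ m)) := by
  rw [IT_row_iff hφ hP hPξ (ℓ := mk L hL.1) ⟨L, hL, rfl⟩ (isCoh_twist hF (ic_mk hL.1).symm hLL' b m),
    mc_twist F (ic_mk hL.1).symm hLL']

/-- `GV` of a `ℚ`-twisted module. -/
theorem GV_twist_iff (g : ℕ) {L L' : A.left.Modules} (hL : CohB1.IsAmple L)
    (hLL' : Nonempty (CohB1.tensorMod L L' ≅ Coh.structureModule A.left)) {F : A.left.Modules} (hF : Coh.IsCoh F)
    (b : ℕ) (m : ℤ) : (∀ i : ℕ, 1 ≤ i → ∃ Z : Set ↥At.left, IsClosed Z ∧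
        topologicalKrullDim ↥Z < ((g - i + 1 : ℕ) : WithBot ℕ∞) ∧
        ∀ α : Pt At, 0 < W4c5cohrankabvar.hAt k P (W4c5cohrankabvar.twist A F L L' b m) α i →
          Set.range α.left.base ⊆ Z) ↔
      GV (mk L hL.1) g (pmo ((𝟙 A) ^ b) (mc F) * ic _ ((mk L hL.1) ^ m)) := by
  rw [GV_row_iff hφ hP hPξ (ℓ := mk L hL.1) ⟨L, hL, rfl⟩ g (isCoh_twist hF (ic_mk hL.1).symm hLL' b m),
    mc_twist F (ic_mk hL.1).symm hLL']

end K527.Rows
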