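import Groth.Agent.AbVar.K527.PresVan

/-!
# Lemma (*): vanishing above the dimension for the Poincaré-type class

`w` a coherent class on an abelian variety `A` of dimension `g` over an algebraically closed field, `ℓ` ample, `N ≥ 1`.

* `V_poinc`: if `[N]^* w ⊗ ℓ^N` is `IT(0)`, then `H^n(A × A, fst^* w ⊗ D_ℓ(fst, snd) ⊗ snd^* ℓ^(-N)) = 0` for all `n > g`;
* `V_poinc_of_forall_lt`: the same for `w = [b]^* x ⊗ ℓ^(ab)` and every `N ≥ 1`, if `x⟨(c/d) ℓ⟩` is `IT(0)` for all `c/d > a/b`.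
-/

set_option autoImplicit false
universe u

open CategoryTheory CategoryTheory.Limits MonoidalCategory CartesianMonoidalCategory AlgebraicGeometry TopologicalSpace
open scoped MonObj
open Groth.Agent Groth.Agent.Grpsch.PicGrp Groth.Agent.Grpsch.Cube Groth.Agent.Fga.PicMon K527.Cls
open K527.FibPts (pt)
open K518.Phi K527.ITGV K527.Powers K527.FiltVan K527.PresVan

namespace K527.Star

variable {k : Type u} [Field k] {A : Over (Spec (CommRingCat.of k))} [GrpObj A] [IsProper A.hom]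
  [GeometricallyIntegral A.hom]

/-- Cohomology of the inverse of an ample class outside the top degree. -/
theorem IsAmp.van_inv {ℓ : Pic A.left} (h : IsAmp ℓ) {g : ℕ} (hg : topologicalKrullDim A.left = g) {q : ℕ}
    (hq : q ≠ g) [IsAlgClosed k] : V (ic _ ℓ⁻¹) q := by
  obtain ⟨i, hi, h1, h2⟩ := K524.Index.ND.exists_idx g hg (c := ℓ) h.nd
  have h0 : i = 0 := by
    by_contra hne
    exact h1.2 ((van_iff _ _).2 (h.van (Nat.one_le_iff_ne_zero.2 hne)))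
  rw [h0, Nat.sub_zero] at h2
  rw [← van_iff]
  exact h2.1 q hq

variable (A) in
/-- The isogeny `(x, y) ↦ (N x, y)`. -/
noncomputable def nn (N : ℕ) : A ⊗ A ⟶ A ⊗ A := ((𝟙 A) ^ N) ⊗ₘ 𝟙 A

omit [IsProper A.hom] [GeometricallyIntegral A.hom] in
theorem nn_fst (N : ℕ) : nn A N ≫ fst A A = fst A A ≫ (𝟙 A) ^ N := tensorHom_fst _ _

omit [IsProper A.hom] [GeometricallyIntegral A.hom] in
theorem nn_snd (N : ℕ) : nn A N ≫ snd A A = snd A A := by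
  rw [nn, tensorHom_snd, Category.comp_id]

instance isMonHom_nn (N : ℕ) : IsMonHom (nn A N) := by
  have := Grpsch.MulFinFlat.isMonHom_id_pow k A N
  rw [nn]
  infer_instance

theorem isFinite_nn (N : ℕ) (hN : 1 ≤ N) : IsFinite (nn A N).left ∧ Surjective (nn A N).left := by
  obtain ⟨i1, -, i2⟩ := Grpsch.MulFinFlat.isFinite_flat_surjective k A N hN
  constructor
  · exact MorphismProperty.pullbackMap (P := @IsFinite) i1 (inferInstanceAs (IsFinite (𝟙 A.left)))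
      (Over.w ((𝟙 A) ^ N)).symm (Over.w (𝟙 A)).symm
  · exact MorphismProperty.pullbackMap (P := @Surjective) i2 (inferInstanceAs (Surjective (𝟙 A.left)))
      (Over.w ((𝟙 A) ^ N)).symm (Over.w (𝟙 A)).symm

theorem D_inv_right (ℓ : Pic A.left) {T : Over (Spec (CommRingCat.of k))} (f h : T ⟶ A) : D ℓ f h⁻¹ = (D ℓ f h)⁻¹ :=
  map_inv (Dhom ℓ f) h

variable [IsAlgClosed k]

/-- `[-1]^* ℓ = κ ℓ`. -/
theorem exists_pl_inv (ℓ : Pic A.left) : ∃ κ ∈ Inv A, pl (𝟙 A)⁻¹ ℓ = κ * ℓ := by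
  have hm : IsMonHom ((𝟙 A)⁻¹) := by
    have := Grpsch.MulFinFlat.isMonHom_id_zpow k A (-1)
    rwa [zpow_neg_one] at this
  refine ⟨pl (𝟙 A)⁻¹ ℓ * ℓ⁻¹, phi_eq_iff.1 fun x => ?_, by rw [inv_mul_cancel_right]⟩
  rw [phi_pl, GrpObj.comp_inv, Category.comp_id, pl_inv_of_inv (phi_mem_Inv _ _), pl_id, phi_inv, inv_inv]

/-- The Mumford class in terms of the difference. -/
theorem D_eq (ℓ : Pic A.left) : ∃ κ ∈ Inv A,
    D ℓ (fst A A) (snd A A) = pl (fst A A) ℓ * pl (snd A A) (κ * ℓ) * (pl (dif A) ℓ)⁻¹ := by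
  obtain ⟨κ, hκ, h⟩ := exists_pl_inv ℓ
  refine ⟨κ, hκ, ?_⟩
  have h1 := pl_mul ℓ (fst A A) (snd A A)⁻¹
  have h2 : (snd A A)⁻¹ = snd A A ≫ (𝟙 A)⁻¹ := by rw [GrpObj.comp_inv, Category.comp_id]
  rw [D_inv_right] at h1
  rw [dif, h1, ← h, ← pl_comp, ← h2]
  apply Additive.ofMul.injective
  simp only [ofMul_mul, ofMul_inv]
  module

variable {ℓ : Pic A.left} (hℓ : IsAmp ℓ) {g : ℕ} (hg : topologicalKrullDim A.left = g)

include hℓ hg

/-- The class after pull back by `(x, y) ↦ (N x, y)`. -/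
theorem V_nn {v : MC A.left} (hv : CO v) {N : ℕ} (hN : 1 ≤ N) (h : IT (v * ic _ (ℓ ^ N))) {n : ℕ} (hn : g < n) :
    V (pmo (fst A A) v * ic _ (D ℓ (fst A A) (snd A A) ^ N) * ic _ (pl (snd A A) (ℓ ^ N)⁻¹)) n := by
  have hc : IsCommMonObj A := isCommMonObj_of_isProper_of_geometricallyIntegral A
  have := noetherianSpace A
  obtain ⟨κ, hκ, hD⟩ := D_eq ℓ
  have hco : CO (pmo (fst A A) v * ic _ (D ℓ (fst A A) (snd A A) ^ N) * ic _ (pl (snd A A) (ℓ ^ N)⁻¹)) :=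
    ((hv.pm _).mul_ic _).mul_ic _
  rw [← V_pmo_iso (lift (fst A A) (dif A)) hco.qc]
  have e1 : pl (lift (fst A A) (dif A)) (D ℓ (fst A A) (snd A A) ^ N) * pl (lift (fst A A) (dif A)) (pl (snd A A) (ℓ ^ N)⁻¹) =
      pl (fst A A) (ℓ ^ N * κ ^ N) * pl (snd A A) (κ ^ N * ℓ ^ N)⁻¹ := by
    have e2 : lift (fst A A) (dif A) ≫ dif A = snd A A := by
      rw [lift_dif, dif, mul_inv, inv_inv, mul_inv_cancel_left]
    have e3 : pl (dif A) κ = pl (fst A A) κ * (pl (snd A A) κ)⁻¹ := by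
      rw [dif, pl_mul_of_inv hκ, pl_inv_of_inv hκ]
    rw [hD, map_pow, map_mul, map_mul, map_inv, ← pl_comp, ← pl_comp, ← pl_comp, ← pl_comp, lift_fst, lift_snd, e2,
      map_mul (pl (dif A)), e3]
    apply Additive.ofMul.injective
    simp only [map_mul, map_pow, map_inv, ofMul_mul, ofMul_inv, ofMul_pow]
    module
  have e4 : pmo (lift (fst A A) (dif A)) (pmo (fst A A) v * ic _ (D ℓ (fst A A) (snd A A) ^ N) *
      ic _ (pl (snd A A) (ℓ ^ N)⁻¹)) =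
      pmo (fst A A) (v * ic _ (ℓ ^ N) * ic _ (κ ^ N)) * pmo (snd A A) (ic _ (κ ^ N * ℓ ^ N)⁻¹) := by
    rw [map_mul, map_mul, pmo_ic, pmo_ic, ← pmo_comp, lift_fst, mul_assoc, ← map_mul, e1, map_mul (ic _), ← pmo_ic,
      ← pmo_ic, ← mul_assoc, ← map_mul (pmo (fst A A)), map_mul (ic A.left), ← mul_assoc]
  rw [e4, V_box_iff A A ((hv.mul_ic _).mul_ic _).qc (CO.ic _).qc]
  intro p q hpq
  by_cases hq : q = g
  · left
    exact h p (by omega) _ (pow_mem hκ N)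
  · right
    exact IsAmp.van_inv ((IsAmp.pow hℓ hN).mul_inv (pow_mem hκ N)) hg hq

/-- **Lemma (*)** -/
theorem V_poinc {w : MC A.left} (hw : CO w) {N : ℕ} (hN : 1 ≤ N) (h : IT (pmo ((𝟙 A) ^ N) w * ic _ (ℓ ^ N)))
    {n : ℕ} (hn : g < n) :
    V (pmo (fst A A) w * ic _ (D ℓ (fst A A) (snd A A)) * ic _ (pl (snd A A) (ℓ ^ N)⁻¹)) n := by
  obtain ⟨i1, i2⟩ := isFinite_nn (A := A) N hN
  have hco : CO (pmo (fst A A) w * ic _ (D ℓ (fst A A) (snd A A)) * ic _ (pl (snd A A) (ℓ ^ N)⁻¹)) :=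
    ((hw.pm _).mul_ic _).mul_ic _
  refine AVIso.V_down (nn A N) hco.qc (g + 1) (fun j hj => ?_) n hn
  have e : pmo (nn A N) (pmo (fst A A) w * ic _ (D ℓ (fst A A) (snd A A)) * ic _ (pl (snd A A) (ℓ ^ N)⁻¹)) =
      pmo (fst A A) (pmo ((𝟙 A) ^ N) w) * ic _ (D ℓ (fst A A) (snd A A) ^ N) * ic _ (pl (snd A A) (ℓ ^ N)⁻¹) := by
    rw [map_mul, map_mul, pmo_ic, pmo_ic, ← pmo_comp, ← pmo_comp, ← pl_comp, nn_fst, nn_snd, pl_D, nn_fst, nn_snd,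
      MonObj.comp_pow, Category.comp_id, D_pow_left]
  rw [e]
  exact V_nn hℓ hg (hw.pm _) hN h (by omega)

omit hg in
/-- `IT(0)` of `[N]^* w ⊗ ℓ^N`, `w = [b]^* x ⊗ ℓ^(ab)`, from `IT(0)` of the rational twists above `a/b`. -/
theorem IT_of_forall_lt {x : MC A.left} (hx : CO x) {a : ℤ} {b : ℕ} (hb : 0 < b)
    (h : ∀ (c : ℤ) (d : ℕ), 0 < d → a * d < c * b → IT (pmo ((𝟙 A) ^ d) x * ic _ (ℓ ^ (c * d)))) {N : ℕ} (hN : 1 ≤ N) :
    IT (pmo ((𝟙 A) ^ N) (pmo ((𝟙 A) ^ b) x * ic _ (ℓ ^ (a * b))) * ic _ (ℓ ^ N)) := by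
  have hmb := Grpsch.MulFinFlat.isMonHom_id_pow k A b
  obtain ⟨i1, -, i2⟩ := Grpsch.MulFinFlat.isFinite_flat_surjective k A b hb
  have hco : CO (pmo ((𝟙 A) ^ N) (pmo ((𝟙 A) ^ b) x * ic _ (ℓ ^ (a * b))) * ic _ (ℓ ^ N)) :=
    (((hx.pm _).mul_ic _).pm _).mul_ic _
  rw [← AVIso.IT_iff ((𝟙 A) ^ b) hℓ hco.qc]
  obtain ⟨κ, hκ, h1⟩ := exists_pmo_twist ℓ x a b (N * b)
  obtain ⟨κ', hκ', h2⟩ := exists_pl_pow ℓ b
  have h3 : pmo ((𝟙 A) ^ b) (pmo ((𝟙 A) ^ N) (pmo ((𝟙 A) ^ b) x * ic _ (ℓ ^ (a * b))) * ic _ (ℓ ^ N)) =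
      pmo ((𝟙 A) ^ (N * b * b)) x * ic _ (ℓ ^ ((a * (N * b : ℕ) + 1) * (N * b * b : ℕ))) * ic _ (κ * κ' ^ N) := by
    rw [map_mul (pmo ((𝟙 A) ^ b)), pmo_ic, ← pmo_comp ((𝟙 A) ^ b) ((𝟙 A) ^ N), MonObj.comp_pow, Category.comp_id,
      ← pow_mul, mul_comm b N, h1, map_pow, h2, mul_assoc, ← map_mul, mul_assoc (pmo _ x), ← map_mul]
    congr 2
    have e1 : ((a * (N * b : ℕ) + 1) * (N * b * b : ℕ) : ℤ) = a * b * ((N * b) ^ 2 : ℕ) + ((b ^ 2 * N : ℕ) : ℤ) := by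
      push_cast
      ring
    rw [e1, zpow_add, zpow_natCast, pow_mul ℓ]
    apply Additive.ofMul.injective
    simp only [ofMul_mul, ofMul_pow]
    module
  rw [h3, IT_mul_iff (mul_mem hκ (pow_mem hκ' N))]
  refine h _ _ (by positivity) ?_
  push_cast
  nlinarith

/-- Lemma (*) for rational twists. -/
theorem V_poinc_of_forall_lt {x : MC A.left} (hx : CO x) {a : ℤ} {b : ℕ} (hb : 0 < b)
    (h : ∀ (c : ℤ) (d : ℕ), 0 < d → a * d < c * b → IT (pmo ((𝟙 A) ^ d) x * ic _ (ℓ ^ (c * d)))) {N : ℕ} (hN : 1 ≤ N)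
    {n : ℕ} (hn : g < n) :
    V (pmo (fst A A) (pmo ((𝟙 A) ^ b) x * ic _ (ℓ ^ (a * b))) * ic _ (D ℓ (fst A A) (snd A A)) *
      ic _ (pl (snd A A) (ℓ ^ N)⁻¹)) n :=
  V_poinc hℓ hg ((hx.pm _).mul_ic _) hN (IT_of_forall_lt hℓ hx hb h hN) hn

end K527.Star
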