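import Groth.Agent.AbVar.K527.AbsFilt
import Mathlib.CategoryTheory.Adjunction.Basic

/-!
# Filtration of `G O` for an adjunction `F ⊣ G` with `F` exact and `F G O ≅ O ^ n`

`F ⊣ G`, `End O = k` algebraically closed, and pairwise commuting endomorphisms `ρ i` of `G O` whose adjoints
`F G O ⟶ O` exhibit `F G O` as the product `O ^ n`.  Then `G O` has a finite filtration with graded pieces `Q`,
`F Q ≅ O`.
-/

set_option autoImplicit false

universe v₁ v₂ u₁ u₂ w

open CategoryTheory CategoryTheory.Limits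

namespace K527.AdjFilt

open K527.AbsFilt

variable {C : Type u₁} [Category.{w} C] [Abelian C] {D : Type u₂} [Category.{v₂} D] [Abelian D]
  {F : C ⥤ D} [F.Additive] [PreservesFiniteLimits F] [PreservesFiniteColimits F]
  {G : D ⥤ C} [G.Additive] (adj : F ⊣ G) {O : D} {k : Type w} [Field k]
  {τ : k →+* End O} (hτ : Function.Bijective τ) {n : ℕ} (ρ : Fin n → (G.obj O ⟶ G.obj O))

/-- The functional attached to an endomorphism. -/
def th (w : G.obj O ⟶ G.obj O) : F.obj (G.obj O) ⟶ O := F.map w ≫ adj.counit.app O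

omit [Abelian C] [Abelian D] [F.Additive] [PreservesFiniteLimits F] [PreservesFiniteColimits F]
  [G.Additive] in
theorem th_eq (w : G.obj O ⟶ G.obj O) : th adj w = (adj.homEquiv _ _).symm w := by
  rw [th, Adjunction.homEquiv_counit]

omit [Abelian C] [Abelian D] [F.Additive] [PreservesFiniteLimits F] [PreservesFiniteColimits F]
  [G.Additive] in
theorem th_injective : Function.Injective (th adj (O := O)) := by
  intro a b h
  rw [th_eq, th_eq] at h
  exact (adj.homEquiv _ _).symm.injective h

omit [Abelian C] [Abelian D] [F.Additive] [PreservesFiniteLimits F] [PreservesFiniteColimits F]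
  [G.Additive] in
theorem th_comp_map (w : G.obj O ⟶ G.obj O) (t : O ⟶ O) : th adj (w ≫ G.map t) = th adj w ≫ t := by
  rw [th, th, F.map_comp, Category.assoc, Category.assoc]
  congr 1
  exact adj.counit.naturality t

/-- spanning. -/
theorem exists_span (h1 : ∀ {Z : D} (z z' : Z ⟶ F.obj (G.obj O)),
      (∀ i, z ≫ th adj (ρ i) = z' ≫ th adj (ρ i)) → z = z')
    (h2 : ∀ {Z : D} (g : Fin n → (Z ⟶ O)), ∃ z : Z ⟶ F.obj (G.obj O), ∀ i, z ≫ th adj (ρ i) = g i)
    (w : G.obj O ⟶ G.obj O) :
    ∃ t : Fin n → (O ⟶ O), w = ∑ i, ρ i ≫ G.map (t i) := by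
  classical
  have h3 : ∀ i : Fin n, ∃ s : O ⟶ F.obj (G.obj O), ∀ j, s ≫ th adj (ρ j) = if i = j then 𝟙 O else 0 :=
    fun i => h2 _
  choose s hs using h3
  have hid : 𝟙 (F.obj (G.obj O)) = ∑ i, th adj (ρ i) ≫ s i := by
    apply h1
    intro j
    rw [Category.id_comp, Preadditive.sum_comp]
    simp only [Category.assoc, hs]
    rw [Finset.sum_eq_single j]
    · simp
    · intro b _ hb
      simp [hb]
    · simp
  refine ⟨fun i => s i ≫ th adj w, th_injective adj ?_⟩
  have h4 : th adj w = ∑ i, th adj (ρ i) ≫ (s i ≫ th adj w) := by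
    calc th adj w = 𝟙 _ ≫ th adj w := (Category.id_comp _).symm
      _ = _ := by
        rw [hid, Preadditive.sum_comp]
        simp only [Category.assoc]
  have h5 : th adj (∑ i, ρ i ≫ G.map (s i ≫ th adj w)) =
      ∑ i, th adj (ρ i ≫ G.map (s i ≫ th adj w)) := by
    rw [th, F.map_sum, Preadditive.sum_comp]
    rfl
  refine h4.trans (Eq.trans ?_ h5.symm)
  exact Finset.sum_congr rfl fun i _ => (th_comp_map adj _ _).symm

/-- **Filtration of `G O`.** -/
theorem filt [IsAlgClosed k] (hτ : Function.Bijective τ) (hcomm : ∀ i j, ρ i ≫ ρ j = ρ j ≫ ρ i)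
    (hk : ∀ (i : Fin n) (t : O ⟶ O), ρ i ≫ G.map t = G.map t ≫ ρ i)
    (h1 : ∀ {Z : D} (z z' : Z ⟶ F.obj (G.obj O)),
      (∀ i, z ≫ th adj (ρ i) = z' ≫ th adj (ρ i)) → z = z')
    (h2 : ∀ {Z : D} (g : Fin n → (Z ⟶ O)), ∃ z : Z ⟶ F.obj (G.obj O), ∀ i, z ≫ th adj (ρ i) = g i)
    (W : C → Prop) (hE : W (G.obj O)) (hW : ∀ {M N : C} (φ : M ⟶ N), W M → W N → W (kernel φ))
    (hW' : ∀ {M N : C} (φ : M ⟶ N), W M → W N → W (cokernel φ)) :
    Filt (fun M => W M ∧ Nonempty (F.obj M ≅ O)) (G.obj O) := by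
  classical
  have hspan := exists_span adj ρ h1 h2
  have hττ : ∀ s t : O ⟶ O, s ≫ t = t ≫ s := by
    intro s t
    obtain ⟨a, rfl⟩ := hτ.2 s
    obtain ⟨b, rfl⟩ := hτ.2 t
    have : (τ b * τ a : End O) = τ a * τ b := by rw [← map_mul, mul_comm, map_mul]
    exact this
  have hXY : ∀ (i j : Fin n) (s t : O ⟶ O),
      (ρ i ≫ G.map s) ≫ (ρ j ≫ G.map t) = (ρ j ≫ G.map t) ≫ (ρ i ≫ G.map s) := by
    intro i j s t
    simp only [Category.assoc]
    rw [← Category.assoc (G.map s) (ρ j), ← hk, Category.assoc, ← G.map_comp,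
      ← Category.assoc (ρ i), hcomm, Category.assoc, ← Category.assoc (G.map t) (ρ i), ← hk,
      Category.assoc, ← G.map_comp, hττ]
  have hmul : ∀ a b : End (G.obj O), a * b = b * a := by
    intro a b
    change (b : G.obj O ⟶ G.obj O) ≫ a = a ≫ b
    obtain ⟨s, hs⟩ := hspan a
    obtain ⟨t, ht⟩ := hspan b
    rw [hs, ht]
    simp only [Preadditive.comp_sum, Preadditive.sum_comp]
    rw [Finset.sum_comm]
    exact Finset.sum_congr rfl fun i _ => Finset.sum_congr rfl fun j _ => hXY _ _ _ _
  let cr : CommRing (End (G.obj O)) := { (inferInstance : Ring (End (G.obj O))) with mul_comm := hmul }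
  let σ : k →+* End (G.obj O) :=
    { toFun := fun a => G.map (τ a)
      map_one' := by
        rw [map_one]
        exact G.map_id _
      map_mul' := fun a b => by
        rw [map_mul]
        exact G.map_comp _ _
      map_zero' := by
        rw [map_zero]
        exact G.map_zero _ _
      map_add' := fun a b => by
        rw [map_add]
        exact G.map_add }
  let alg : Algebra k (End (G.obj O)) := σ.toAlgebra
  have hsmul : ∀ (a : k) (w : End (G.obj O)), a • w = (w ≫ G.map (τ a) : G.obj O ⟶ G.obj O) :=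
    fun a w => rfl
  let ρ' : Fin n → End (G.obj O) := ρ
  have htop : (⊤ : Submodule k (End (G.obj O))) = Submodule.span k (Set.range ρ') := by
    symm
    rw [eq_top_iff]
    rintro w -
    obtain ⟨t, ht⟩ := hspan w
    rw [show w = (∑ i, (ρ i ≫ G.map (t i) : End (G.obj O))) from ht]
    refine Submodule.sum_mem _ fun i _ => ?_
    obtain ⟨a, ha⟩ := hτ.2 (t i)
    rw [← ha, show (ρ i ≫ G.map (τ a) : End (G.obj O)) = a • ρ' i from rfl]
    exact Submodule.smul_mem _ _ (Submodule.subset_span ⟨i, rfl⟩)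
  have hfin : Module.Finite k (End (G.obj O)) := by
    refine ⟨⟨Finset.univ.image ρ', ?_⟩⟩
    rw [htop]
    simp
  have hΘ : ∀ u, Θ F (RingHom.id (End (G.obj O))) (adj.counit.app O) u = th adj u := fun u => rfl
  have hadd : ∀ u v : End (G.obj O), th adj (u + v) = th adj u + th adj v := by
    intro u v
    rw [th, th, th, F.map_add, Preadditive.add_comp]
  have hsm : ∀ (a : k) (u : End (G.obj O)), th adj (a • u) = th adj u ≫ τ a := by
    intro a u
    rw [hsmul]
    exact th_comp_map adj _ _
  have hdata : Data (F := F) (T := RingHom.id (End (G.obj O))) (adj.counit.app O) τ := by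
    refine ⟨?_, ?_, ?_⟩
    · intro a u
      rw [← Algebra.smul_def]
      exact hsm a u
    · intro Z z z' h
      exact h1 z z' fun i => h (ρ i)
    · intro ℓ
      obtain ⟨s, hs⟩ := h2 (Z := O) fun i => τ (ℓ (ρ i))
      refine ⟨s, fun u => ?_⟩
      rw [hΘ]
      have hu : u ∈ Submodule.span k (Set.range ρ') := by
        rw [← htop]
        exact Submodule.mem_top
      induction hu using Submodule.span_induction with
      | mem x hx =>
        obtain ⟨i, rfl⟩ := hx
        exact hs i
      | zero =>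
        rw [map_zero, map_zero, th, F.map_zero, zero_comp, comp_zero]
      | add x y _ _ hx hy =>
        rw [hadd, Preadditive.comp_add, hx, hy, map_add, map_add]
      | smul a x _ hx =>
        rw [hsm, ← Category.assoc, hx, map_smul, smul_eq_mul, map_mul]
        rfl
  exact hdata.filt W hE hW hW'

end K527.AdjFilt
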