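import Groth.Agent.AbVar.K527.ITGV
import Groth.Agent.AbVar.K513.Lam
import Groth.Agent.AbVar.K523.DimHom
import Groth.Agent.Sga3.H794.FinPts
import Groth.Agent.S3037

/-!
# From the Poincaré class to translation invariant classes

`ξ` the Poincaré class on `A ⊗ At`, `Pcl ξ α = P_α`:
* `Pcl_mem`, `Pcl_mul`, `Pcl_inj`, `exists_Pcl`: `α ↦ P_α` is an isomorphism of `At(k)` onto the group of invariant classes;
* `Phi φ ℓ : A ⟶ At` with `Pcl (y ≫ Phi) = φ_ℓ(y)`, finite and surjective for `ℓ` ample.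
-/

set_option autoImplicit false
universe u

open CategoryTheory CategoryTheory.Limits MonoidalCategory CartesianMonoidalCategory AlgebraicGeometry TopologicalSpace
open scoped MonObj
open Groth.Agent Groth.Agent.Grpsch.PicGrp Groth.Agent.Grpsch.Cube Groth.Agent.Fga.PicMon K527.Cls
open Groth.Agent.Fga.RigGrp K732.PicZero K732.Dual K732.Prim K732.CubeSec
open K527.FibPts (pt)
open K518.Phi K527.ITGV

namespace K527.Bridge

variable {k : Type u} [Field k] {A At : Over (Spec (CommRingCat.of k))} [GrpObj A] [GrpObj At]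

theorem geomConn {X Y : Scheme.{u}} (f : X ⟶ Y) [GeometricallyIntegral f] : GeometricallyConnected f := by
  refine ⟨fun K _ y Z fst snd h => ?_⟩
  have : IsIntegral Z := GeometricallyIntegral.geometrically_isIntegral (f := f) y fst snd h
  infer_instance

/-- A homomorphism between algebraic groups is finite if finitely many rational points map to `1`. -/
theorem isFinite_of_finite_ker [IsAlgClosed k] {G H : Over (Spec (CommRingCat.of k))} [GrpObj G] [GrpObj H]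
    [LocallyOfFiniteType G.hom] [LocallyOfFiniteType H.hom] (f : G ⟶ H) [IsMonHom f] [QuasiCompact f.left]
    (h : {x : Pt G | x ≫ f = 1}.Finite) : IsFinite f.left := by
  rw [S3037.result k G H f]
  let η' : Spec (CommRingCat.of k) ⟶ H.left := (η[H] : 𝟙_ (Over (Spec (CommRingCat.of k))) ⟶ H).left
  have hη' : η' ≫ H.hom = 𝟙 _ := Over.w (η[H] : 𝟙_ (Over (Spec (CommRingCat.of k))) ⟶ H)
  let κ : Over.mk (Limits.pullback.snd f.left η') ⟶ G := Over.homMk (Limits.pullback.fst f.left η') (by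
    have h := Limits.pullback.condition (f := f.left) (g := η') =≫ H.hom
    simp only [Category.assoc, hη', Over.w] at h
    simpa using h)
  have hlft : LocallyOfFiniteType (Over.mk (Limits.pullback.snd f.left η')).hom := by
    change LocallyOfFiniteType (Limits.pullback.snd f.left η')
    have : LocallyOfFiniteType f.left := by
      have h1 : LocallyOfFiniteType (f.left ≫ H.hom) := by rw [Over.w]; infer_instance
      exact locallyOfFiniteType_of_comp f.left H.hom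
    infer_instance
  have hK : IsPullback κ (toUnit _) f η[H] := by
    refine IsPullback.of_map (Over.forget _) ?_ ?_
    · ext1
      exact Limits.pullback.condition (f := f.left) (g := η')
    · exact IsPullback.of_hasPullback f.left η'
  refine Sga3.H794.FinPts.discreteTopology_of_finite (X := Over.mk (Limits.pullback.snd f.left η')) ?_
  have := h.to_subtype
  have hker : ∀ y : Pt (Over.mk (Limits.pullback.snd f.left η')), (y ≫ κ) ≫ f = 1 := fun y => by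
    rw [Category.assoc, hK.w, ← Category.assoc, Hom.one_def]
    congr 1
    exact toUnit_unique _ _
  refine Finite.of_injective (β := {x : Pt G | x ≫ f = 1}) (fun y => ⟨y ≫ κ, hker y⟩) (fun y y' hyy' => ?_)
  have h1 : y ≫ κ = y' ≫ κ := congrArg Subtype.val hyy'
  exact hK.hom_ext h1 (toUnit_unique _ _)

/-- `P_α`. -/
noncomputable def Pcl (ξ : Pic (PicF.XT A.hom At)) (α : Pt At) : Pic A.left :=
  ev (𝟙 A) (toUnit A ≫ α) ξ

section

variable [IsProper A.hom] [GeometricallyIntegral A.hom]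
  {φ : ∀ T : Over (Spec (CommRingCat.of k)), PicF.Cl (PicF.XT A.hom T) → (T ⟶ At)}
  (hφ : AbDual.IsDualAV Scheme.fppfPrecoverage A At φ)
  {ξ : Pic (PicF.XT A.hom At)} (h1 : ξ ∈ pz A.hom At) (h2 : ξ ∈ rg A At) (h3 : cm φ ξ = 𝟙 At)

include hφ h1 h2 h3

theorem Pcl_mul (α β : Pt At) : Pcl ξ (α * β) = Pcl ξ α * Pcl ξ β := by
  rw [Pcl, MonObj.comp_mul]
  exact K512.PoincId.ev_mul_right hφ h1 h2 h3 (𝟙 A) (toUnit A ≫ α) (toUnit A ≫ β)

theorem Pcl_one : Pcl ξ (1 : Pt At) = 1 := by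
  have h := Pcl_mul hφ h1 h2 h3 (1 : Pt At) 1
  rw [mul_one] at h
  exact mul_eq_left.1 h.symm

theorem Pcl_inj {α β : Pt At} (h : Pcl ξ α = Pcl ξ β) : α = β := by
  have h4 : pull (PicF.XTmap A.hom α) ξ = pull (PicF.XTmap A.hom β) ξ := by
    refine ext_ev fun W a g => ?_
    rw [ev_XTmap, ev_XTmap]
    have e : ∀ α : Pt At, ev a (g ≫ α) ξ = pull a.left (Pcl ξ α) := fun α => by
      rw [Pcl, pull_ev, Category.comp_id, ← Category.assoc, toUnit_unique (a ≫ toUnit A) g]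
    rw [e, e, h]
  have h5 := congrArg (cm φ) h4
  rwa [cm_pull hφ _ h1, cm_pull hφ _ h1, h3, Category.comp_id, Category.comp_id] at h5

theorem Pcl_mem [LocallyOfFiniteType At.hom] [GeometricallyConnected At.hom] (α : Pt At) : Pcl ξ α ∈ Inv A := by
  refine mem_Inv_iff.2 fun x => ?_
  change pull (tr x).left (ev (𝟙 A) (toUnit A ≫ α) ξ) = _
  rw [pull_ev, Category.comp_id, ← Category.assoc, toUnit_unique (tr x ≫ toUnit A) (toUnit A)]
  have h4 := poinc_mul hφ h1 h2 h3 (𝟙 A) (toUnit A ≫ x) (toUnit A ≫ α)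
  have h5 : ev (toUnit A ≫ x) (toUnit A ≫ α) ξ = 1 := by
    rw [← pull_ev, show ev x α ξ = 1 from pic_spec_local k _, map_one]
  rw [h5, mul_one] at h4
  exact h4

variable (φ) in
/-- The homomorphism `A ⟶ At` attached to a class. -/
noncomputable def Phi (ℓ : Pic A.left) : A ⟶ At := cm φ (T := A) (D ℓ (fst A A) (snd A A))

omit h1 h2 h3 hφ [GrpObj At] in
theorem D_mem_pz (ℓ : Pic A.left) : (D ℓ (fst A A) (snd A A) : Pic (A ⊗ A).left) ∈ pz A.hom A := by
  have := geomConn A.hom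
  have h := K513.Lam.isPicZeroCl_lam ℓ A (𝟙 A)
  rw [Category.comp_id] at h
  exact isPicZeroCl_iff.1 h

omit h1 h2 h3 hφ [GrpObj At] [IsProper A.hom] [GeometricallyIntegral A.hom] in
theorem D_mem_rg (ℓ : Pic A.left) : (D ℓ (fst A A) (snd A A) : Pic (A ⊗ A).left) ∈ rg A A := by
  refine mem_rg_iff.2 ?_
  change pl (lift (1 : A ⟶ A) (𝟙 A)) (D ℓ (fst A A) (snd A A)) = 1
  rw [pl_D, lift_fst, lift_snd, D_one_left]

theorem pull_Phi (ℓ : Pic A.left) :
    pull (PicF.XTmap A.hom (Phi φ ℓ)) ξ = (D ℓ (fst A A) (snd A A) : Pic (A ⊗ A).left) :=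
  (eq_pull_poinc hφ (bijective_XTproj A.hom) h1 h2 h3 (D_mem_pz ℓ) (D_mem_rg ℓ)).symm

theorem Pcl_Phi (ℓ : Pic A.left) (y : Pt A) : Pcl ξ (y ≫ Phi φ ℓ) = phi ℓ y := by
  rw [Pcl, ← Category.assoc, ← ev_XTmap, pull_Phi hφ h1 h2 h3]
  change pl (lift (𝟙 A) (toUnit A ≫ y)) (D ℓ (fst A A) (snd A A)) = _
  rw [pl_D, lift_fst, lift_snd, D_id_const]

theorem ev_pull_Phi (ℓ : Pic A.left) {W T : Over (Spec (CommRingCat.of k))} (a : W ⟶ A) (g : W ⟶ T) (h : T ⟶ A) :
    ev a g (pull (PicF.XTmap A.hom h) (D ℓ (fst A A) (snd A A) : Pic (A ⊗ A).left)) = D ℓ a (g ≫ h) := by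
  rw [ev_XTmap]
  change pl (lift a (g ≫ h)) (D ℓ (fst A A) (snd A A)) = _
  rw [pl_D, lift_fst, lift_snd]

theorem mul_Phi (ℓ : Pic A.left) {T : Over (Spec (CommRingCat.of k))} (a b : T ⟶ A) :
    (a * b) ≫ Phi φ ℓ = (a ≫ Phi φ ℓ) * (b ≫ Phi φ ℓ) := by
  have e : ∀ a : T ⟶ A, a ≫ Phi φ ℓ = cm φ (pull (PicF.XTmap A.hom a) (D ℓ (fst A A) (snd A A) : Pic (A ⊗ A).left)) :=
    fun a => (cm_pull hφ a (D_mem_pz ℓ)).symm
  have e2 : pull (PicF.XTmap A.hom (a * b)) (D ℓ (fst A A) (snd A A) : Pic (A ⊗ A).left) =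
      pull (PicF.XTmap A.hom a) (D ℓ (fst A A) (snd A A) : Pic (A ⊗ A).left) *
        pull (PicF.XTmap A.hom b) (D ℓ (fst A A) (snd A A) : Pic (A ⊗ A).left) := by
    refine ext_ev fun W u g => ?_
    rw [map_mul, ev_pull_Phi hφ h1 h2 h3, ev_pull_Phi hφ h1 h2 h3, ev_pull_Phi hφ h1 h2 h3, MonObj.comp_mul, D_mul_right]
  rw [e, e, e, e2, cm_mul hφ (pull_XTmap_mem _ (D_mem_pz ℓ)) (pull_XTmap_mem _ (D_mem_pz ℓ))]

theorem isMonHom_Phi (ℓ : Pic A.left) : IsMonHom (Phi φ ℓ) where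
  one_hom := by
    have h := mul_Phi hφ h1 h2 h3 ℓ (1 : 𝟙_ (Over (Spec (CommRingCat.of k))) ⟶ A) 1
    rw [mul_one] at h
    exact mul_eq_left.1 h.symm
  mul_hom := by
    have h := mul_Phi hφ h1 h2 h3 ℓ (fst A A) (snd A A)
    rw [Hom.mul_def, Hom.mul_def, lift_fst_snd, Category.id_comp, lift_fst_comp_snd_comp] at h
    exact h

theorem comp_Phi_eq_one {ℓ : Pic A.left} {y : Pt A} (h : y ≫ Phi φ ℓ = 1) : phi ℓ y = 1 := by
  rw [← Pcl_Phi hφ h1 h2 h3, h, Pcl_one hφ h1 h2 h3]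

theorem isFinite_Phi [IsAlgClosed k] [LocallyOfFiniteType At.hom] [IsSeparated At.hom] {ℓ : Pic A.left}
    (h : {x : Pt A | phi ℓ x = 1}.Finite) : IsFinite (Phi φ ℓ).left := by
  have := isMonHom_Phi hφ h1 h2 h3 ℓ
  have : QuasiCompact ((Phi φ ℓ).left ≫ At.hom) := by rw [Over.w]; infer_instance
  have : QuasiCompact (Phi φ ℓ).left := QuasiCompact.of_comp _ At.hom
  refine isFinite_of_finite_ker (Phi φ ℓ) (h.subset fun x hx => comp_Phi_eq_one hφ h1 h2 h3 hx)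

theorem exists_Phi [LocallyOfFiniteType At.hom] [GeometricallyConnected At.hom] {ℓ : Pic A.left}
    (h : ∀ κ ∈ Inv A, ∃ y : Pt A, phi ℓ y = κ) (α : Pt At) : ∃ y : Pt A, y ≫ Phi φ ℓ = α := by
  obtain ⟨y, hy⟩ := h _ (Pcl_mem hφ h1 h2 h3 α)
  refine ⟨y, Pcl_inj hφ h1 h2 h3 ?_⟩
  rw [Pcl_Phi hφ h1 h2 h3, hy]

theorem exists_Pcl {ℓ : Pic A.left} (h : ∀ κ ∈ Inv A, ∃ y : Pt A, phi ℓ y = κ) {κ : Pic A.left} (hκ : κ ∈ Inv A) :
    ∃ α : Pt At, Pcl ξ α = κ := by
  obtain ⟨y, hy⟩ := h κ hκ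
  exact ⟨y ≫ Phi φ ℓ, by rw [Pcl_Phi hφ h1 h2 h3, hy]⟩

end

end K527.Bridge
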