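import Groth.Agent.AbVar.K527.TorsorPush
import Groth.Agent.AbVar.K527.AdjFilt
import Groth.Agent.PerfA.QCohSerre
import Groth.Agent.PerfC.FlatExact
import Mathlib.CategoryTheory.Adjunction.Additive

/-!
# Filtration of `f_* O_B` for a torsor `f : B ⟶ A` under a commutative group
-/

set_option autoImplicit false
universe u

open CategoryTheory CategoryTheory.Limits AlgebraicGeometry Opposite TopologicalSpace AlgebraicGeometry.Scheme.Modules
open Groth.Agent.Sga67.Sec Groth.Agent.Sga67.LocBasis Groth.Agent.CohqA.PullbackUniv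
  Groth.Agent.CohqA.AffineBaseChange

namespace K527.IsogFilt

open K527.TorsorAlg K527.TorsorComm K527.TorsorPush K527.AbsFilt K527.AdjFilt

section Mul

variable {B : Scheme.{u}}

/-- Multiplication by a function. -/
noncomputable def mulHom (c : Γ(B, ⊤)) : Coh.structureModule B ⟶ Coh.structureModule B :=
  homUnit _ (c • one B ⊤)

theorem toO_mulHom (c : Γ(B, ⊤)) (U : B.Opens) (s : Sec (Coh.structureModule B) U) :
    toO (appS (mulHom c) U s) = resO B le_top c * toO s := by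
  rw [mulHom, homUnit_apply, res_smul, res_one, toO_smul, toO_smul, toO_one, mul_one, mul_comm]

theorem mulHom_ext {φ ψ : Coh.structureModule B ⟶ Coh.structureModule B}
    (h : toO (appS φ ⊤ (one B ⊤)) = toO (appS ψ ⊤ (one B ⊤))) : φ = ψ := by
  refine Groth.Agent.Sga67.Sec.hom_ext fun U s => ?_
  have h1 : ∀ χ : Coh.structureModule B ⟶ Coh.structureModule B,
      appS χ U s = toO s • res _ le_top (appS χ ⊤ (one B ⊤)) := by
    intro χ
    conv_lhs => rw [← toO_smul_one s]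
    rw [LinearMap.map_smul, ← appS_res, res_one]
  rw [h1 φ, h1 ψ]
  congr 2

/-- `Γ(B, ⊤) ⟶ End O_B`. -/
noncomputable def mulRing : Γ(B, ⊤) →+* End (Coh.structureModule B) where
  toFun := mulHom
  map_one' := mulHom_ext (by rw [toO_mulHom, toO_one, mul_one, map_one]; rfl)
  map_zero' := mulHom_ext (by rw [toO_mulHom, map_zero, zero_mul]; rfl)
  map_add' c d := mulHom_ext (by
    change _ = toO (appS (mulHom c + mulHom d) ⊤ (one B ⊤))
    rw [appS_add, toO_add, toO_mulHom, toO_mulHom, toO_mulHom, map_add, add_mul])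
  map_mul' c d := mulHom_ext (by
    change _ = toO (appS (mulHom d ≫ mulHom c) ⊤ (one B ⊤))
    rw [appS_comp, toO_mulHom, toO_mulHom, toO_mulHom, map_mul, mul_assoc])

theorem mulRing_bijective : Function.Bijective (mulRing (B := B)) := by
  have h1 : ∀ c : Γ(B, ⊤), toO (appS (mulRing c) ⊤ (one B ⊤)) = c := by
    intro c
    change toO (appS (mulHom c) ⊤ (one B ⊤)) = c
    rw [toO_mulHom, toO_one, mul_one, resO_self]
  constructor
  · intro c d h
    rw [← h1 c, ← h1 d, h]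
  · intro φ
    exact ⟨toO (appS φ ⊤ (one B ⊤)), mulHom_ext (h1 _)⟩

end Mul

section Sch

variable {A B Y K : Scheme.{u}} {f : B ⟶ A} {a pr : Y ⟶ B} (hsq : IsPullback a pr f f) [IsAffineHom f]
  (q : Y ⟶ K) {n : ℕ} (e : Fin n → Γ(K, ⊤)) [IsIso (phi pr q e)]

/-- The comparison `f^* f_* O_B ≅ pr_* O_Y`. -/
theorem exists_comp : ∃ i : (Scheme.Modules.pullback f).obj ((pushforward f).obj (Coh.structureModule B)) ≅ P pr,
    ∀ x, th (pullbackPushforwardAdjunction f) (rho q e hsq.w x) = i.hom ≫ π pr q e x := by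
  obtain ⟨i, hi, -⟩ := (isUniv_unit f ((pushforward f).obj (Coh.structureModule B))).exists_iso
    (isUniv_coact hsq)
  refine ⟨i, fun x => ?_⟩
  rw [th_eq, Equiv.symm_apply_eq, Adjunction.homEquiv_unit, Functor.map_comp, ← Category.assoc, hi]
  rfl

include hsq in
/-- **The filtration, scheme version.** -/
theorem filt_sch [Flat f] {k : Type u} [Field k] [IsAlgClosed k] (τ : k →+* Γ(A, ⊤))
    (hτ : Function.Bijective ((pb f ⊤ ⊤ le_top).comp τ))
    {Y₂ : Scheme.{u}} (pr₂ m₁ : Y₂ ⟶ Y) (q₂ : Y₂ ⟶ K) (σ : Y₂ ⟶ Y₂) (h1 : m₁ ≫ pr = pr₂ ≫ a)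
    (h2 : m₁ ≫ q = q₂) (h3 : σ ≫ m₁ ≫ a = m₁ ≫ a)
    (h4 : σ ≫ pr₂ ≫ pr = pr₂ ≫ pr) (h5 : σ ≫ pr₂ ≫ q = q₂) (h6 : σ ≫ q₂ = pr₂ ≫ q) [IsAffineHom pr]
    (b1 : ∀ V : B.Opens, IsAffineOpen V →
      Bas (pb pr V (pr ⁻¹ᵁ V) le_rfl) (fun x => pb q ⊤ (pr ⁻¹ᵁ V) le_top (e x)))
    (b2 : ∀ V : Y.Opens, IsAffineOpen V →
      Bas (pb pr₂ V (pr₂ ⁻¹ᵁ V) le_rfl) (fun x => pb q₂ ⊤ (pr₂ ⁻¹ᵁ V) le_top (e x))) :
    Filt (fun M : A.Modules => Coh.IsQCoh M ∧
      Nonempty ((Scheme.Modules.pullback f).obj M ≅ Coh.structureModule B))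
      ((pushforward f).obj (Coh.structureModule B)) := by
  have hF : PreservesFiniteLimits (Scheme.Modules.pullback f) :=
    Groth.Agent.PerfC.FlatExact.preservesFiniteLimits_pullback f
  have hF' : PreservesFiniteColimits (Scheme.Modules.pullback f) := by
    have := (pullbackPushforwardAdjunction f).leftAdjoint_preservesColimits
    infer_instance
  obtain ⟨i, hi⟩ := exists_comp hsq q e
  have hq : Coh.IsQCoh (Coh.structureModule B) := Groth.Agent.Fdesc.StructMod.isQCoh_structureModule B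
  refine AdjFilt.filt (pullbackPushforwardAdjunction f) (k := k) (τ := (mulRing (B := B)).comp ((pb f ⊤ ⊤ le_top).comp τ))
    (ρ := rho q e hsq.w) ?_ ?_ ?_ ?_ ?_ Coh.IsQCoh ?_ ?_ ?_
  · exact mulRing_bijective.comp hτ
  · exact rho_comm hsq q e pr₂ m₁ q₂ σ h1 h2 h3 h4 h5 h6 b1 b2
  · intro x t
    obtain ⟨c, rfl⟩ := mulRing_bijective.2 t
    obtain ⟨c, rfl⟩ := hτ.2 c
    refine rho_comm_mul q e hsq.w _ (τ c) (fun U s => ?_) x
    refine (toO_mulHom _ U s).trans ?_
    congr 1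
    rw [RingHom.comp_apply]
    exact resO_pb f (le_top : (⊤ : B.Opens) ≤ f ⁻¹ᵁ ⊤) le_top (τ c)
  · intro Z z z' h
    have h' : ∀ x, (z ≫ i.hom) ≫ π pr q e x = (z' ≫ i.hom) ≫ π pr q e x := by
      intro x
      rw [Category.assoc, Category.assoc, ← hi]
      exact h x
    rw [← cancel_mono i.hom, ← Category.comp_id (z ≫ i.hom), ← Category.comp_id (z' ≫ i.hom),
      ← sum_π pr q e, Preadditive.comp_sum, Preadditive.comp_sum]
    refine Finset.sum_congr rfl fun x _ => ?_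
    rw [← Category.assoc, h' x, Category.assoc]
  · intro Z g
    refine ⟨(∑ x, g x ≫ homUnit (P pr) (sec pr q e x)) ≫ i.inv, fun y => ?_⟩
    rw [hi, Category.assoc, Iso.inv_hom_id_assoc, Preadditive.sum_comp, Finset.sum_eq_single y]
    · rw [Category.assoc, ι_π, if_pos rfl, Category.comp_id]
    · intro x _ hx
      rw [Category.assoc, ι_π, if_neg hx, comp_zero]
    · simp
  · exact Groth.Agent.Ega1.QcqsPush.isQCoh_pushforward f _ hq
  · intro M N φ hM hN
    exact Groth.Agent.PerfA.QCohSerre.isQCoh_kernel φ hM hN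
  · intro M N φ hM hN
    exact Groth.Agent.PerfA.QCohSerre.isQCoh_cokernel φ hM hN

end Sch

end K527.IsogFilt
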