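import Groth.Agent.AbVar.K527.SE
import Groth.Agent.Sga67.LocBasisOps
import Groth.Agent.Flat2F.DescLocal2
import Groth.Agent.VarietyB.TensStalk
import Groth.Agent.Models2.FlatIso

/-!
# Classes of finite locally free modules

`LF c`; `LF.mul`, `LF.pm`, `LF.co`; `isFlatOver_tensor`: tensoring with a finite locally free module preserves flatness over
the base.
-/

set_option autoImplicit false
universe u

open CategoryTheory CategoryTheory.Limits AlgebraicGeometry TopologicalSpace
open Groth.Agent Groth.Agent.Grpsch.PicGrp Groth.Agent.Fga.PicMon K527.Cls K527.FiltVan K527.Seq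

namespace K527.LocFree

variable {X Y : Scheme.{u}}

/-- Classes of finite locally free modules. -/
def LF (c : MC X) : Prop := ∃ E : X.Modules, FlatMod.IsFinLocFree E ∧ mc E = c

theorem LF.mk' {E : X.Modules} (h : FlatMod.IsFinLocFree E) : LF (mc E) := ⟨E, h, rfl⟩

theorem LF.ic (c : Pic X) : LF (ic X c) := by
  obtain ⟨L, hL, rfl⟩ := exists_mk c
  refine ⟨L, fun x => ?_, rfl⟩
  obtain ⟨U, hx, e⟩ := Ega2.QCohLocal.isFinLocFreeOfRank_one_iff.2 hL x
  exact ⟨U, 1, hx, e⟩

theorem LF.mul {c d : MC X} (h : LF c) (h' : LF d) : LF (c * d) := by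
  obtain ⟨E, hE, rfl⟩ := h
  obtain ⟨F, hF, rfl⟩ := h'
  exact ⟨_, Sga67.LocBasis.isFinLocFree_tensorMod hE hF, mc_tensor _ _⟩

theorem LF.pm (f : X ⟶ Y) {c : MC Y} (h : LF c) : LF (pm f c) := by
  obtain ⟨E, hE, rfl⟩ := h
  exact ⟨_, Flat2F.DescLocal.isFinLocFree_pullback' f hE, rfl⟩

theorem LF.co [IsLocallyNoetherian X] {c : MC X} (h : LF c) : CO c := by
  obtain ⟨E, hE, rfl⟩ := h
  exact ⟨_, PerfA.CohSerre.isCoh_of_isFinLocFree hE, rfl⟩

/-- Tensoring with a finite locally free module preserves flatness over the base. -/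
theorem isFlatOver_tensor (f : X ⟶ Y) {F E : X.Modules}
    (hE : FlatMod.IsFinLocFree E) (hF : FlatMod.IsFlatOver f F) :
    FlatMod.IsFlatOver f (CohB1.tensorMod F E) := by
  refine Groth.Agent.Models2.FlatIso.isFlatOver_of_iso f (Groth.Agent.Ega2.Tens.swap E F) ?_
  intro x
  obtain ⟨n, U, hx, e, he⟩ := Groth.Agent.VarietyB.ExactLoc.hasBasis_of_isFinLocFree hE x
  let eq := Groth.Agent.VarietyB.TensStalk.stalkEquiv he F hx
  let a1 : Module (Y.presheaf.stalk (f x)) (F.presheaf.stalk x) := FlatMod.moduleStalkOver f F x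
  let a2 : Module (Y.presheaf.stalk (f x)) ((CohB1.tensorMod E F).presheaf.stalk x) :=
    FlatMod.moduleStalkOver f (CohB1.tensorMod E F) x
  have h1 : Module.Flat (Y.presheaf.stalk (f x)) (F.presheaf.stalk x) := hF x
  have h3 : Module.Flat (Y.presheaf.stalk (f x)) (Π₀ _ : Fin n, F.presheaf.stalk x) :=
    Module.Flat.dfinsupp_iff.mpr fun _ => h1
  have h2 : Module.Flat (Y.presheaf.stalk (f x)) (Fin n → F.presheaf.stalk x) :=
    Module.Flat.of_linearEquiv (DFinsupp.linearEquivFunOnFintype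
      (R := Y.presheaf.stalk (f x)) (M := fun _ : Fin n => F.presheaf.stalk x)).symm
  let e' : (CohB1.tensorMod E F).presheaf.stalk x ≃ₗ[Y.presheaf.stalk (f x)]
      (Fin n → F.presheaf.stalk x) :=
    { eq with
      map_smul' := fun r m => eq.map_smul ((f.stalkMap x).hom r) m }
  exact Module.Flat.of_linearEquiv e'

/-- Coherent (resp. any) class flat over the target of `f`. -/
def FO (f : X ⟶ Y) (c : MC X) : Prop := ∃ M : X.Modules, FlatMod.IsFlatOver f M ∧ mc M = c

theorem FO.mul_lf {f : X ⟶ Y} {c d : MC X} (h : FO f c) (h' : LF d) : FO f (c * d) := by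
  obtain ⟨M, hM, rfl⟩ := h
  obtain ⟨E, hE, rfl⟩ := h'
  exact ⟨_, isFlatOver_tensor f hE hM, mc_tensor _ _⟩

theorem FO.se {f : X ⟶ Y} {c : MC X} (h : FO f c) {x y z : MC Y} (hs : SE x y z) :
    SE (c * pm f x) (c * pm f y) (c * pm f z) := by
  obtain ⟨M, hM, rfl⟩ := h
  exact hs.tensor_pull f M hM

end K527.LocFree
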