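import Groth.Agent.AbVar.K527.FibPts
import Groth.Agent.VarietyB.HHPush
import Groth.Agent.S0927
import Groth.Agent.S0036

/-!
# Push forward of classes with fibrewise vanishing higher cohomology

`exists_push`: `f : X ⟶ Y` proper over a field, `F` coherent on `X`, flat over `Y`, with `H^p(X_y, F_y) = 0` for all `p ≥ 1`, `y ∈ Y`.
There is a coherent class `G` on `Y` (`= f_* F`) with `H^n(X, F ⊗ f^* c) = 0 ↔ H^n(Y, G ⊗ c) = 0` for all invertible `c`, and all `n`.
`exists_push_snd`: the same for `snd : X × A ⟶ A` over an algebraically closed field, from the rational fibres.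
-/

set_option autoImplicit false
universe u

open CategoryTheory CategoryTheory.Limits MonoidalCategory CartesianMonoidalCategory AlgebraicGeometry TopologicalSpace
open Groth.Agent Groth.Agent.Grpsch.PicGrp Groth.Agent.Grpsch.Cube Groth.Agent.Fga.PicMon K527.Cls
open K527.FibPts (pt)

namespace K527.PushV

section

variable {X Y : Scheme.{u}} (f : X ⟶ Y) [IsProper f] [IsLocallyNoetherian Y] (F : X.Modules)
  (hF : Coh.IsCoh F) (hfl : FlatMod.IsFlatOver f F)

include hF hfl in
theorem isZero_Rpush [HasInjectiveResolutions X.Modules] (p : ℕ) (hv : ∀ y : Y, Subsingleton (CohIII.fiberH f F y p)) : IsZero ((Coh.Rpush f p).obj F) := by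
  have hq : Coh.IsQCoh F := hF.1
  refine Ega3B.RpushAff.isZero_of_cover _ (CohqA.RelCoh.isQCoh_Rpush f F hF.1 p) (fun y : Y => (Ega3B.SpecPoint.exists_affine_nhd y).choose)
    (fun y => (Ega3B.SpecPoint.exists_affine_nhd y).choose_spec.1) ?_ fun y => ?_
  · rw [eq_top_iff]
    intro y _
    exact Opens.mem_iSup.2 ⟨y, (Ega3B.SpecPoint.exists_affine_nhd y).choose_spec.2⟩
  · obtain ⟨e, -⟩ := Ega3B.RpushAff.exists_equiv f F hF.1 (Ega3B.SpecPoint.exists_affine_nhd y).choose_spec.1 p
    have := FibreVan.subsingleton_HHon f F hF hfl p (Ega3B.SpecPoint.exists_affine_nhd y).choose_spec.1 fun z _ => hv z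
    exact e.toEquiv.subsingleton

include hF hfl in
theorem acyc [HasInjectiveResolutions X.Modules] (hv : ∀ p, 1 ≤ p → ∀ y : Y, Subsingleton (CohIII.fiberH f F y p)) {L : Y.Modules} (hL : PicF.IsInvertible L) :
    VarietyB.HHPush.Acyc f (CohB1.tensorMod ((Scheme.Modules.pullback f).obj L) F) := by
  intro V hV m x
  have hq : Coh.IsQCoh (CohB1.tensorMod ((Scheme.Modules.pullback f).obj L) F) :=
    Ega1.TensorRestrict.isQCoh_tensorMod _ _
      (VarietyB.PullSec.isQCoh_pullback f L (Groth.Agent.S2329.isCoh_of_isInvertible hL).1) hF.1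
  have hL' : FlatMod.IsFinLocFree L :=
    Ega2.QCohLocal.isFinLocFree_of_rank (Ega2.QCohLocal.isFinLocFreeOfRank_one_iff.2 hL)
  obtain ⟨e⟩ := S0927.result f F L hL' (m + 1)
  have hz0 : IsZero ((Coh.Rpush f (m + 1)).obj F) := isZero_Rpush f F hF hfl (m + 1) (hv _ (by omega))
  have hz : IsZero ((Coh.Rpush f (m + 1)).obj (CohB1.tensorMod ((Scheme.Modules.pullback f).obj L) F)) := by
    exact IsZero.of_iso (Functor.map_isZero (DCoh.tensorBi.obj L) hz0) e.symm
  have h1 := Ega3B.RpushAff.subsingleton_HHon_of_isZero f _ hq hV (m + 1) hz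
  have h2 : Subsingleton (CohTop.HU (X := X.toTopCat) (Coh.toAb (CohB1.tensorMod ((Scheme.Modules.pullback f).obj L) F))
      (m + 1) (f ⁻¹ᵁ V)) := (CohqA.HOpen.HHonEquiv _ (f ⁻¹ᵁ V) (m + 1)).toEquiv.subsingleton_congr.mpr h1
  exact h2.elim x 0

end

variable {k : Type u} [Field k] {X Y : Over (Spec (CommRingCat.of k))} (f : X ⟶ Y) [IsProper f.left]
  [IsLocallyNoetherian Y.left]

theorem exists_push {c₀ : MC X.left} (F : X.left.Modules) (hF : Coh.IsCoh F) (hfl : FlatMod.IsFlatOver f.left F)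
    (hv : ∀ p, 1 ≤ p → ∀ y : Y.left, Subsingleton (CohIII.fiberH f.left F y p)) (h0 : mc F = c₀) :
    ∃ G : MC Y.left, CO G ∧ ∀ (c : Pic Y.left) (n : ℕ), V (c₀ * ic _ (pl f c)) n ↔ V (G * ic _ c) n := by
  subst h0
  have hinj : HasInjectiveResolutions X.left.Modules := Dcoh.DerSch.hasInjectiveResolutions X.left
  have h0 : Coh.IsCoh ((Scheme.Modules.pushforward f.left).obj F) := by
    exact CohqB.LocalQC.isCoh_of_iso ((Scheme.Modules.pushforward f.left).rightDerivedZeroIsoSelf.app F)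
      (S0036.result f.left F hF 0)
  refine ⟨_, ⟨_, h0, rfl⟩, fun c n => ?_⟩
  obtain ⟨L, hL, rfl⟩ := exists_mk c
  let _ : X.left.Over (Spec (CommRingCat.of k)) := ⟨X.hom⟩
  let _ : Y.left.Over (Spec (CommRingCat.of k)) := ⟨Y.hom⟩
  obtain ⟨e⟩ := VarietyB.HHPush.exists_equiv f.left k (Over.w f) n _ (acyc f.left F hF hfl hv hL)
  have hL' : FlatMod.IsFinLocFree L :=
    Ega2.QCohLocal.isFinLocFree_of_rank (Ega2.QCohLocal.isFinLocFreeOfRank_one_iff.2 hL)
  obtain ⟨e'⟩ := S0927.result f.left F L hL' 0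
  have h1 : mc F * ic _ (pl f (mk L hL)) = mc (CohB1.tensorMod ((Scheme.Modules.pullback f.left).obj L) F) := by
    rw [← pmo_ic, mul_comm]
    rfl
  have h2 : mc ((Scheme.Modules.pushforward f.left).obj F) * ic _ (mk L hL) =
      mc ((Scheme.Modules.pushforward f.left).obj (CohB1.tensorMod ((Scheme.Modules.pullback f.left).obj L) F)) := by
    have h3 := mc_eq e'
    have h4 := fun M : X.left.Modules => mc_eq ((Scheme.Modules.pushforward f.left).rightDerivedZeroIsoSelf.app M)
    rw [mul_comm, ← h4 F]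
    exact h3.trans (h4 _)
  rw [h1, h2]
  exact e.toEquiv.subsingleton_congr.symm

/-- The second projection, over an algebraically closed field. -/
theorem exists_push_snd {k : Type u} [Field k] [IsAlgClosed k] {X A : Over (Spec (CommRingCat.of k))} [IsProper X.hom]
    [LocallyOfFiniteType A.hom] [QuasiCompact A.hom] {c₀ : MC (X ⊗ A).left} (F : (X ⊗ A).left.Modules) (hF : Coh.IsCoh F)
    (hfl : FlatMod.IsFlatOver (snd X A).left F) (h0 : mc F = c₀)
    (hv : ∀ p, 1 ≤ p → ∀ y : 𝟙_ (Over (Spec (CommRingCat.of k))) ⟶ A, V (pmo (K512.Slice.j2 X y) c₀) p) :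
    ∃ G : MC A.left, CO G ∧ ∀ (c : Pic A.left) (n : ℕ), V (c₀ * ic _ (pl (snd X A) c)) n ↔ V (G * ic _ c) n := by
  subst h0
  have i1 : IsProper (snd X A).left := K512.Slice.isProper_snd
  have i2 : IsLocallyNoetherian A.left := LocallyOfFiniteType.isLocallyNoetherian A.hom
  have i5 : JacobsonSpace A.left := LocallyOfFiniteType.jacobsonSpace A.hom
  refine exists_push (snd X A) F hF hfl (fun j hj => ?_) rfl
  have hsub : {y | Subsingleton (CohIII.fiberH (snd X A).left F y j)}ᶜ ⊆ ∅ := by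
    refine FibPts.subset_of_closedPoints (FibreVan.isOpen_van _ F hF hfl j).isClosed_compl isClosed_empty
      fun y hy hyN => hyN ?_
    obtain ⟨x, rfl⟩ := K512.Pts.exists_pt y hy
    obtain ⟨m, rfl⟩ : ∃ m, j = m + 1 := ⟨j - 1, by omega⟩
    exact (FibreVan.fiberH_iff _ F hF.1 x.left (K512.Slice.j2 X x).left (toUnit X).left
      (K512.Slice.isPullback_left_j2 x) m).2 (hv _ hj x)
  intro y
  by_contra h
  exact hsub h

end K527.PushV
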