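import Groth.Agent.AbVar.K527.Star
import Groth.Agent.AbVar.K527.PushV

/-!
# `IT(0)` is an open condition on rational twists

`w` a coherent class on an abelian variety over an algebraically closed field, `ℓ` ample.
* `serre_unif`: Serre vanishing uniformly in `Pic⁰`;
* `exists_unif`: if `w` is `IT(0)` then the higher cohomology of `fst^* w ⊗ D_ℓ ⊗ snd^*(ℓ^N κ)` vanishes for all `N ≫ 0`, `κ ∈ Pic⁰`;
* `exists_IT`: if `w` is `IT(0)` then `[N]^* w ⊗ ℓ^(-N)` is `IT(0)` for all `N ≫ 0`.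
-/

set_option autoImplicit false
universe u

open CategoryTheory CategoryTheory.Limits MonoidalCategory CartesianMonoidalCategory AlgebraicGeometry TopologicalSpace
open scoped MonObj
open Groth.Agent Groth.Agent.Grpsch.PicGrp Groth.Agent.Grpsch.Cube Groth.Agent.Fga.PicMon K527.Cls K527.Seq
open K527.FibPts (pt)
open K518.Phi K527.ITGV K527.Powers K527.FiltVan K527.PresVan K527.Star
open K524.PicZeroVan (shear shear_hom_fst shear_hom_snd)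

namespace K527.OpenIT

variable {k : Type u} [Field k] {A : Over (Spec (CommRingCat.of k))} [GrpObj A] [IsProper A.hom]
  [GeometricallyIntegral A.hom]

variable [IsAlgClosed k]

/-- Serre vanishing, uniformly in `Pic⁰`. -/
theorem serre_unif {ℓ : Pic A.left} (hℓ : IsAmp ℓ) {x : MC A.left} (hx : CO x) (i : ℕ) (hi : 1 ≤ i) :
    ∃ m₀ : ℕ, ∀ m, m₀ ≤ m → ∀ κ ∈ Inv A, V (x * ic _ (ℓ ^ m * κ)) i := by
  have hN : IsLocallyNoetherian A.left := LocallyOfFiniteType.isLocallyNoetherian A.hom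
  have hcs : CompactSpace A.left := QuasiCompact.compactSpace_of_compactSpace A.hom
  have hN' : IsNoetherian A.left := {}
  have hsep : A.left.IsSeparated := by
    constructor
    have h6 : IsSeparated (A.hom ≫ terminal.from _) := inferInstance
    rwa [Subsingleton.elim (terminal.from A.left) (A.hom ≫ terminal.from _)]
  have hNA := noetherianSpace A
  obtain ⟨D, hD⟩ := K511.AmpleVan.exists_dim A
  have hℓ' := hℓ
  obtain ⟨L, hL, hLe⟩ := hℓ'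
  have key : ∀ t i : ℕ, 1 ≤ i → D + 1 ≤ i + t → ∀ x : MC A.left, CO x →
      ∃ m₀ : ℕ, ∀ m, m₀ ≤ m → ∀ κ ∈ Inv A, V (x * ic _ (ℓ ^ m * κ)) i := by
    intro t
    induction t with
    | zero => exact fun i _ hi x _ => ⟨0, fun m _ κ _ => V_of_dim D hD.le _ i (by omega)⟩
    | succ t ih =>
      intro i hi hit x hx
      obtain ⟨n, r, y, hy, hs⟩ := exists_of_amp hL hx
      rw [hLe] at hs
      obtain ⟨m₁, hm₁⟩ := ih (i + 1) (by omega) (by omega) y hy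
      refine ⟨n + m₁ + 1, fun m hm κ hκ => ?_⟩
      have hs2 := hs.mul_ic (ℓ ^ (m - n) * κ)
      have e3 : x * ic A.left (ℓ ^ n) * ic A.left (ℓ ^ (m - n) * κ) = x * ic _ (ℓ ^ m * κ) := by
        rw [mul_assoc, ← map_mul, ← mul_assoc, ← pow_add]
        congr 4
        omega
      rw [e3] at hs2
      refine hs2.V₃ ?_ (hm₁ (m - n) (by omega) κ hκ)
      rw [mul_comm, mul_comm (ℓ ^ (m - n)) κ]
      exact V_mul_fr (((IsAmp.pow hℓ (by omega : 0 < m - n)).mul_inv hκ).van hi) r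
  exact key (D + 1) i hi (by omega) x hx

theorem serre_unif' {ℓ : Pic A.left} (hℓ : IsAmp ℓ) {x : MC A.left} (hx : CO x) :
    ∃ m₀ : ℕ, ∀ m, m₀ ≤ m → ∀ κ ∈ Inv A, ∀ i, 1 ≤ i → V (x * ic _ (ℓ ^ m * κ)) i := by
  obtain ⟨D, hD⟩ := K511.AmpleVan.exists_dim A
  have := noetherianSpace A
  choose! m₀ hm₀ using fun i (hi : 1 ≤ i) => serre_unif hℓ hx i hi
  refine ⟨(Finset.range (D + 1)).sup m₀, fun m hm κ hκ i hi => ?_⟩
  by_cases hiD : i ≤ D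
  · exact hm₀ i hi m ((Finset.le_sup (Finset.mem_range.2 (by omega))).trans hm) κ hκ
  · exact V_of_dim D hD.le _ i (by omega)

omit [GrpObj A] [GeometricallyIntegral A.hom] [IsAlgClosed k] in
theorem exists_rep {X : Over (Spec (CommRingCat.of k))} [IsProper X.hom] {w : MC X.left} (hw : CO w)
    (d : Pic (X ⊗ A).left) :
    ∃ M : (X ⊗ A).left.Modules, Coh.IsCoh M ∧ FlatMod.IsFlatOver (snd X A).left M ∧
      mc M = pmo (fst X A) w * ic _ d := by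
  obtain ⟨W, hW, rfl⟩ := hw
  obtain ⟨N, hN, rfl⟩ := exists_mk d
  have hX : IsLocallyNoetherian (X ⊗ A).left := by
    have : LocallyOfFiniteType (X ⊗ A).hom := by
      rw [Over.tensorObj_hom]
      infer_instance
    exact LocallyOfFiniteType.isLocallyNoetherian (X ⊗ A).hom
  refine ⟨_, Ega3B.CohTensor.isCoh_tensor (FormalB.PullCoh.isCoh_pullback _ hW) hN,
    Ega3B.FlatTensInv.isFlatOver_tensor _ hN ?_, rfl⟩
  have H : IsPullback (fst X A).left (snd X A).left X.hom A.hom := by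
    rw [Over.fst_left, Over.snd_left]
    exact IsPullback.of_hasPullback _ _
  exact FormalB.BC.isFlatOver_pullback H W (ThmQ.isFlatOver_field X.hom W)

theorem exists_unif {ℓ : Pic A.left} (hℓ : IsAmp ℓ) {w : MC A.left} (hw : CO w) (h : IT w) :
    ∃ N₀ : ℕ, ∀ N, N₀ ≤ N → ∀ κ ∈ Inv A, ∀ n, 1 ≤ n →
      V (pmo (fst A A) w * ic _ (D ℓ (fst A A) (snd A A)) * ic _ (pl (snd A A) (ℓ ^ N * κ))) n := by
  obtain ⟨M, hM, hfl, hMe⟩ := exists_rep (A := A) hw (D ℓ (fst A A) (snd A A))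
  obtain ⟨G, hG, hV⟩ := PushV.exists_push_snd M hM hfl hMe fun p hp y => by
    rw [map_mul, ← pmo_comp, K512.Slice.j2_fst, pmo_id, pmo_ic, pl_D, K512.Slice.j2_fst, K512.Slice.j2_snd, D_id_const]
    exact h p hp _ (phi_mem_Inv _ _)
  obtain ⟨m₀, hm₀⟩ := serre_unif' hℓ hG
  exact ⟨m₀, fun N hN κ hκ n hn => (hV _ _).2 (hm₀ N hN κ hκ n hn)⟩

omit [IsProper A.hom] [GeometricallyIntegral A.hom] [IsAlgClosed k] in
theorem isMonHom_one : IsMonHom (1 : A ⟶ A) where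
  one_hom := by rw [MonObj.comp_one, ← MonObj.one_eq_one]
  mul_hom := by
    rw [MonObj.comp_one, MonObj.mul_eq_mul, MonObj.comp_mul, tensorHom_fst, tensorHom_snd, MonObj.comp_one,
      MonObj.comp_one, mul_one]

/-- Translation invariant classes on `A × A`. -/
theorem exists_split {κ : Pic (A ⊗ A).left} (hκ : κ ∈ Inv (A ⊗ A)) :
    ∃ κ₁ ∈ Inv A, ∃ κ₂ ∈ Inv A, κ = pl (fst A A) κ₁ * pl (snd A A) κ₂ := by
  have : IsCommMonObj A := isCommMonObj_of_isProper_of_geometricallyIntegral A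
  have i3 : IsMonHom (1 : A ⟶ A) := isMonHom_one
  have i1 : IsMonHom (lift (𝟙 A) (1 : A ⟶ A)) := inferInstance
  have i2 : IsMonHom (lift (1 : A ⟶ A) (𝟙 A)) := inferInstance
  refine ⟨pl (lift (𝟙 A) (1 : A ⟶ A)) κ, pl_mem_Inv _ hκ, pl (lift (1 : A ⟶ A) (𝟙 A)) κ, pl_mem_Inv _ hκ, ?_⟩
  rw [← pl_comp, ← pl_comp, ← pl_mul_of_inv hκ]
  have e : (fst A A ≫ lift (𝟙 A) (1 : A ⟶ A)) * (snd A A ≫ lift (1 : A ⟶ A) (𝟙 A)) = 𝟙 (A ⊗ A) := by
    apply CartesianMonoidalCategory.hom_ext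
    · rw [MonObj.mul_comp, Category.assoc, Category.assoc, lift_fst, lift_fst, Category.comp_id, MonObj.comp_one, mul_one,
        Category.id_comp]
    · rw [MonObj.mul_comp, Category.assoc, Category.assoc, lift_snd, lift_snd, Category.comp_id, MonObj.comp_one, one_mul,
        Category.id_comp]
  rw [e, pl_id]

theorem exists_IT {ℓ : Pic A.left} (hℓ : IsAmp ℓ) {w : MC A.left} (hw : CO w) (h : IT w) :
    ∃ N₀ : ℕ, ∀ N, N₀ ≤ N → 1 ≤ N → IT (pmo ((𝟙 A) ^ N) w * ic _ (ℓ ^ N)⁻¹) := by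
  obtain ⟨g, hg⟩ := K511.AmpleVan.exists_dim A
  obtain ⟨N₀, hN₀⟩ := exists_unif hℓ hw h
  refine ⟨N₀, fun N hN hN1 n hn κ hκ => ?_⟩
  obtain ⟨i1, i2⟩ := isFinite_nn (A := A) N hN1
  have hmN := Grpsch.MulFinFlat.isMonHom_id_pow k A N
  obtain ⟨i3, -, i4⟩ := Grpsch.MulFinFlat.isFinite_flat_surjective k A N hN1
  obtain ⟨κ', hκ', hκe⟩ := AVIso.exists_pl ((𝟙 A) ^ N) hℓ hκ
  have hco : CO (pmo ((𝟙 A) ^ N) w * ic _ (ℓ ^ N)⁻¹ * ic _ κ) := ((hw.pm _).mul_ic _).mul_ic _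
  suffices hbox : V (pmo (fst A A) (pmo ((𝟙 A) ^ N) w * ic _ (ℓ ^ N)⁻¹ * ic _ κ) * pmo (snd A A) (ic _ (ℓ ^ N))) n by
    rw [V_box_iff A A hco.qc (CO.ic _).qc] at hbox
    exact (hbox n 0 (add_zero n)).resolve_right ((IsAmp.pow hℓ hN1).sec hg)
  rw [← V_pmo_iso (shear (𝟙 A)).hom ((hco.qc.pm _).mul ((CO.ic _).qc.pm _))]
  have e1 : pmo (shear (𝟙 A)).hom (pmo (fst A A) (pmo ((𝟙 A) ^ N) w * ic _ (ℓ ^ N)⁻¹ * ic _ κ) *
      pmo (snd A A) (ic _ (ℓ ^ N))) =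
      pmo (nn A N) (pmo (fst A A) (w * ic _ κ') * ic _ (D ℓ (fst A A) (snd A A)) * ic _ (pl (snd A A) (ℓ ^ N))) := by
    have e2 : pl ((shear (𝟙 A)).hom ≫ snd A A) (ℓ ^ N) = pl (fst A A) (ℓ ^ N) * pl (snd A A) (ℓ ^ N) *
        D ℓ (fst A A) (snd A A) ^ N := by
      rw [shear_hom_snd, Category.comp_id, K518.Phi.pl_mul, D_pow_class]
    have e3 : pmo (fst A A) (ic _ (ℓ ^ N)⁻¹) = ic _ (pl (fst A A) (ℓ ^ N))⁻¹ := by
      rw [pmo_ic, map_inv]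
    rw [map_mul, ← pmo_comp, ← pmo_comp, shear_hom_fst, pmo_ic ((shear (𝟙 A)).hom ≫ snd A A), e2, map_mul (pmo (nn A N)),
      map_mul (pmo (nn A N)), ← pmo_comp, nn_fst, pmo_comp, map_mul (pmo ((𝟙 A) ^ N)), pmo_ic _ κ', hκe, pmo_ic (nn A N),
      pmo_ic (nn A N), pl_D, ← pl_comp, nn_fst, nn_snd, MonObj.comp_pow, Category.comp_id, D_pow_left, map_mul (pmo (fst A A)),
      map_mul (pmo (fst A A)), map_mul (pmo (fst A A)), e3, map_mul (ic _), map_mul (ic _)]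
    have e4 := ic_inv_mul (pl (fst A A) (ℓ ^ N))
    calc _ = pmo (fst A A) (pmo ((𝟙 A) ^ N) w) * pmo (fst A A) (ic _ κ) * (ic _ (D ℓ (fst A A) (snd A A) ^ N)) *
          ic _ (pl (snd A A) (ℓ ^ N)) * (ic _ (pl (fst A A) (ℓ ^ N))⁻¹ * ic _ (pl (fst A A) (ℓ ^ N))) := by ac_rfl
      _ = _ := by rw [e4, mul_one]
  rw [e1]
  have hco2 : CO (pmo (fst A A) (w * ic _ κ') * ic _ (D ℓ (fst A A) (snd A A)) * ic _ (pl (snd A A) (ℓ ^ N))) :=
    (((hw.mul_ic _).pm _).mul_ic _).mul_ic _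
  refine AVIso.V_up (nn A N) hco2.qc n fun κ'' hκ'' => ?_
  obtain ⟨κ₁, hκ₁, κ₂, hκ₂, rfl⟩ := exists_split hκ''
  obtain ⟨y, hy⟩ := hℓ.surj (mul_mem hκ' hκ₁)
  have hty : IsIso (tr y) := isIso_tr y
  let τ : A ⊗ A ⟶ A ⊗ A := 𝟙 A ⊗ₘ tr y
  have hτ : IsIso τ := inferInstance
  have hτ1 : τ ≫ fst A A = fst A A := by rw [tensorHom_fst, Category.comp_id]
  have hτ2 : τ ≫ snd A A = snd A A ≫ tr y := tensorHom_snd _ _
  have hphi : phi (ℓ ^ N) y ∈ Inv A := phi_mem_Inv _ _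
  have h1 := hN₀ N hN (κ₂ * (phi (ℓ ^ N) y)⁻¹) (mul_mem hκ₂ (inv_mem hphi)) n hn
  rw [← V_pmo_iso τ (((hw.pm _).mul_ic _).mul_ic _).qc] at h1
  have e5 : pmo τ (pmo (fst A A) w * ic _ (D ℓ (fst A A) (snd A A)) *
      ic _ (pl (snd A A) (ℓ ^ N * (κ₂ * (phi (ℓ ^ N) y)⁻¹)))) =
      pmo (fst A A) (w * ic _ κ') * ic _ (D ℓ (fst A A) (snd A A)) * ic _ (pl (snd A A) (ℓ ^ N)) *
        ic _ (pl (fst A A) κ₁ * pl (snd A A) κ₂) := by
    have e6 : pl (tr y) (ℓ ^ N * (κ₂ * (phi (ℓ ^ N) y)⁻¹)) = ℓ ^ N * κ₂ := by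
      rw [pl_tr, phi_mul_left, phi_mul_left, hκ₂, inv_mem hphi, mul_one, mul_one]
      apply Additive.ofMul.injective
      simp only [ofMul_mul, ofMul_inv]
      module
    have e7 : snd A A ≫ tr y = snd A A * (toUnit (A ⊗ A) ≫ y) := by
      rw [tr, MonObj.comp_mul, Category.comp_id, ← Category.assoc, toUnit_unique (snd A A ≫ toUnit A) (toUnit (A ⊗ A))]
    have e8 : D ℓ (fst A A) (snd A A ≫ tr y) = D ℓ (fst A A) (snd A A) * (pl (fst A A) κ' * pl (fst A A) κ₁) := by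
      rw [e7, D_mul_right, D_const_right, hy, map_mul]
    rw [map_mul, map_mul, ← pmo_comp, hτ1, pmo_ic, pmo_ic, pl_D, hτ1, ← pl_comp, hτ2, pl_comp, e6, e8,
      map_mul (pmo (fst A A)), pmo_ic, map_mul (pl (snd A A)), map_mul (ic _), map_mul (ic _), map_mul (ic _),
      map_mul (ic _)]
    ac_rfl
  rwa [e5] at h1

/-- `IT(0)` at `a/b` gives `IT(0)` at `a/b - 1/(N b²)` for `N ≫ 0`. -/
theorem exists_IT_twist {ℓ : Pic A.left} (hℓ : IsAmp ℓ) {x : MC A.left} (hx : CO x) {a : ℤ} {b : ℕ} (hb : 0 < b)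
    (h : IT (pmo ((𝟙 A) ^ b) x * ic _ (ℓ ^ (a * b)))) :
    ∃ N : ℕ, 1 ≤ N ∧ IT (pmo ((𝟙 A) ^ (N * b * b)) x * ic _ (ℓ ^ ((a * (N * b : ℕ) - 1) * (N * b * b : ℕ)))) := by
  have hmb := Grpsch.MulFinFlat.isMonHom_id_pow k A b
  obtain ⟨i1, -, i2⟩ := Grpsch.MulFinFlat.isFinite_flat_surjective k A b hb
  have hco1 : CO (pmo ((𝟙 A) ^ b) x * ic _ (ℓ ^ (a * b))) := (hx.pm _).mul_ic _
  obtain ⟨N₀, hN₀⟩ := exists_IT hℓ hco1 h
  refine ⟨N₀ + 1, by omega, ?_⟩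
  have h0 := hN₀ (N₀ + 1) (by omega) (by omega)
  generalize N₀ + 1 = N at *
  have hco : CO (pmo ((𝟙 A) ^ N) (pmo ((𝟙 A) ^ b) x * ic _ (ℓ ^ (a * b))) * ic _ (ℓ ^ N)⁻¹) :=
    (((hx.pm _).mul_ic _).pm _).mul_ic _
  rw [← AVIso.IT_iff ((𝟙 A) ^ b) hℓ hco.qc] at h0
  obtain ⟨κ, hκ, h1⟩ := exists_pmo_twist ℓ x a b (N * b)
  obtain ⟨κ', hκ', h2⟩ := exists_pl_pow ℓ b
  have h3 : pmo ((𝟙 A) ^ b) (pmo ((𝟙 A) ^ N) (pmo ((𝟙 A) ^ b) x * ic _ (ℓ ^ (a * b))) * ic _ (ℓ ^ N)⁻¹) =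
      pmo ((𝟙 A) ^ (N * b * b)) x * ic _ (ℓ ^ ((a * (N * b : ℕ) - 1) * (N * b * b : ℕ))) * ic _ (κ * (κ' ^ N)⁻¹) := by
    rw [map_mul (pmo ((𝟙 A) ^ b)), pmo_ic, ← pmo_comp ((𝟙 A) ^ b) ((𝟙 A) ^ N), MonObj.comp_pow, Category.comp_id,
      ← pow_mul, mul_comm b N, h1, map_inv, map_pow, h2, mul_assoc, ← map_mul, mul_assoc (pmo _ x), ← map_mul]
    congr 2
    have e1 : ((a * (N * b : ℕ) - 1) * (N * b * b : ℕ) : ℤ) = a * b * ((N * b) ^ 2 : ℕ) - ((b ^ 2 * N : ℕ) : ℤ) := by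
      push_cast
      ring
    rw [e1, zpow_sub, zpow_natCast, pow_mul ℓ]
    apply Additive.ofMul.injective
    simp only [ofMul_mul, ofMul_pow, ofMul_inv]
    module
  rwa [h3, IT_mul_iff (mul_mem hκ (inv_mem (pow_mem hκ' N)))] at h0

/-- `IT(0)` is an open condition. -/
theorem IT_iff_below {ℓ : Pic A.left} (hℓ : IsAmp ℓ) {x : MC A.left} (hx : CO x) (a : ℤ) (b : ℕ) (hb : 0 < b) :
    IT (pmo ((𝟙 A) ^ b) x * ic _ (ℓ ^ (a * b))) ↔
      ∃ ε : ℚ, 0 < ε ∧ ∀ (c : ℤ) (d : ℕ), 0 < d → (a : ℚ) / (b : ℚ) - ε < (c : ℚ) / (d : ℚ) →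
        (c : ℚ) / (d : ℚ) < (a : ℚ) / (b : ℚ) → IT (pmo ((𝟙 A) ^ d) x * ic _ (ℓ ^ (c * d))) := by
  obtain ⟨g, hg⟩ := K511.AmpleVan.exists_dim A
  have hbq : (0 : ℚ) < b := by exact_mod_cast hb
  constructor
  · intro h
    obtain ⟨N, hN, h1⟩ := exists_IT_twist hℓ hx hb h
    have hNq : (0 : ℚ) < N := by exact_mod_cast hN
    refine ⟨1 / (N * b * b), by positivity, fun c d hd hlt _ => ?_⟩
    have hdq : (0 : ℚ) < d := by exact_mod_cast hd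
    have hd0 : 0 < N * b * b := by positivity
    refine IT_of_lt hℓ hg hx hd0 hd (h1.gv ℓ g) ?_
    have e : (a : ℚ) / b - 1 / (N * b * b) = ((a * (N * b : ℕ) - 1 : ℤ) : ℚ) / ((N * b * b : ℕ) : ℚ) := by
      push_cast
      field_simp
    rw [e, div_lt_div_iff₀ (by exact_mod_cast hd0) hdq] at hlt
    exact_mod_cast hlt
  · rintro ⟨ε, hε, h⟩
    obtain ⟨q, hq1, hq2⟩ := exists_between (show (a : ℚ) / b - ε < a / b by linarith)
    have hqe : (q.num : ℚ) / (q.den : ℚ) = q := q.num_div_den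
    have hdq : (0 : ℚ) < q.den := by exact_mod_cast q.den_pos
    have h1 := h q.num q.den q.den_pos (by rw [hqe]; exact hq1) (by rw [hqe]; exact hq2)
    refine IT_of_lt hℓ hg hx q.den_pos hb (h1.gv ℓ g) ?_
    rw [← hqe, div_lt_div_iff₀ hdq hbq] at hq2
    exact_mod_cast hq2

end K527.OpenIT
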