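import Groth.Agent.AbVar.K527.AVIso
import Groth.Agent.Divis.NormAmple
import Groth.Agent.Grpsch.MulFinFlat

/-!
# Multiplication by `n`: `[n]^* ℓ = κ ℓ^(n²)`, `GV` and powers of the polarisation

* `exists_pl_pow`; `IsAmp.pow`; `GV_pow_iff`; `IT_mul_iff`;
* `IT_of_lt`: `GV` at `a/b` implies `IT(0)` at `c/d > a/b`.
-/

set_option autoImplicit false
universe u

open CategoryTheory CategoryTheory.Limits MonoidalCategory CartesianMonoidalCategory AlgebraicGeometry TopologicalSpace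
open scoped MonObj
open Groth.Agent Groth.Agent.Grpsch.PicGrp Groth.Agent.Grpsch.Cube Groth.Agent.Fga.PicMon K527.Cls
open K527.FibPts (pt)
open K518.Phi K527.ITGV

namespace K527.Powers

theorem mk_tensorPow {X : Scheme.{u}} {L : X.Modules} (hL : PicF.IsInvertible L) (n : ℕ)
    (h1 : PicF.IsInvertible (CohB1.tensorPow L n)) : mk (CohB1.tensorPow L n) h1 = mk L hL ^ n := by
  induction n with
  | zero => rw [pow_zero]; rfl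
  | succ n ih =>
    have h2 : PicF.IsInvertible (CohB1.tensorPow L n) := Fdesc.LocGen.isInvertible_tensorPow hL n
    rw [pow_succ, ← ih h2]
    rfl

theorem IsAmp.pow {X : Scheme.{u}} {ℓ : Pic X} (h : IsAmp ℓ) {n : ℕ} (hn : 0 < n) : IsAmp (ℓ ^ n) := by
  obtain ⟨L, hL, rfl⟩ := h
  exact ⟨_, Divis.NormAmple.isAmple_tensorPow hL hn, mk_tensorPow hL.1 n _⟩

variable {k : Type u} [Field k] {A : Over (Spec (CommRingCat.of k))} [GrpObj A]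

theorem IT_mul_iff {c : MC A.left} {κ : Pic A.left} (hκ : κ ∈ Inv A) : IT (c * ic _ κ) ↔ IT c := by
  refine ⟨fun h => ?_, fun h => h.mul_ic hκ⟩
  have h1 := h.mul_ic (inv_mem hκ)
  rwa [mul_assoc, ic_mul_inv, mul_one] at h1

variable [IsProper A.hom] [GeometricallyIntegral A.hom]

theorem GV.pow {ℓ : Pic A.left} {g : ℕ} {c : MC A.left} (h : GV ℓ g c) {m : ℕ} (hm : 1 ≤ m) : GV (ℓ ^ m) g c := by
  have := Grpsch.MulFinFlat.isFinite k A m hm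
  refine h.pull ((𝟙 A) ^ m) fun i y _ hv => ?_
  rwa [MonObj.comp_pow, Category.comp_id, phi_pow, ← phi_pow_left] at hv

variable [IsAlgClosed k]

theorem GV.of_pow {ℓ : Pic A.left} {g : ℕ} {c : MC A.left} {m : ℕ} (hm : 1 ≤ m) (h : GV (ℓ ^ m) g c) : GV ℓ g c := by
  have := Grpsch.MulFinFlat.isFinite k A m hm
  intro i hi
  obtain ⟨Z, hZ, hd, hv⟩ := h i hi
  refine ⟨((𝟙 A) ^ m).left '' Z, ((𝟙 A) ^ m).left.isClosedMap _ hZ,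
    lt_of_le_of_lt (DimSet.dim_image_le ((𝟙 A) ^ m).left ((𝟙 A) ^ m).left.isClosedMap Z hZ) hd, fun y hy => ?_⟩
  obtain ⟨z, rfl⟩ := K513.Tors.exists_pow_eq A m hm y
  rw [phi_pow, ← phi_pow_left] at hy
  refine ⟨pt z, hv z hy, ?_⟩
  rw [← pt_comp, MonObj.comp_pow, Category.comp_id]

/-- `[n]^* ℓ = κ ℓ^(n²)`. -/
theorem exists_pl_pow (ℓ : Pic A.left) (n : ℕ) : ∃ κ ∈ Inv A, pl ((𝟙 A) ^ n) ℓ = κ * ℓ ^ (n ^ 2) := by
  have hm : IsMonHom ((𝟙 A) ^ n) := Grpsch.MulFinFlat.isMonHom_id_pow k A n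
  refine ⟨pl ((𝟙 A) ^ n) ℓ * (ℓ ^ (n ^ 2))⁻¹, phi_eq_iff.1 fun x => ?_, by rw [inv_mul_cancel_right]⟩
  rw [phi_pl, MonObj.comp_pow, Category.comp_id, pl_pow_of_inv (phi_mem_Inv _ _), pl_id, phi_pow_left, phi_pow,
    ← pow_mul, sq]

/-- `ℚ`-twists pulled back along multiplication by `n`. -/
theorem exists_pmo_twist (ℓ : Pic A.left) (x : MC A.left) (a : ℤ) (b n : ℕ) : ∃ κ ∈ Inv A,
    pmo ((𝟙 A) ^ n) (pmo ((𝟙 A) ^ b) x * ic _ (ℓ ^ (a * b))) =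
      pmo ((𝟙 A) ^ (n * b)) x * ic _ (κ * ℓ ^ (a * b * (n ^ 2 : ℕ))) := by
  obtain ⟨κ, hκ, h⟩ := exists_pl_pow ℓ n
  refine ⟨κ ^ (a * b), zpow_mem hκ _, ?_⟩
  rw [map_mul, pmo_ic, ← pmo_comp, MonObj.comp_pow, Category.comp_id, ← pow_mul, map_zpow, h, mul_zpow,
    ← zpow_natCast ℓ, ← zpow_mul, mul_comm ((n ^ 2 : ℕ) : ℤ)]

/-- `GV` at `a/b` implies `IT(0)` at every `c/d > a/b`. -/
theorem IT_of_lt {ℓ : Pic A.left} (hℓ : IsAmp ℓ) {g : ℕ} (hg : topologicalKrullDim A.left = g) {x : MC A.left}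
    (hx : CO x) {a c : ℤ} {b d : ℕ} (hb : 0 < b) (hd : 0 < d)
    (h : GV ℓ g (pmo ((𝟙 A) ^ b) x * ic _ (ℓ ^ (a * b)))) (hlt : a * d < c * b) :
    IT (pmo ((𝟙 A) ^ d) x * ic _ (ℓ ^ (c * d))) := by
  have hmb := Grpsch.MulFinFlat.isMonHom_id_pow k A b
  have hmd := Grpsch.MulFinFlat.isMonHom_id_pow k A d
  obtain ⟨i1, -, i2⟩ := Grpsch.MulFinFlat.isFinite_flat_surjective k A b hb
  obtain ⟨i3, -, i4⟩ := Grpsch.MulFinFlat.isFinite_flat_surjective k A d hd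
  have hc1 : CO (pmo ((𝟙 A) ^ b) x * ic _ (ℓ ^ (a * b))) := (hx.pm _).mul_ic _
  have hc2 : CO (pmo ((𝟙 A) ^ d) x * ic _ (ℓ ^ (c * d))) := (hx.pm _).mul_ic _
  rw [← AVIso.IT_iff ((𝟙 A) ^ b) hℓ hc2.qc]
  obtain ⟨κ, hκ, h1⟩ := exists_pmo_twist ℓ x c d b
  obtain ⟨κ', hκ', h2⟩ := exists_pmo_twist ℓ x a b d
  obtain ⟨κd, hκd, h3⟩ := exists_pl_pow ℓ d
  have h4 := AVIso.GV_up ((𝟙 A) ^ d) hℓ hc1.qc h
  have h5 : GV (ℓ ^ (d ^ 2)) g (pmo ((𝟙 A) ^ d) (pmo ((𝟙 A) ^ b) x * ic _ (ℓ ^ (a * b)))) :=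
    h4.congr_phi fun y => by rw [h3, phi_inv_mul _ hκd]
  have h6 := GV.of_pow (Nat.pow_pos hd) h5
  set n : ℤ := b * d * (c * b - a * d) with hn
  have hn0 : 0 < n := mul_pos (mul_pos (by exact_mod_cast hb) (by exact_mod_cast hd)) (by linarith)
  obtain ⟨m, hm⟩ := Int.eq_ofNat_of_zero_le hn0.le
  have hm0 : 0 < m := by omega
  have h7 := IT_of_GV (IsAmp.pow hℓ hm0) hg (hc1.pm _) (GV.pow h6 hm0)
  rw [h1]
  have h8 : pmo ((𝟙 A) ^ (b * d)) x * ic _ (κ * ℓ ^ (c * d * (b ^ 2 : ℕ))) =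
      pmo ((𝟙 A) ^ d) (pmo ((𝟙 A) ^ b) x * ic _ (ℓ ^ (a * b))) * ic _ (ℓ ^ m) * ic _ (κ * κ'⁻¹) := by
    have h9 : ℓ ^ (c * d * (b ^ 2 : ℕ)) = ℓ ^ (a * b * (d ^ 2 : ℕ)) * ℓ ^ m := by
      rw [← zpow_natCast ℓ m, ← zpow_add]
      congr 1
      rw [← hm, hn]
      push_cast
      ring
    have h10 : κ * ℓ ^ (c * d * (b ^ 2 : ℕ)) = κ' * ℓ ^ (a * b * (d ^ 2 : ℕ)) * (ℓ ^ m * (κ * κ'⁻¹)) := by
      rw [h9]
      apply Additive.ofMul.injective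
      simp only [ofMul_mul, ofMul_inv]
      module
    rw [h2, mul_comm d b, h10, map_mul (ic A.left) (κ' * _), map_mul (ic A.left) (ℓ ^ m), ← mul_assoc, ← mul_assoc]
  rw [h8, IT_mul_iff (mul_mem hκ (inv_mem hκ'))]
  exact h7

end K527.Powers
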