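import Groth.Agent.AbVar.K527.PresVan

/-!
# Preservation of vanishing for `ℚ`-twisted classes

* `GV_pull_pow`, `IT_pull_pow_iff`: pull back along multiplication by `n ≥ 1`;
* `IT_mul_twist`: `f⟨a/b⟩` `GV`, `γ⟨c/d⟩` `IT(0)`, `γ` locally free, implies `(f γ)⟨a/b + c/d⟩` `IT(0)`.
-/

set_option autoImplicit false
universe u

open CategoryTheory CategoryTheory.Limits MonoidalCategory CartesianMonoidalCategory AlgebraicGeometry TopologicalSpace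
open scoped MonObj
open Groth.Agent Groth.Agent.Grpsch.PicGrp Groth.Agent.Grpsch.Cube Groth.Agent.Fga.PicMon K527.Cls K527.Seq K527.LocFree
open K527.FibPts (pt)
open K518.Phi K527.ITGV K527.Powers K527.FiltVan

namespace K527.PresRow

variable {k : Type u} [Field k] {A : Over (Spec (CommRingCat.of k))} [GrpObj A]
  [IsProper A.hom] [GeometricallyIntegral A.hom] [IsAlgClosed k]
  {ℓ : Pic A.left} (hℓ : IsAmp ℓ) {g : ℕ} (hg : topologicalKrullDim A.left = g)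

include hℓ in
theorem GV_pull_pow {c : MC A.left} (hc : QC c) (h : GV ℓ g c) {n : ℕ} (hn : 0 < n) :
    GV ℓ g (pmo ((𝟙 A) ^ n) c) := by
  have hm := Grpsch.MulFinFlat.isMonHom_id_pow k A n
  obtain ⟨i1, -, i2⟩ := Grpsch.MulFinFlat.isFinite_flat_surjective k A n hn
  obtain ⟨κ, hκ, h3⟩ := exists_pl_pow ℓ n
  have h4 := AVIso.GV_up ((𝟙 A) ^ n) hℓ hc h
  have h5 : GV (ℓ ^ (n ^ 2)) g (pmo ((𝟙 A) ^ n) c) :=
    h4.congr_phi fun y => by rw [h3, phi_inv_mul _ hκ]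
  exact GV.of_pow (Nat.pow_pos hn) h5

include hg in
theorem GV_of_pull_pow {c : MC A.left} (hc : QC c) {n : ℕ} (hn : 0 < n) (h : GV ℓ g (pmo ((𝟙 A) ^ n) c)) :
    GV ℓ g c := by
  have hm := Grpsch.MulFinFlat.isMonHom_id_pow k A n
  obtain ⟨i1, -, i2⟩ := Grpsch.MulFinFlat.isFinite_flat_surjective k A n hn
  obtain ⟨κ, hκ, h3⟩ := exists_pl_pow ℓ n
  have h5 := (GV.pow h (Nat.pow_pos hn : 0 < n ^ 2)).congr_phi (ℓ' := pl ((𝟙 A) ^ n) ℓ) fun y => by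
    rw [h3, phi_inv_mul _ hκ]
  exact AVIso.GV_down ((𝟙 A) ^ n) hg hc h5

include hℓ in
theorem IT_pull_pow_iff {c : MC A.left} (hc : QC c) {n : ℕ} (hn : 0 < n) :
    IT (pmo ((𝟙 A) ^ n) c) ↔ IT c := by
  have hm := Grpsch.MulFinFlat.isMonHom_id_pow k A n
  obtain ⟨i1, -, i2⟩ := Grpsch.MulFinFlat.isFinite_flat_surjective k A n hn
  exact AVIso.IT_iff ((𝟙 A) ^ n) hℓ hc

include hℓ hg

theorem IT_mul_twist {f γ : MC A.left} (hf : CO f) (hγ : LF γ) {a c : ℤ} {b d : ℕ} (hb : 0 < b) (hd : 0 < d)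
    (h1 : GV ℓ g (pmo ((𝟙 A) ^ b) f * ic _ (ℓ ^ (a * b)))) (h2 : IT (pmo ((𝟙 A) ^ d) γ * ic _ (ℓ ^ (c * d)))) :
    IT (pmo ((𝟙 A) ^ (b * d)) (f * γ) * ic _ (ℓ ^ ((a * d + b * c) * ((b * d : ℕ) : ℤ)))) := by
  have hN : IsLocallyNoetherian A.left := LocallyOfFiniteType.isLocallyNoetherian A.hom
  have c1 : CO (pmo ((𝟙 A) ^ b) f * ic _ (ℓ ^ (a * b))) := (hf.pm _).mul_ic _
  have c2 : LF (pmo ((𝟙 A) ^ d) γ * ic _ (ℓ ^ (c * d))) := (hγ.pm _).mul (LF.ic _)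
  have h3 := GV_pull_pow hℓ c1.qc h1 hd
  have h4 := (IT_pull_pow_iff hℓ c2.co.qc hb).2 h2
  have h5 := PresVan.IT_mul hℓ hg (c1.pm _) (c2.pm _) h3 h4
  obtain ⟨κ, hκ, h6⟩ := exists_pmo_twist ℓ f a b d
  obtain ⟨κ', hκ', h7⟩ := exists_pmo_twist ℓ γ c d b
  have h8 : pm ((𝟙 A) ^ d).left (pmo ((𝟙 A) ^ b) f * ic _ (ℓ ^ (a * b))) *
      pm ((𝟙 A) ^ b).left (pmo ((𝟙 A) ^ d) γ * ic _ (ℓ ^ (c * d))) =
      pmo ((𝟙 A) ^ (b * d)) (f * γ) * ic _ (ℓ ^ ((a * d + b * c) * ((b * d : ℕ) : ℤ))) * ic _ (κ * κ') := by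
    refine (congrArg₂ (· * ·) h6 h7).trans ?_
    rw [mul_comm d b, mul_mul_mul_comm, ← map_mul, ← map_mul, mul_assoc (pmo _ _), ← map_mul (ic _) (ℓ ^ _)]
    congr 2
    have h9 : ℓ ^ ((a * d + b * c) * ((b * d : ℕ) : ℤ)) = ℓ ^ (a * b * (d ^ 2 : ℕ)) * ℓ ^ (c * d * (b ^ 2 : ℕ)) := by
      rw [← zpow_add]
      congr 1
      push_cast
      ring
    rw [h9]
    apply Additive.ofMul.injective
    simp only [ofMul_mul]
    abel
  rw [h8, IT_mul_iff (mul_mem hκ hκ')] at h5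
  exact h5

end K527.PresRow
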