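import Groth.Agent.AbVar.K527.LocFree
import Groth.Agent.AbVar.K527.Powers
import Groth.Agent.CohqA.AffineBaseChange
import Groth.Agent.CohqA.AffPush

/-!
# Preservation of vanishing

`IT_mul`: on an abelian variety over an algebraically closed field, if `w₁` is a coherent `GV` class and `w₂` an `IT(0)` class of a
finite locally free module, then `w₁ w₂` is `IT(0)`.  Proof: on `A × A` with `d(x, y) = x y⁻¹` the class `w₁ ⊠ w₂ ⊗ d^* ℓ^m` has no
higher cohomology for `m ≥ 1` (Theorem Q and Künneth); hence neither has `w₁ ⊠ w₂ ⊗ d^*(E ⊗ ℓ^m)` for `m ≫ 0`, `E` coherent; take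
`E` the skyscraper at the origin.
-/

set_option autoImplicit false
universe u

open CategoryTheory CategoryTheory.Limits MonoidalCategory CartesianMonoidalCategory AlgebraicGeometry TopologicalSpace
open scoped MonObj
open Groth.Agent Groth.Agent.Grpsch.PicGrp Groth.Agent.Grpsch.Cube Groth.Agent.Fga.PicMon K527.Cls K527.Seq K527.LocFree
open K527.FibPts (pt)
open K518.Phi K527.ITGV K527.Powers K527.FiltVan

namespace K527.PresVan

theorem pm_fr {X Y : Scheme.{u}} (f : X ⟶ Y) (r : ℕ) : pm f (fr Y r) = fr X r :=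
  mc_eq (PreservesCoproduct.iso (Scheme.Modules.pullback f) _ ≪≫ Limits.Sigma.mapIso fun _ => ASBun.K791.Tens.pullUnit f)

variable {k : Type u} [Field k]

/-- Künneth. -/
theorem V_box_iff (X Y : Over (Spec (CommRingCat.of k))) [QuasiCompact X.hom] [IsSeparated X.hom]
    [QuasiCompact Y.hom] [IsSeparated Y.hom] {a : MC X.left} {b : MC Y.left} (ha : QC a) (hb : QC b) (n : ℕ) :
    V (pmo (fst X Y) a * pmo (snd X Y) b) n ↔ ∀ p q, p + q = n → V a p ∨ V b q := by
  obtain ⟨M, hM, rfl⟩ := ha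
  obtain ⟨N, hN, rfl⟩ := hb
  exact K524.Kun.subsingleton_box_iff X Y M hM N hN (ThmQ.isFlatOver_field X.hom M) n

variable {A : Over (Spec (CommRingCat.of k))} [GrpObj A]

variable (A) in
/-- The difference `(x, y) ↦ x y⁻¹`. -/
noncomputable def dif : A ⊗ A ⟶ A := fst A A * (snd A A)⁻¹

variable (A) in
/-- The diagonal. -/
noncomputable def dia : A ⟶ A ⊗ A := lift (𝟙 A) (𝟙 A)

theorem lift_dif {T : Over (Spec (CommRingCat.of k))} (a b : T ⟶ A) : lift a b ≫ dif A = a * b⁻¹ := by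
  rw [dif, MonObj.comp_mul, GrpObj.comp_inv, lift_fst, lift_snd]

theorem dia_dif : dia A ≫ dif A = 1 := by
  rw [dia, lift_dif, mul_inv_cancel]

/-- The diagonal is the fibre of the difference over the origin. -/
theorem isPullback_dia : IsPullback (dia A) (toUnit A) (dif A) η[A] := by
  refine ⟨⟨?_⟩, ⟨PullbackCone.IsLimit.mk _ (fun s => s.fst ≫ fst A A) (fun s => ?_) (fun s => toUnit_unique _ _)
    (fun s m h1 _ => ?_)⟩⟩
  · rw [dia_dif]
    rfl
  · have h1 : (s.fst ≫ fst A A) * (s.fst ≫ snd A A)⁻¹ = 1 := by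
      rw [← lift_dif]
      have h2 : lift (s.fst ≫ fst A A) (s.fst ≫ snd A A) = s.fst := by
        rw [← comp_lift, lift_fst_snd, Category.comp_id]
      rw [h2, s.condition]
      rw [Hom.one_def]
      congr 1
      exact toUnit_unique _ _
    have h2 : s.fst ≫ fst A A = s.fst ≫ snd A A := mul_inv_eq_one.1 h1
    rw [dia, comp_lift, Category.comp_id]
    conv_lhs => rw [show lift (s.fst ≫ fst A A) (s.fst ≫ fst A A) = lift (s.fst ≫ fst A A) (s.fst ≫ snd A A) from by rw [← h2]]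
    rw [← comp_lift, lift_fst_snd, Category.comp_id]
  · rw [← h1, dia, Category.assoc, lift_fst, Category.comp_id]

section Comm

variable [IsCommMonObj A]

theorem lift_lift : lift (fst A A) (dif A) ≫ lift (fst A A) (dif A) = 𝟙 (A ⊗ A) := by
  rw [comp_lift, lift_fst, lift_dif]
  have : fst A A * (dif A)⁻¹ = snd A A := by
    rw [dif, mul_inv, inv_inv, mul_inv_cancel_left]
  rw [this, lift_fst_snd]

instance : IsIso (lift (fst A A) (dif A)) := ⟨_, lift_lift, lift_lift⟩

theorem isPullback_dif : IsPullback (fst A A).left (dif A).left A.hom A.hom := by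
  have h0 : IsPullback (fst A A).left (snd A A).left A.hom A.hom := by
    rw [Over.fst_left, Over.snd_left]
    exact IsPullback.of_hasPullback _ _
  have : IsIso (lift (fst A A) (dif A)).left := isIso_left _
  refine h0.of_iso (asIso (lift (fst A A) (dif A)).left) (Iso.refl _) (Iso.refl _) (Iso.refl _) ?_ ?_ ?_ ?_
  · rw [Iso.refl_hom, Category.comp_id, asIso_hom, ← Over.comp_left, lift_fst]
  · rw [Iso.refl_hom, Category.comp_id, asIso_hom, ← Over.comp_left, lift_dif, dif, mul_inv, inv_inv,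
      mul_inv_cancel_left]
  · simp
  · simp

theorem flat_dif [Flat A.hom] : Flat (dif A).left :=
  MorphismProperty.of_isPullback (P := @Flat) (isPullback_dif (A := A)) ‹_›

/-- `w₁ ⊠ w₂` is flat over `A` along the difference, for `w₂` locally free. -/
theorem FO_dif {w₁ w₂ : MC A.left} (h2 : LF w₂) : FO (dif A).left (pmo (fst A A) w₁ * pmo (snd A A) w₂) := by
  refine FO.mul_lf ?_ (h2.pm _)
  induction w₁ using MC.ind with | h F => ?_
  exact ⟨_, FormalB.BC.isFlatOver_pullback isPullback_dif F (ThmQ.isFlatOver_field A.hom F), rfl⟩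

end Comm

section Main

variable [IsProper A.hom] [GeometricallyIntegral A.hom] [IsAlgClosed k]

omit [IsAlgClosed k] in
theorem GV.loci {ℓ : Pic A.left} {g : ℕ} (hg : topologicalKrullDim A.left = g) {c : MC A.left} (h : GV ℓ g c)
    (j : ℕ) (hj : 1 ≤ j) : ∃ Z : Set A.left, IsClosed Z ∧ topologicalKrullDim Z + (j : WithBot ℕ∞) ≤ g ∧
      ∀ y : Pt A, pt y ∉ Z → V (c * ic _ (phi ℓ y)⁻¹) j := by
  let nv : A ⟶ A := (𝟙 A)⁻¹
  have hnv : nv ≫ nv = 𝟙 A := by
    rw [GrpObj.comp_inv, Category.comp_id, inv_inv]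
  have : IsIso nv := ⟨nv, hnv, hnv⟩
  have : IsIso nv.left := isIso_left nv
  by_cases hjg : j ≤ g
  · obtain ⟨Z, hZ, hd, hv⟩ := h j hj
    refine ⟨nv.left ⁻¹' Z, hZ.preimage nv.left.continuous,
      DimSet.add_le_of_lt hjg (lt_of_le_of_lt (DimSet.dim_preimage_le nv.left _ hZ) hd), fun y hy => ?_⟩
    have hy' : y ≫ nv = y⁻¹ := by rw [GrpObj.comp_inv, Category.comp_id]
    rw [Set.mem_preimage, ← pt_comp, hy'] at hy
    rw [← phi_inv]
    by_contra hne
    exact hy (hv _ hne)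
  · refine ⟨∅, isClosed_empty, ?_, fun y _ => ?_⟩
    · rw [DimSet.dim_empty]
      simp
    · have := noetherianSpace A
      exact V_of_dim g hg.le _ j (by omega)

variable {ℓ : Pic A.left} (hℓ : IsAmp ℓ) {g : ℕ} (hg : topologicalKrullDim A.left = g) {w₁ w₂ : MC A.left}
  (c1 : CO w₁) (c2 : LF w₂) (h1 : GV ℓ g w₁) (h2 : IT w₂)

include hℓ hg c1 c2 h1 h2

/-- `w₁ ⊠ w₂ ⊗ d^* ℓ^m` has no higher cohomology. -/
theorem V_twist (m : ℕ) (hm : 1 ≤ m) (j : ℕ) (hj : 1 ≤ j) :
    V (pmo (fst A A) w₁ * pmo (snd A A) w₂ * ic _ (pl (dif A) (ℓ ^ m))) j := by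
  have hN : IsLocallyNoetherian A.left := LocallyOfFiniteType.isLocallyNoetherian A.hom
  choose! Z hZ hd hv using GV.loci hg (GV.pow h1 hm)
  have hco : CO (pmo (fst A A) w₁ * pmo (snd A A) w₂) := CO.mul (c1.pm _) (c2.co.pm _)
  have : IsProper (A ⊗ A).hom := by
    rw [Over.tensorObj_hom]
    infer_instance
  refine ThmQ.V_of_loci (dif A) (ℓ ^ m) _ g hg.le hco (IsAmp.top (IsAmp.pow hℓ hm) hg) Z hZ hd
    (fun i hi y hy => ?_) j hj
  have hκ : (phi (ℓ ^ m) y)⁻¹ ∈ Inv A := inv_mem (phi_mem_Inv _ _)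
  have e1 : pl (dif A) (phi (ℓ ^ m) y)⁻¹ = pl (fst A A) (phi (ℓ ^ m) y)⁻¹ * pl (snd A A) ((phi (ℓ ^ m) y)⁻¹)⁻¹ := by
    rw [dif, pl_mul_of_inv hκ, pl_inv_of_inv hκ, map_inv (pl (snd A A)) (phi (ℓ ^ m) y)⁻¹]
  rw [e1, map_mul, mul_mul_mul_comm, ← pmo_ic, ← pmo_ic, ← map_mul, ← map_mul]
  rw [V_box_iff A A ((c1.mul_ic _).qc) ((c2.co.mul_ic _).qc)]
  intro p q hpq
  rcases Nat.eq_zero_or_pos q with rfl | hq
  · left
    rw [add_zero] at hpq
    subst hpq
    exact hv p hi y hy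
  · right
    exact h2 q hq _ (inv_mem hκ)

/-- The same with a coherent class from the base, for `m ≫ 0`. -/
theorem V_big (x : MC A.left) (hx : CO x) (i : ℕ) (hi : 1 ≤ i) :
    ∃ m₀ : ℕ, ∀ m, m₀ ≤ m → V (pmo (fst A A) w₁ * pmo (snd A A) w₂ * pmo (dif A) (x * ic _ (ℓ ^ m))) i := by
  have hc : IsCommMonObj A := isCommMonObj_of_isProper_of_geometricallyIntegral A
  have hN : IsLocallyNoetherian A.left := LocallyOfFiniteType.isLocallyNoetherian A.hom
  have hcs : CompactSpace A.left := QuasiCompact.compactSpace_of_compactSpace A.hom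
  have hN' : IsNoetherian A.left := {}
  have hsep : A.left.IsSeparated := by
    constructor
    have h6 : IsSeparated (A.hom ≫ terminal.from _) := inferInstance
    rwa [Subsingleton.elim (terminal.from A.left) (A.hom ≫ terminal.from _)]
  have : IsProper (A ⊗ A).hom := by
    rw [Over.tensorObj_hom]
    infer_instance
  have hNAA := noetherianSpace (A ⊗ A)
  let _ : (A ⊗ A).left.Over (Spec (CommRingCat.of k)) := ⟨(A ⊗ A).hom⟩
  have hprop : IsProper ((A ⊗ A).left ↘ Spec (CommRingCat.of k)) := inferInstanceAs (IsProper (A ⊗ A).hom)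
  obtain ⟨D, hD⟩ := EtpbcA.CdFinDim.exists_dim_le ((A ⊗ A).left ↘ Spec (CommRingCat.of k))
  obtain ⟨L, hL, rfl⟩ := hℓ
  set ℓ := mk L hL.1 with hℓdef
  have key : ∀ t i : ℕ, 1 ≤ i → D + 1 ≤ i + t → ∀ x : MC A.left, CO x →
      ∃ m₀ : ℕ, ∀ m, m₀ ≤ m → V (pmo (fst A A) w₁ * pmo (snd A A) w₂ * pmo (dif A) (x * ic _ (ℓ ^ m))) i := by
    intro t
    induction t with
    | zero => exact fun i _ hi x _ => ⟨0, fun m _ => V_of_dim D hD _ i (by omega)⟩
    | succ t ih =>
      intro i hi hit x hx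
      obtain ⟨n, r, y, hy, hs⟩ := exists_of_amp hL hx
      obtain ⟨m₁, hm₁⟩ := ih (i + 1) (by omega) (by omega) y hy
      refine ⟨n + m₁ + 1, fun m hm => ?_⟩
      have hs2 := (FO_dif (w₁ := w₁) c2).se (hs.mul_ic (ℓ ^ (m - n)))
      have e3 : x * ic A.left (mk L hL.1 ^ n) * ic A.left (ℓ ^ (m - n)) = x * ic _ (ℓ ^ m) := by
        rw [mul_assoc, ← map_mul, ← pow_add]
        congr 3
        omega
      rw [e3] at hs2
      refine hs2.V₃ ?_ (hm₁ (m - n) (by omega))
      change V (_ * pmo (dif A) (fr A.left r * ic _ (ℓ ^ (m - n)))) i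
      have e4 : pmo (dif A) (fr A.left r) = fr (A ⊗ A).left r := pm_fr _ r
      rw [map_mul, e4, mul_comm (fr _ r), ← mul_assoc, pmo_ic]
      exact V_mul_fr (V_twist ⟨L, hL, rfl⟩ hg c1 c2 h1 h2 (m - n) (by omega) i hi) r
  exact key (D + 1) i hi (by omega) x hx

/-- The restriction to the diagonal. -/
theorem V_diag (i : ℕ) (hi : 1 ≤ i) : V (w₁ * w₂) i := by
  have hc : IsCommMonObj A := isCommMonObj_of_isProper_of_geometricallyIntegral A
  have hN : IsLocallyNoetherian A.left := LocallyOfFiniteType.isLocallyNoetherian A.hom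
  have hsq : IsPullback (dia A).left (toUnit A).left (dif A).left (η[A] : 𝟙_ (Over (Spec (CommRingCat.of k))) ⟶ A).left :=
    (isPullback_dia (A := A)).map (Over.forget _)
  let i₀ := (η[A] : 𝟙_ (Over (Spec (CommRingCat.of k))) ⟶ A).left
  have hcl : IsClosedImmersion i₀ := by
    have h5 : i₀ ≫ A.hom = 𝟙 _ := Over.w (η[A] : 𝟙_ (Over (Spec (CommRingCat.of k))) ⟶ A)
    have h4 : IsClosedImmersion (i₀ ≫ A.hom) := by
      rw [h5]
      infer_instance
    exact IsClosedImmersion.of_comp i₀ A.hom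
  have hcl' : IsClosedImmersion (dia A).left := MorphismProperty.of_isPullback (P := @IsClosedImmersion) hsq.flip hcl
  let x : MC A.left := mc ((Scheme.Modules.pushforward i₀).obj (Coh.structureModule _))
  have hx : CO x := by
    have h5 : Coh.IsCoh (Coh.structureModule (Spec (CommRingCat.of k))) := Fdesc.StructMod.isCoh_structureModule _
    exact ⟨_, ⟨CohqA.AffPush.isQCoh_push i₀ _ h5.1, CohqA.AffPush.isFT_push i₀ _ h5.1 h5.2⟩, rfl⟩
  obtain ⟨m, hm⟩ := V_big hℓ hg c1 c2 h1 h2 x hx i hi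
  have h3 := hm m le_rfl
  have e1 : pmo (dif A) x = mc ((Scheme.Modules.pushforward (dia A).left).obj (Coh.structureModule _)) := by
    have hq : (Coh.structureModule (Spec (CommRingCat.of k))).IsQuasicoherent := Fdesc.StructMod.isQCoh_structureModule _
    obtain ⟨e⟩ := CohqA.AffineBaseChange.nonempty_iso hsq.flip (Coh.structureModule (Spec (CommRingCat.of k)))
    exact (mc_eq e).trans (mc_eq ((Scheme.Modules.pushforward (dia A).left).mapIso
      (ASBun.K791.Tens.pullUnit (toUnit A).left)))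
  have hW : QC (pmo (fst A A) w₁ * pmo (snd A A) w₂ * ic _ (pl (dif A) (ℓ ^ m))) :=
    ((c1.qc.pm _).mul (c2.co.qc.pm _)).mul (CO.ic _).qc
  rw [map_mul, e1, pmo_ic, mul_comm (mc _), ← mul_assoc, V_push_iff (dia A).left hW] at h3
  have e2 : pm (dia A).left (pmo (fst A A) w₁ * pmo (snd A A) w₂ * ic _ (pl (dif A) (ℓ ^ m))) = w₁ * w₂ := by
    change pmo (dia A) _ = _
    rw [map_mul, map_mul, ← pmo_comp, ← pmo_comp, pmo_ic, ← pl_comp, dia_dif, pl_one, map_one, mul_one, dia, lift_fst,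
      lift_snd, pmo_id, pmo_id]
  rwa [e2] at h3

/-- **Preservation of vanishing.** -/
theorem IT_mul : IT (w₁ * w₂) := by
  intro i hi κ hκ
  obtain ⟨x, rfl⟩ := hℓ.surj hκ
  have h3 := V_diag hℓ hg (c1.mul_ic _) c2 (h1.mul_ic x) h2 i hi
  rwa [mul_right_comm] at h3

end Main

end K527.PresVan
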