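import Groth.Agent.AbVar.K527.FiltVan
import Groth.Agent.FormalB.BCExact
import Groth.Agent.Dcoh.StalkT
import Groth.Agent.Ega2.H287.FinGenFree
import Groth.Agent.S2325
import Groth.Agent.S2297
import Groth.Agent.Dcoh.ResFree
import Groth.Agent.PerfA.CohSerre

/-!
# Short exact sequences on classes of modules

`SE x y z`: there is a short exact sequence of modules with these classes.
* `SE.V₁`, `SE.V₂`, `SE.V₃`: the long exact sequence;
* `SE.tensor_pull`: `G ⊗ h^*` for `G` flat over the target of `h`;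
* `SE.exists_of_amp`: coherent classes are quotients of `O^r ⊗ ℓ^{-n}`;
* `fr`, `V_mul_fr`.
-/

set_option autoImplicit false
universe u

open CategoryTheory CategoryTheory.Limits AlgebraicGeometry TopologicalSpace
open Groth.Agent Groth.Agent.Grpsch.PicGrp Groth.Agent.Fga.PicMon K527.Cls K527.AbsFilt K527.FiltVan
open Groth.Agent.VarietyA.EulerLES (exact₁ exact₂ exact₃ injective₀)

namespace K527.Seq

variable {X Y : Scheme.{u}}

/-- There is a short exact sequence of modules with classes `x`, `y`, `z`. -/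
def SE (x y z : MC X) : Prop :=
  ∃ S : ShortComplex X.Modules, S.ShortExact ∧ mc S.X₁ = x ∧ mc S.X₂ = y ∧ mc S.X₃ = z

variable {x y z : MC X}

theorem SE.V₂ (h : SE x y z) {i : ℕ} (h1 : V x i) (h3 : V z i) : V y i := by
  obtain ⟨S, hS, rfl, rfl, rfl⟩ := h
  have h1 : Subsingleton (Coh.HH X S.X₁ i) := h1
  have h3 : Subsingleton (Coh.HH X S.X₃ i) := h3
  change Subsingleton (Coh.HH X S.X₂ i)
  refine subsingleton_of_forall_eq 0 fun x => ?_
  obtain ⟨y, rfl⟩ := (exact₂ S hS i x).1 (Subsingleton.elim _ _)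
  rw [Subsingleton.elim y 0, map_zero]

theorem SE.V₃ (h : SE x y z) {i : ℕ} (h2 : V y i) (h1 : V x (i + 1)) : V z i := by
  obtain ⟨S, hS, rfl, rfl, rfl⟩ := h
  have h1 : Subsingleton (Coh.HH X S.X₁ (i + 1)) := h1
  have h3 : Subsingleton (Coh.HH X S.X₂ i) := h2
  change Subsingleton (Coh.HH X S.X₃ i)
  refine subsingleton_of_forall_eq 0 fun x => ?_
  obtain ⟨y, rfl⟩ := (exact₃ S hS i (i + 1) rfl x).1 (Subsingleton.elim _ _)
  rw [Subsingleton.elim y 0, map_zero]

theorem SE.V₁ (h : SE x y z) {i : ℕ} (h3 : V z i) (h2 : V y (i + 1)) : V x (i + 1) := by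
  obtain ⟨S, hS, rfl, rfl, rfl⟩ := h
  have h1 : Subsingleton (Coh.HH X S.X₂ (i + 1)) := h2
  have h3 : Subsingleton (Coh.HH X S.X₃ i) := h3
  change Subsingleton (Coh.HH X S.X₁ (i + 1))
  refine subsingleton_of_forall_eq 0 fun x => ?_
  obtain ⟨y, rfl⟩ := (exact₁ S hS i (i + 1) rfl x).1 (Subsingleton.elim _ _)
  rw [Subsingleton.elim y 0, map_zero]

theorem SE.V₁_zero (h : SE x y z) (h2 : V y 0) : V x 0 := by
  obtain ⟨S, hS, rfl, rfl, rfl⟩ := h
  have h1 : Subsingleton (Coh.HH X S.X₂ 0) := h2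
  exact (injective₀ S hS).subsingleton

theorem SE.of_epi {M N : X.Modules} (f : M ⟶ N) [Epi f] : SE (mc (kernel f)) (mc M) (mc N) :=
  ⟨ShortComplex.mk (kernel.ι f) f (kernel.condition f),
    { exact := ShortComplex.exact_of_f_is_kernel _ (kernelIsKernel _)
      mono_f := inferInstanceAs (Mono (kernel.ι f))
      epi_g := inferInstanceAs (Epi f) }, rfl, rfl, rfl⟩

theorem SE.of_mono {M N : X.Modules} (f : M ⟶ N) [Mono f] : SE (mc M) (mc N) (mc (cokernel f)) :=
  ⟨ShortComplex.mk f (cokernel.π f) (cokernel.condition f),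
    { exact := ShortComplex.exact_of_g_is_cokernel _ (cokernelIsCokernel _)
      mono_f := inferInstanceAs (Mono f)
      epi_g := inferInstanceAs (Epi (cokernel.π f)) }, rfl, rfl, rfl⟩

/-- `G ⊗ h^*(-)` for `G` flat over the target of `h`. -/
theorem SE.tensor_pull {x y z : MC Y} (hs : SE x y z) (h : X ⟶ Y) (G : X.Modules) (hG : FlatMod.IsFlatOver h G) :
    SE (mc G * pm h x) (mc G * pm h y) (mc G * pm h z) := by
  obtain ⟨S, hS, rfl, rfl, rfl⟩ := hs
  have h1 : PreservesFiniteLimits (FormalB.BC.T h G) := FormalB.BC.T_preservesFiniteLimits h G hG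
  exact ⟨S.map (FormalB.BC.T h G), hS.map_of_exact (FormalB.BC.T h G), mc_tensor _ _, mc_tensor _ _, mc_tensor _ _⟩

/-- Tensoring with a flat module. -/
theorem SE.mul_flat (hs : SE x y z) {G : X.Modules} (hG : FlatMod.IsFlat G) :
    SE (x * mc G) (y * mc G) (z * mc G) := by
  obtain ⟨S, hS, rfl, rfl, rfl⟩ := hs
  have h1 := Dcoh.Stalk.preservesFiniteLimits_tensorBi_obj G hG
  rw [mul_comm _ (mc G), mul_comm _ (mc G), mul_comm _ (mc G)]
  exact ⟨S.map (DCoh.tensorBi.obj G), hS.map_of_exact _, mc_tensor _ _, mc_tensor _ _, mc_tensor _ _⟩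

theorem SE.mul_ic (hs : SE x y z) (c : Pic X) : SE (x * ic X c) (y * ic X c) (z * ic X c) := by
  obtain ⟨L, hL, rfl⟩ := exists_mk c
  exact hs.mul_flat (isFlat_of_isInvertible hL)

/-- The class of a free module. -/
noncomputable def fr (X : Scheme.{u}) (r : ℕ) : MC X := mc (FlatMod.freeMod X r)

theorem se_fr (r : ℕ) : SE (fr X r) (fr X (r + 1)) 1 := by
  let S : ShortComplex X.Modules := ShortComplex.mk (biprod.inl : FlatMod.freeMod X r ⟶ FlatMod.freeMod X r ⊞ FlatMod.freeMod X 1)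
    biprod.snd biprod.inl_snd
  have hS : S.ShortExact := (ShortComplex.Splitting.ofHasBinaryBiproduct (FlatMod.freeMod X r) (FlatMod.freeMod X 1)).shortExact
  refine ⟨S, hS, rfl, ?_, ?_⟩
  · exact mc_eq (Dcoh.ResFree.freeModAdd r 1)
  · rw [← mc_one]
    exact mc_eq (Ega2.QCohLocal.freeModOneIso X).symm

theorem V_mul_fr {c : MC X} {i : ℕ} (h : V c i) (r : ℕ) : V (c * fr X r) i := by
  induction r with
  | zero => exact V_of_isZero Dcoh.ResFree.freeMod_zero_isZero c i
  | succ r ih =>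
    let S : ShortComplex X.Modules := ShortComplex.mk (biprod.inl : FlatMod.freeMod X r ⟶ FlatMod.freeMod X r ⊞ FlatMod.freeMod X 1)
      biprod.snd biprod.inl_snd
    have hS : S.ShortExact := (ShortComplex.Splitting.ofHasBinaryBiproduct (FlatMod.freeMod X r) (FlatMod.freeMod X 1)).shortExact
    have e1 : mc (FlatMod.freeMod X 1) = 1 := by
      rw [← mc_one]
      exact mc_eq (Ega2.QCohLocal.freeModOneIso X).symm
    have e2 : fr X (r + 1) = mc S.X₂ := (mc_eq (Dcoh.ResFree.freeModAdd r 1)).symm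
    rw [e2]
    have hfl : FlatMod.IsFlat S.X₃ := Dcoh.Spread.isFlat_of_isFinLocFree (Dcoh.ResFree.isFinLocFree_freeMod 1)
    refine V_mid hS hfl c i ih ?_
    change V (c * mc (FlatMod.freeMod X 1)) i
    rw [e1, mul_one]
    exact h

theorem CO.mul {c d : MC X} (h : CO c) (h' : CO d) : CO (c * d) := by
  obtain ⟨M, hM, rfl⟩ := h
  obtain ⟨N, hN, rfl⟩ := h'
  have := hM.1
  have := hN.1
  exact ⟨_, ⟨(Groth.Agent.S2297.result M N).1, (Groth.Agent.S2297.result M N).2 hM.2 hN.2⟩, mc_tensor _ _⟩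

theorem CO_one [IsLocallyNoetherian X] : CO (1 : MC X) := by
  rw [← map_one (ic X)]
  exact CO.ic 1

theorem CO_fr [IsLocallyNoetherian X] (r : ℕ) : CO (fr X r) := ⟨_, PerfA.CohSerre.isCoh_freeMod r, rfl⟩

/-- Coherent classes are quotients of sums of negative powers of an ample class. -/
theorem exists_of_amp [IsNoetherian X] [X.IsSeparated] {L : X.Modules} (hL : CohB1.IsAmple L) {x : MC X} (hx : CO x) :
    ∃ (n r : ℕ) (y : MC X), CO y ∧ SE y (fr X r) (x * ic X (mk L hL.1 ^ n)) := by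
  obtain ⟨F, hF, rfl⟩ := hx
  obtain ⟨m, hm⟩ := S2325.result X L hL F hF
  have hF' : Coh.IsCoh (CohB1.tensorMod F (CohB1.tensorPow L m)) :=
    Ega3B.CohTensor.isCoh_tensor hF (Fdesc.LocGen.isInvertible_tensorPow hL.1 m)
  obtain ⟨r, q, hq⟩ := Ega2.H287.FinGenFree.exists_epi_freeMod hF' (hm m le_rfl)
  refine ⟨m, r, mc (kernel q), ⟨_, PerfA.CohSerre.isCoh_kernel q (PerfA.CohSerre.isCoh_freeMod r) hF'.1, rfl⟩, ?_⟩
  have h1 := SE.of_epi q
  rw [mc_tensor] at h1
  have h2 : mc (CohB1.tensorPow L m) = ic X (mk L hL.1 ^ m) := by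
    clear hm hF' q hq h1
    induction m with
    | zero => rw [pow_zero, map_one]; rfl
    | succ n ih =>
      rw [pow_succ, map_mul, ← ih, ic_mk]
      exact mc_tensor _ _
  rwa [h2] at h1

end K527.Seq
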