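import Groth.Agent.AbVar.K527.PresRow
import Groth.Agent.AbVar.K527.Rows

/-!
# Powers of syzygy classes

`c` the class of a locally free module with `c⟨1/N⟩` `IT(0)`: `IT_pow_one`: `c^N ℓ` is `IT(0)`; `IT_pow`: `c^N ℓ^h` for `h ≥ 1`;
`IT_pow_mul`: `c^N f` if `f ℓ⁻¹` is `GV`.
-/

set_option autoImplicit false
universe u

open CategoryTheory CategoryTheory.Limits MonoidalCategory CartesianMonoidalCategory AlgebraicGeometry TopologicalSpace
open scoped MonObj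
open Groth.Agent Groth.Agent.Grpsch.PicGrp Groth.Agent.Grpsch.Cube Groth.Agent.Fga.PicMon K527.Cls K527.Seq K527.LocFree
open K518.Phi K527.ITGV K527.Powers K527.FiltVan K527.PresRow

namespace K527.Syz

theorem mc_tensorPow' {X : Scheme.{u}} (L : X.Modules) (n : ℕ) : mc (CohB1.tensorPow L n) = mc L ^ n := by
  induction n with
  | zero => rw [pow_zero]; rfl
  | succ n ih =>
    rw [pow_succ, ← ih]
    exact mc_tensor _ _

theorem LF.pow {X : Scheme.{u}} {c : MC X} (h : LF c) (n : ℕ) : LF (c ^ n) := by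
  induction n with
  | zero =>
    rw [pow_zero, ← map_one (ic X)]
    exact LF.ic 1
  | succ n ih =>
    rw [pow_succ]
    exact ih.mul h

variable {k : Type u} [Field k] {A : Over (Spec (CommRingCat.of k))} [GrpObj A]
  [IsProper A.hom] [GeometricallyIntegral A.hom] [IsAlgClosed k]
  {ℓ : Pic A.left} (hℓ : IsAmp ℓ) {g : ℕ} (hg : topologicalKrullDim A.left = g)

include hℓ hg

theorem IT_npow {w : MC A.left} (hw : LF w) (h : IT w) {n : ℕ} (hn : 1 ≤ n) : IT (w ^ n) := by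
  have hN : IsLocallyNoetherian A.left := LocallyOfFiniteType.isLocallyNoetherian A.hom
  induction n, hn using Nat.le_induction with
  | base => rwa [pow_one]
  | succ n _ ih =>
    rw [pow_succ]
    exact PresVan.IT_mul hℓ hg (LF.pow hw n).co hw (ih.gv ℓ g) h

theorem IT_pow_one {c : MC A.left} (hc : LF c) {N : ℕ} (hN : 1 ≤ N)
    (h : IT (pmo ((𝟙 A) ^ N) c * ic _ (ℓ ^ (N : ℤ)))) : IT (c ^ N * ic _ ℓ) := by
  have hNo : IsLocallyNoetherian A.left := LocallyOfFiniteType.isLocallyNoetherian A.hom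
  rw [← IT_pull_pow_iff hℓ ((LF.pow hc N).co.mul_ic ℓ).qc hN]
  have h1 := IT_npow hℓ hg ((hc.pm _).mul (LF.ic _)) h hN
  obtain ⟨κ, hκ, h2⟩ := exists_pl_pow ℓ N
  have h3 : pmo ((𝟙 A) ^ N) (c ^ N * ic _ ℓ) = (pmo ((𝟙 A) ^ N) c * ic _ (ℓ ^ (N : ℤ))) ^ N * ic _ κ := by
    rw [map_mul, map_pow, pmo_ic, h2, mul_pow, ← map_pow (ic _), map_mul (ic A.left), zpow_natCast, ← pow_mul, ← sq,
      mul_comm (ic _ κ), mul_assoc]
  rw [h3, IT_mul_iff hκ]
  exact h1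

theorem IT_pow {c : MC A.left} (hc : LF c) {N : ℕ} (hN : 1 ≤ N)
    (h : IT (pmo ((𝟙 A) ^ N) c * ic _ (ℓ ^ (N : ℤ)))) {m : ℕ} (hm : 1 ≤ m) : IT (c ^ N * ic _ (ℓ ^ m)) := by
  have hNo : IsLocallyNoetherian A.left := LocallyOfFiniteType.isLocallyNoetherian A.hom
  have h1 := IT_pow_one hℓ hg hc hN h
  obtain rfl | hm' := Nat.eq_or_lt_of_le hm
  · rwa [pow_one]
  · have h2 := IT_of_GV (IsAmp.pow hℓ (show 0 < m - 1 by omega)) hg ((LF.pow hc N).co.mul_ic ℓ) (h1.gv (ℓ ^ (m - 1)) g)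
    rw [mul_assoc, ← map_mul, ← pow_succ'] at h2
    rwa [Nat.sub_add_cancel hm] at h2

theorem IT_pow_mul {c f : MC A.left} (hc : LF c) (hf : CO f) {N : ℕ} (hN : 1 ≤ N)
    (h : IT (pmo ((𝟙 A) ^ N) c * ic _ (ℓ ^ (N : ℤ)))) (h2 : GV ℓ g (f * ic _ ℓ⁻¹)) : IT (c ^ N * f) := by
  have h1 := IT_pow_one hℓ hg hc hN h
  have h3 := PresVan.IT_mul hℓ hg (hf.mul_ic _) ((LF.pow hc N).mul (LF.ic ℓ)) h2 h1
  have h4 : f * ic _ ℓ⁻¹ * (c ^ N * ic _ ℓ) = c ^ N * f := by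
    rw [mul_mul_mul_comm, ic_inv_mul, mul_one, mul_comm]
  rwa [h4] at h3

end K527.Syz
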