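import Groth.Agent.AbVar.K527.FibPts
import Groth.Agent.AbVar.K524.PicZeroVan
import Groth.Agent.AbVar.K518.Phi
import Groth.Agent.FormalB.BCExact

/-!
# Hacon's vanishing argument, by Künneth

`d : X ⟶ A`, `A` a group over `k` algebraically closed, `ℓ` a class of invertible modules on `A` with `H^g(A, ℓ⁻¹) ≠ 0`,
`w` a coherent class on `X`.  If for all `j ≥ 1` the points `y` with `H^j(X, w ⊗ d^* λ_y⁻¹) ≠ 0`, `λ_y = phi ℓ y = t_y^* ℓ ⊗ ℓ⁻¹`, lie
in a closed subset of dimension `≤ g - j`, then `H^i(X, w ⊗ d^*ℓ) = 0` for all `i ≥ 1`.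
-/

set_option autoImplicit false
universe u

open CategoryTheory CategoryTheory.Limits MonoidalCategory CartesianMonoidalCategory AlgebraicGeometry TopologicalSpace
open scoped MonObj
open Groth.Agent Groth.Agent.Grpsch.PicGrp Groth.Agent.Grpsch.Cube Groth.Agent.Fga.PicMon K527.Cls K524.PicZeroVan
open K527.FibPts (pt)
open K518.Phi (Pt tr phi)

namespace K527.ThmQ

/-- Everything is flat over a field. -/
theorem isFlatOver_field {k : Type u} [Field k] {X : Scheme.{u}} (q : X ⟶ Spec (CommRingCat.of k)) (M : X.Modules) :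
    FlatMod.IsFlatOver q M := by
  intro x
  have h : IsField ((Spec (CommRingCat.of k)).presheaf.stalk (q.base x)) := by
    have hs : Subsingleton ↥(Spec (CommRingCat.of k)) := inferInstanceAs (Subsingleton (PrimeSpectrum k))
    have hi : IsIntegral (Spec (CommRingCat.of k)) := inferInstance
    have he : q.base x = genericPoint ↥(Spec (CommRingCat.of k)) := Subsingleton.elim _ _
    rw [he]
    exact Field.toIsField (Spec (CommRingCat.of k)).functionField
  let _ := FlatMod.moduleStalkOver q M x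
  let _ := h.toField
  change Module.Flat _ _
  infer_instance

variable {k : Type u} [Field k] {X A : Over (Spec (CommRingCat.of k))} [GrpObj A]

variable (d : X ⟶ A) (ℓ : Pic A.left) (w : MC X.left)

/-- the class of the twisted family -/
noncomputable def mu : MC (X ⊗ A).left :=
  pmo (fst X A) (w * ic _ (pl d ℓ)) * ic _ (pl ((fst X A ≫ d) * snd X A) ℓ⁻¹)

theorem mu_eq : mu d ℓ w = pmo (shear d).hom
    (pmo (fst X A) (w * ic _ (pl d ℓ)) * pmo (snd X A) (ic _ ℓ⁻¹)) := by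
  rw [mu, map_mul (pmo (shear d).hom), ← pmo_comp, ← pmo_comp, shear_hom_fst, shear_hom_snd, pmo_ic _ ℓ⁻¹]

theorem comp_tr (d : X ⟶ A) (y : Pt A) :
    d ≫ tr y = d * (toUnit X ≫ y) := by
  rw [tr, MonObj.comp_mul, Category.comp_id, ← Category.assoc, toUnit_unique (d ≫ toUnit A) (toUnit X)]

theorem pmo_j2_mu (y : Pt A) :
    pmo (K512.Slice.j2 X y) (mu d ℓ w) = w * ic _ (pl d (phi ℓ y)⁻¹) := by
  rw [mu, map_mul, ← pmo_comp, K512.Slice.j2_fst, pmo_id, pmo_ic, ← pl_comp, MonObj.comp_mul,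
    ← Category.assoc, K512.Slice.j2_fst, K512.Slice.j2_snd, Category.id_comp, mul_assoc,
    ← map_mul, ← comp_tr, pl_comp, ← map_mul, phi, mul_inv, inv_inv, mul_comm ℓ, map_inv]

theorem exists_rep [IsProper X.hom] [IsProper A.hom] (hw : CO w) :
    ∃ M : (X ⊗ A).left.Modules, Coh.IsCoh M ∧ FlatMod.IsFlatOver (snd X A).left M ∧ mc M = mu d ℓ w := by
  have hL : IsLocallyNoetherian X.left := LocallyOfFiniteType.isLocallyNoetherian X.hom
  rw [mu]
  obtain ⟨W, hW, hWe⟩ := CO.mul_ic hw (pl d ℓ)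
  rw [← hWe, pm_mc]
  obtain ⟨N, hN, hNe⟩ := exists_mk (pl ((fst X A ≫ d) * snd X A) ℓ⁻¹)
  rw [hNe, ic_mk]
  have hX : IsLocallyNoetherian (X ⊗ A).left := by
    have : LocallyOfFiniteType (X ⊗ A).hom := by
      rw [Over.tensorObj_hom]
      infer_instance
    exact LocallyOfFiniteType.isLocallyNoetherian (X ⊗ A).hom
  refine ⟨_, Ega3B.CohTensor.isCoh_tensor (FormalB.PullCoh.isCoh_pullback _ hW) hN,
    Ega3B.FlatTensInv.isFlatOver_tensor _ hN ?_, rfl⟩
  have H : IsPullback (fst X A).left (snd X A).left X.hom A.hom := by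
    rw [Over.fst_left, Over.snd_left]
    exact IsPullback.of_hasPullback _ _
  exact FormalB.BC.isFlatOver_pullback H W (isFlatOver_field X.hom W)

/-- **Theorem Q.** -/
theorem V_of_loci [IsAlgClosed k] [IsProper X.hom] [IsProper A.hom] (g : ℕ) (hg : topologicalKrullDim A.left ≤ g)
    (hw : CO w) (hℓ : ¬ V (ic _ ℓ⁻¹) g) (Z : ℕ → Set A.left) (hZ : ∀ j, 1 ≤ j → IsClosed (Z j))
    (hd : ∀ j : ℕ, 1 ≤ j → topologicalKrullDim (Z j) + (j : WithBot ℕ∞) ≤ g)
    (hv : ∀ j, 1 ≤ j → ∀ y : Pt A, pt y ∉ Z j →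
      V (w * ic _ (pl d (phi ℓ y)⁻¹)) j) (i : ℕ) (hi : 1 ≤ i) :
    V (w * ic _ (pl d ℓ)) i := by
  obtain ⟨M, hM, hfl, hMe⟩ := exists_rep d ℓ w hw
  have h1 := FibPts.V_of_slices M hM hfl g hg Z hZ hd (fun j hj y hy => by
    rw [hMe]
    change V (pmo _ _) j
    rw [pmo_j2_mu]
    exact hv j hj y hy) (i + g) (by omega)
  obtain ⟨W, hW, hWe⟩ := CO.mul_ic hw (pl d ℓ)
  obtain ⟨N, hN, hNe⟩ := CO.ic (X := A.left) ℓ⁻¹
  rw [hMe, mu_eq, ← hWe, ← hNe, V_pmo_iso _ ((QC.mk' hW.1).pm _ |>.mul ((QC.mk' hN.1).pm _))] at h1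
  have h2 := (K524.Kun.subsingleton_box_iff X A W hW.1 N hN.1 (isFlatOver_field X.hom W) (i + g)).1 h1 i g rfl
  rcases h2 with h | h
  · rw [← hWe]
    exact h
  · exfalso
    apply hℓ
    rw [← hNe]
    exact h

end K527.ThmQ
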