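import Mathlib.Algebra.Category.Ring.Constructions
import Mathlib.RingTheory.TensorProduct.IsBaseChangeFree

/-!
# A basis stays a basis along a pushout of rings (unbundled)
-/

set_option autoImplicit false
universe u

open CategoryTheory

namespace K527.TorsorAlg

/-- `(e x)` is a basis of `A` over `R` along `j`. -/
def Bas {R A : Type u} [CommRing R] [CommRing A] (j : R →+* A) {n : ℕ} (e : Fin n → A) : Prop :=
  Function.Bijective (fun a : Fin n → R => ∑ x, j (a x) * e x)

theorem Bas.of_isPushout {R S A B : CommRingCat.{u}} {i : R ⟶ S} {j : R ⟶ A} {k : S ⟶ B}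
    {l : A ⟶ B} (H : IsPushout i j k l) {n : ℕ} {e : Fin n → A} (he : Bas j.hom e) :
    Bas k.hom (fun x => l.hom (e x)) := by
  let : Algebra R S := i.hom.toAlgebra
  let : Algebra R A := j.hom.toAlgebra
  let : Algebra S B := k.hom.toAlgebra
  let : Algebra A B := l.hom.toAlgebra
  let : Algebra R B := (k.hom.comp i.hom).toAlgebra
  have : IsScalarTower R S B := IsScalarTower.of_algebraMap_eq fun _ => rfl
  have : IsScalarTower R A B := IsScalarTower.of_algebraMap_eq fun x => congr($(H.w) x)
  have hP : Algebra.IsPushout R S A B := by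
    rw [← CommRingCat.isPushout_iff_isPushout]
    exact H
  let φ : (Fin n → R) →ₗ[R] A :=
    { toFun := fun a => ∑ x, j.hom (a x) * e x
      map_add' := fun a b => by simp only [Pi.add_apply, map_add, add_mul, Finset.sum_add_distrib]
      map_smul' := fun r a => by
        simp only [Pi.smul_apply, smul_eq_mul, map_mul, RingHom.id_apply, Finset.mul_sum, mul_assoc,
          Algebra.smul_def]
        rfl }
  let b : Module.Basis (Fin n) R A := Module.Basis.ofEquivFun (LinearEquiv.ofBijective φ he).symm
  have hb : ∀ x, b x = e x := by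
    intro x
    classical
    rw [Module.Basis.coe_ofEquivFun, LinearEquiv.symm_symm]
    change ∑ y, j.hom ((Pi.single x 1 : Fin n → R) y) * e y = _
    rw [Finset.sum_eq_single x]
    · simp
    · intro y _ hy
      simp [hy]
    · simp
  let c := hP.out.basis b
  have hc : ∀ x, c x = l.hom (e x) := by
    intro x
    rw [IsBaseChange.basis_apply]
    rw [hb]
    rfl
  have : (fun a : Fin n → S => ∑ x, k.hom (a x) * l.hom (e x)) = c.equivFun.symm := by
    funext a
    rw [Module.Basis.equivFun_symm_apply]
    refine Finset.sum_congr rfl fun x _ => ?_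
    rw [hc]
    rfl
  unfold Bas
  rw [this]
  exact c.equivFun.symm.bijective

end K527.TorsorAlg
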