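import Groth.Agent.AbVar.K527.TorsorAlg
import Groth.Agent.CohqA.AffineBaseChange

/-!
# Coordinates of a coaction commute

`pr, a : Y ⟶ B` (`Y = B × K`, `a` the action of the commutative group `K`), `q : Y ⟶ K`; the coordinates `r x` of `a^* s`
in a basis `e` of `Γ(K)` commute with each other.
-/

set_option autoImplicit false
universe u

open CategoryTheory AlgebraicGeometry Opposite TopologicalSpace

namespace K527.TorsorComm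

open K527.TorsorAlg

/-- Pull back of functions. -/
noncomputable def pb {X Y : Scheme.{u}} (f : Y ⟶ X) (U : X.Opens) (V : Y.Opens) (e : V ≤ f ⁻¹ᵁ U) :
    Γ(X, U) →+* Γ(Y, V) := (f.appLE U V e).hom

theorem pb_pb {X Y Z : Scheme.{u}} (f : Y ⟶ X) (g : Z ⟶ Y) (U : X.Opens) (V : Y.Opens) (W : Z.Opens)
    (e : V ≤ f ⁻¹ᵁ U) (e' : W ≤ g ⁻¹ᵁ V) (s : Γ(X, U)) :
    pb g V W e' (pb f U V e s) = pb (g ≫ f) U W (e'.trans ((Opens.map g.base).map (homOfLE e)).le) s := by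
  rw [pb, pb, pb, ← Scheme.Hom.appLE_comp_appLE _ _ _ _ _ e e']
  rfl

theorem pb_congr {X Y : Scheme.{u}} {f g : Y ⟶ X} (h : f = g) (U : X.Opens) (V : Y.Opens) (e : V ≤ f ⁻¹ᵁ U)
    (e' : V ≤ g ⁻¹ᵁ U) (s : Γ(X, U)) : pb f U V e s = pb g U V e' s := by
  subst h
  rfl

theorem comm_aux {B Y Y₂ K : Scheme.{u}} (pr a : Y ⟶ B) (q : Y ⟶ K) (pr₂ m₁ : Y₂ ⟶ Y) (q₂ : Y₂ ⟶ K)
    (σ : Y₂ ⟶ Y₂) (h1 : m₁ ≫ pr = pr₂ ≫ a) (h2 : m₁ ≫ q = q₂) (h3 : σ ≫ m₁ ≫ a = m₁ ≫ a)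
    (h4 : σ ≫ pr₂ ≫ pr = pr₂ ≫ pr) (h5 : σ ≫ pr₂ ≫ q = q₂) (h6 : σ ≫ q₂ = pr₂ ≫ q)
    {n : ℕ} (e : Fin n → Γ(K, ⊤)) (W : B.Opens) (V : Y.Opens) (V₂ : Y₂.Opens)
    (hV : V = pr ⁻¹ᵁ W) (hV' : V = a ⁻¹ᵁ W) (hV₂ : V₂ = pr₂ ⁻¹ᵁ V)
    (b1 : Bas (pb pr W V hV.le) (fun x => pb q ⊤ V le_top (e x)))
    (b2 : Bas (pb pr₂ V V₂ hV₂.le) (fun x => pb q₂ ⊤ V₂ le_top (e x)))
    (r : Fin n → Γ(B, W) → Γ(B, W))
    (hr : ∀ s, pb a W V hV'.le s = ∑ x, pb pr W V hV.le (r x s) * pb q ⊤ V le_top (e x))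
    (x y : Fin n) (s : Γ(B, W)) : r x (r y s) = r y (r x s) := by
  subst hV₂
  have e1 : pr₂ ⁻¹ᵁ V ≤ m₁ ⁻¹ᵁ V := by
    have : m₁ ⁻¹ᵁ V = pr₂ ⁻¹ᵁ V := by
      conv_lhs => rw [hV]
      conv_rhs => rw [hV']
      rw [← Scheme.Hom.comp_preimage, ← Scheme.Hom.comp_preimage, h1]
    exact this.ge
  have e2 : pr₂ ⁻¹ᵁ V ≤ σ ⁻¹ᵁ (pr₂ ⁻¹ᵁ V) := by
    have : σ ⁻¹ᵁ (pr₂ ⁻¹ᵁ V) = pr₂ ⁻¹ᵁ V := by
      rw [hV, ← Scheme.Hom.comp_preimage, ← Scheme.Hom.comp_preimage, ← Scheme.Hom.comp_preimage,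
        Category.assoc, h4]
    exact this.ge
  -- the formula for the double coaction
  have key : pb (m₁ ≫ a) W (pr₂ ⁻¹ᵁ V) (e1.trans ((Opens.map m₁.base).map (homOfLE hV'.le)).le) s =
      ∑ x, pb pr₂ V (pr₂ ⁻¹ᵁ V) le_rfl (∑ y, pb pr W V hV.le (r y (r x s)) * pb q ⊤ V le_top (e y)) *
        pb q₂ ⊤ (pr₂ ⁻¹ᵁ V) le_top (e x) := by
    rw [← pb_pb a m₁ W V (pr₂ ⁻¹ᵁ V) hV'.le e1, hr s, map_sum]
    refine Finset.sum_congr rfl fun x _ => ?_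
    rw [map_mul, pb_pb, pb_pb, ← hr (r x s), pb_pb]
    congr 1
    · exact pb_congr h1 _ _ _ _ _
    · exact pb_congr h2 _ _ _ _ _
  -- apply the swap
  have key2 := congrArg (pb σ (pr₂ ⁻¹ᵁ V) (pr₂ ⁻¹ᵁ V) e2) key
  rw [pb_pb, pb_congr h3 _ _ _ (e1.trans ((Opens.map m₁.base).map (homOfLE hV'.le)).le) s, key,
    map_sum] at key2
  have hl : ∀ x, pb σ (pr₂ ⁻¹ᵁ V) (pr₂ ⁻¹ᵁ V) e2 (pb pr₂ V (pr₂ ⁻¹ᵁ V) le_rfl (∑ y, pb pr W V hV.le (r y (r x s)) *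
      pb q ⊤ V le_top (e y)) * pb q₂ ⊤ (pr₂ ⁻¹ᵁ V) le_top (e x)) =
      ∑ y, pb pr₂ V (pr₂ ⁻¹ᵁ V) le_rfl (pb pr W V hV.le (r y (r x s)) * pb q ⊤ V le_top (e x)) *
        pb q₂ ⊤ (pr₂ ⁻¹ᵁ V) le_top (e y) := by
    intro x
    rw [map_mul, map_sum, map_sum, Finset.sum_mul]
    refine Finset.sum_congr rfl fun y _ => ?_
    simp only [map_mul, pb_pb]
    have t1 := pb_congr h4 W (pr₂ ⁻¹ᵁ V) (e2.trans ((Opens.map σ.base).map (homOfLE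
      ((le_refl (pr₂ ⁻¹ᵁ V)).trans ((Opens.map pr₂.base).map (homOfLE hV.le)).le))).le)
      ((le_refl (pr₂ ⁻¹ᵁ V)).trans ((Opens.map pr₂.base).map (homOfLE hV.le)).le) (r y (r x s))
    have t2 := pb_congr h5 ⊤ (pr₂ ⁻¹ᵁ V) le_top le_top (e y)
    have t3 := pb_congr h6 ⊤ (pr₂ ⁻¹ᵁ V) le_top le_top (e x)
    rw [t1, t2, t3]
    ring
  rw [Finset.sum_congr rfl fun x _ => hl x, Finset.sum_comm] at key2
  have key3 : (fun x => ∑ y, pb pr W V hV.le (r y (r x s)) * pb q ⊤ V le_top (e y)) =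
      fun x => ∑ y, pb pr W V hV.le (r x (r y s)) * pb q ⊤ V le_top (e y) := by
    apply b2.1
    dsimp only
    refine key2.trans ?_
    refine Finset.sum_congr rfl fun x _ => ?_
    rw [map_sum, Finset.sum_mul]
  have key4 := b1.1 (congrFun key3 x)
  exact (congrFun key4 y).symm

end K527.TorsorComm
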