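import Groth.Agent.AbVar.K527.TorsorComm
import Groth.Agent.Fga.UnitRestrict
import Groth.Agent.Sga67.LocBasis
import Groth.Agent.Fdesc.StructMod

/-!
# The module `f_* O_B` of a torsor `f : B ⟶ A`: endomorphisms attached to a basis of the functions on the group
-/

set_option autoImplicit false
universe u

open CategoryTheory CategoryTheory.Limits AlgebraicGeometry Opposite TopologicalSpace AlgebraicGeometry.Scheme.Modules
open Groth.Agent.Sga67.Sec Groth.Agent.Sga67.LocBasis Groth.Agent.CohqA.PullbackUniv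
  Groth.Agent.CohqA.AffineBaseChange

namespace K527.TorsorPush

open K527.TorsorAlg K527.TorsorComm

variable {B Y K : Scheme.{u}}

/-- `O_B ⟶ a_* O_Y` is universal. -/
theorem isUniv_unitToPush (a : Y ⟶ B) : IsUniv a (Groth.Agent.Fga.UnitRestrict.unitToPush a) := by
  have h := (isUniv_unit a (Coh.structureModule B)).comp_iso (Groth.Agent.Fga.UnitRestrict.pullbackUnitIso a)
  have h2 : (pullbackPushforwardAdjunction a).unit.app (Coh.structureModule B) ≫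
      (pushforward a).map (Groth.Agent.Fga.UnitRestrict.pullbackUnitIso a).hom =
      Groth.Agent.Fga.UnitRestrict.unitToPush a := Groth.Agent.Fga.UnitRestrict.unit_pullbackUnitHom a
  rwa [h2] at h

section Basis

variable (pr : Y ⟶ B) (q : Y ⟶ K) {n : ℕ} (e : Fin n → Γ(K, ⊤))

/-- `pr_* O_Y` -/
noncomputable abbrev P : B.Modules := (pushforward pr).obj (Coh.structureModule Y)

/-- functions as sections of the push forward -/
def toP (V : B.Opens) (y : Γ(Y, pr ⁻¹ᵁ V)) : Sec (P pr) V := y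

/-- sections of the push forward as functions -/
def ofP (V : B.Opens) (y : Sec (P pr) V) : Γ(Y, pr ⁻¹ᵁ V) := y

theorem ofP_smul (V : B.Opens) (a : Γ(B, V)) (y : Sec (P pr) V) :
    ofP pr V (a • y) = pb pr V (pr ⁻¹ᵁ V) le_rfl a * ofP pr V y := by
  rw [pb, Scheme.Hom.appLE_eq_app]
  rfl

theorem ofP_sum (V : B.Opens) {ι : Type*} (s : Finset ι) (y : ι → Sec (P pr) V) :
    ofP pr V (∑ i ∈ s, y i) = ∑ i ∈ s, ofP pr V (y i) := by
  let g : Sec (P pr) V →+ Γ(Y, pr ⁻¹ᵁ V) := AddMonoidHom.mk' (ofP pr V) (fun _ _ => rfl)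
  exact map_sum g _ _

theorem ofP_res {U V : B.Opens} (h : V ≤ U) (y : Sec (P pr) U) :
    ofP pr V (res _ h y) = resO Y (pr.preimage_mono h) (ofP pr U y) := rfl

/-- The sections attached to the basis. -/
noncomputable def sec (x : Fin n) : Sec (P pr) ⊤ := toP pr ⊤ (pb q ⊤ (pr ⁻¹ᵁ ⊤) le_top (e x))

theorem resO_pb (f : Y ⟶ K) {U : K.Opens} {V W : Y.Opens} (h : V ≤ f ⁻¹ᵁ U) (h' : W ≤ V) (s : Γ(K, U)) :
    resO Y h' (pb f U V h s) = pb f U W (h'.trans h) s := by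
  have := Scheme.Hom.appLE_map (f := f) h (homOfLE h').op
  exact congrArg (fun φ : Γ(K, U) ⟶ Γ(Y, W) => φ.hom s) this

theorem ofP_res_sec (V : B.Opens) (x : Fin n) :
    ofP pr V (res _ le_top (sec pr q e x)) = pb q ⊤ (pr ⁻¹ᵁ V) le_top (e x) := by
  rw [ofP_res]
  exact resO_pb q _ _ _

/-- The comparison with the free module. -/
noncomputable def phi : FlatMod.freeMod B n ⟶ P pr := Sigma.desc fun x => homUnit (P pr) (sec pr q e x)

theorem ι_phi (x : Fin n) :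
    Sigma.ι (fun _ : Fin n => Coh.structureModule B) x ≫ phi pr q e = homUnit (P pr) (sec pr q e x) := by
  simp [phi]

theorem phi_comb (V : B.Opens) (a : Fin n → Γ(B, V)) :
    appS (phi pr q e) V (comb (freeBasis B n) (le_top : V ≤ ⊤) a) = comb (sec pr q e) (le_top : V ≤ ⊤) a := by
  rw [comb_apply, comb_apply, map_sum]
  refine Finset.sum_congr rfl fun i _ => ?_
  rw [LinearMap.map_smul, freeBasis, appS_res, ← appS_comp, ι_phi, homUnit_one, res_res]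

theorem ofP_comb (V : B.Opens) (a : Fin n → Γ(B, V)) :
    ofP pr V (comb (sec pr q e) (le_top : V ≤ ⊤) a) =
      ∑ x, pb pr V (pr ⁻¹ᵁ V) le_rfl (a x) * pb q ⊤ (pr ⁻¹ᵁ V) le_top (e x) := by
  rw [comb_apply, ofP_sum]
  refine Finset.sum_congr rfl fun i _ => ?_
  rw [ofP_smul, ofP_res_sec]

variable (H : ∀ V : B.Opens, IsAffineOpen V →
  Bas (pb pr V (pr ⁻¹ᵁ V) le_rfl) (fun x => pb q ⊤ (pr ⁻¹ᵁ V) le_top (e x)))

include H in
theorem isIso_phi : IsIso (phi pr q e) := by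
  refine isIso_of_bijective _ ?_
  intro x U hx
  obtain ⟨V, hV, hxV, hVU⟩ := exists_isAffineOpen_mem_and_subset hx
  refine ⟨V, hVU, hxV, ?_⟩
  have h1 : Function.Bijective (appS (phi pr q e) V ∘ comb (freeBasis B n) (le_top : V ≤ ⊤)) := by
    have : (appS (phi pr q e) V ∘ comb (freeBasis B n) (le_top : V ≤ ⊤)) =
        (fun a : Fin n → Γ(B, V) => toP pr V
          (∑ x, pb pr V (pr ⁻¹ᵁ V) le_rfl (a x) * pb q ⊤ (pr ⁻¹ᵁ V) le_top (e x))) := by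
      funext a
      rw [Function.comp_apply, phi_comb, ← ofP_comb]
      rfl
    rw [this]
    exact H V hV
  exact (Function.Bijective.of_comp_iff _ (free_isLocBasis B n V le_top)).1 h1

/-- The coordinates. -/
noncomputable def π [IsIso (phi pr q e)] (x : Fin n) : P pr ⟶ Coh.structureModule B :=
  inv (phi pr q e) ≫ freeProj B n x

theorem sum_π [IsIso (phi pr q e)] : ∑ x, π pr q e x ≫ homUnit (P pr) (sec pr q e x) = 𝟙 (P pr) := by
  have h1 : ∀ x, π pr q e x ≫ homUnit (P pr) (sec pr q e x) = inv (phi pr q e) ≫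
      (freeProj B n x ≫ Sigma.ι (fun _ : Fin n => Coh.structureModule B) x) ≫ phi pr q e := by
    intro x
    rw [π, ← ι_phi]
    simp only [Category.assoc]
  rw [Finset.sum_congr rfl fun x _ => h1 x, ← Preadditive.comp_sum, ← Preadditive.sum_comp, sum_freeProj_ι,
    Category.id_comp, IsIso.inv_hom_id]

theorem ι_π [IsIso (phi pr q e)] (x y : Fin n) : homUnit (P pr) (sec pr q e x) ≫ π pr q e y =
    if x = y then 𝟙 _ else 0 := by
  rw [← ι_phi, π, Category.assoc, IsIso.hom_inv_id_assoc, ι_freeProj]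

/-- The expansion of a function. -/
theorem expand [IsIso (phi pr q e)] (V : B.Opens) (y : Sec (P pr) V) :
    ofP pr V y = ∑ x, pb pr V (pr ⁻¹ᵁ V) le_rfl (toO (appS (π pr q e x) V y)) *
      pb q ⊤ (pr ⁻¹ᵁ V) le_top (e x) := by
  have h1 : y = ∑ x, appS (homUnit (P pr) (sec pr q e x)) V (appS (π pr q e x) V y) := by
    have : ∀ x, appS (homUnit (P pr) (sec pr q e x)) V (appS (π pr q e x) V y) =
        appS (π pr q e x ≫ homUnit (P pr) (sec pr q e x)) V y := fun x => (appS_comp _ _ _ _).symm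
    rw [Finset.sum_congr rfl fun x _ => this x, ← appS_sum, sum_π, appS_id]
  conv_lhs => rw [h1]
  rw [ofP_sum]
  refine Finset.sum_congr rfl fun x _ => ?_
  rw [homUnit_apply, ofP_smul, ofP_res_sec]

end Basis

section Push

variable {A : Scheme.{u}} {f : B ⟶ A} {a pr : Y ⟶ B} (hsq : IsPullback a pr f f) [IsAffineHom f]
  (q : Y ⟶ K) {n : ℕ} (e : Fin n → Γ(K, ⊤)) [IsIso (phi pr q e)]

/-- The map `f_* O_B ⟶ f_* pr_* O_Y` given by `a^*`. -/
noncomputable def coact (w : a ≫ f = pr ≫ f) :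
    (pushforward f).obj (Coh.structureModule B) ⟶ (pushforward f).obj (P pr) :=
  pushSquare f f a pr w (Groth.Agent.Fga.UnitRestrict.unitToPush a)

/-- The endomorphisms. -/
noncomputable def rho (w : a ≫ f = pr ≫ f) (x : Fin n) :
    (pushforward f).obj (Coh.structureModule B) ⟶ (pushforward f).obj (Coh.structureModule B) :=
  coact w ≫ (pushforward f).map (π pr q e x)

include hsq in
theorem isUniv_coact : IsUniv f (coact hsq.w) := by
  have : (Coh.structureModule B).IsQuasicoherent := Groth.Agent.Fdesc.StructMod.isQCoh_structureModule B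
  exact isUniv_pushSquare hsq _ (isUniv_unitToPush a)

omit [IsAffineHom f] in
theorem ofP_coact (w : a ≫ f = pr ≫ f) (U : A.Opens) (h : pr ⁻¹ᵁ (f ⁻¹ᵁ U) ≤ a ⁻¹ᵁ (f ⁻¹ᵁ U))
    (s : Γ(B, f ⁻¹ᵁ U)) :
    (ofP pr (f ⁻¹ᵁ U) (appS (coact w) U (toP f U s)) : Γ(Y, pr ⁻¹ᵁ (f ⁻¹ᵁ U))) =
      pb a (f ⁻¹ᵁ U) (pr ⁻¹ᵁ (f ⁻¹ᵁ U)) h s := by
  rfl

/-- The coordinates of the coaction, on functions. -/
noncomputable def rr (w : a ≫ f = pr ≫ f) (U : A.Opens) (x : Fin n) (s : Γ(B, f ⁻¹ᵁ U)) : Γ(B, f ⁻¹ᵁ U) :=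
  ofP f U (appS (rho q e w x) U (toP f U s))

omit [IsAffineHom f] in
theorem pb_eq_sum (w : a ≫ f = pr ≫ f) (U : A.Opens) (h : pr ⁻¹ᵁ (f ⁻¹ᵁ U) ≤ a ⁻¹ᵁ (f ⁻¹ᵁ U))
    (s : Γ(B, f ⁻¹ᵁ U)) :
    pb a (f ⁻¹ᵁ U) (pr ⁻¹ᵁ (f ⁻¹ᵁ U)) h s = ∑ x, pb pr (f ⁻¹ᵁ U) (pr ⁻¹ᵁ (f ⁻¹ᵁ U)) le_rfl (rr q e w U x s) *
      pb q ⊤ (pr ⁻¹ᵁ (f ⁻¹ᵁ U)) le_top (e x) := by
  rw [← ofP_coact w U h s, expand pr q e]
  rfl

include hsq in
/-- The endomorphisms commute. -/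
theorem rho_comm {Y₂ : Scheme.{u}} (pr₂ m₁ : Y₂ ⟶ Y) (q₂ : Y₂ ⟶ K) (σ : Y₂ ⟶ Y₂) (h1 : m₁ ≫ pr = pr₂ ≫ a)
    (h2 : m₁ ≫ q = q₂) (h3 : σ ≫ m₁ ≫ a = m₁ ≫ a)
    (h4 : σ ≫ pr₂ ≫ pr = pr₂ ≫ pr) (h5 : σ ≫ pr₂ ≫ q = q₂) (h6 : σ ≫ q₂ = pr₂ ≫ q) [IsAffineHom pr]
    (b1 : ∀ V : B.Opens, IsAffineOpen V →
      Bas (pb pr V (pr ⁻¹ᵁ V) le_rfl) (fun x => pb q ⊤ (pr ⁻¹ᵁ V) le_top (e x)))
    (b2 : ∀ V : Y.Opens, IsAffineOpen V →
      Bas (pb pr₂ V (pr₂ ⁻¹ᵁ V) le_rfl) (fun x => pb q₂ ⊤ (pr₂ ⁻¹ᵁ V) le_top (e x)))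
    (x y : Fin n) : rho q e hsq.w x ≫ rho q e hsq.w y = rho q e hsq.w y ≫ rho q e hsq.w x := by
  refine hom_ext_of_locally fun z U hz => ?_
  obtain ⟨V, hV, hzV, hVU⟩ := exists_isAffineOpen_mem_and_subset hz
  have e0 : pr ⁻¹ᵁ (f ⁻¹ᵁ V) = a ⁻¹ᵁ (f ⁻¹ᵁ V) := by
    rw [← Scheme.Hom.comp_preimage, ← Scheme.Hom.comp_preimage, hsq.w]
  refine ⟨V, hVU, hzV, fun s => ?_⟩
  have := comm_aux pr a q pr₂ m₁ q₂ σ h1 h2 h3 h4 h5 h6 e (f ⁻¹ᵁ V) (pr ⁻¹ᵁ (f ⁻¹ᵁ V))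
    (pr₂ ⁻¹ᵁ (pr ⁻¹ᵁ (f ⁻¹ᵁ V))) rfl e0 rfl (b1 _ (hV.preimage f)) (b2 _ ((hV.preimage f).preimage pr))
    (fun x s => rr q e hsq.w V x s) (fun s => pb_eq_sum q e hsq.w V e0.le s) y x (ofP f V s)
  exact this


omit [IsAffineHom f] in
theorem rho_comm_mul (w : a ≫ f = pr ≫ f) (t : Coh.structureModule B ⟶ Coh.structureModule B) (c : Γ(A, ⊤))
    (ht : ∀ (U : B.Opens) (s : Sec (Coh.structureModule B) U), toO (appS t U s) = pb f ⊤ U le_top c * toO s)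
    (x : Fin n) : rho q e w x ≫ (pushforward f).map t = (pushforward f).map t ≫ rho q e w x := by
  have key : ∀ (U : A.Opens) (s : Sec (P f) U), appS ((pushforward f).map t) U s = (resO A (le_top : U ≤ ⊤) c • s : Sec (P f) U) := by
    intro U s
    have h1 := ht (f ⁻¹ᵁ U) s
    have h2 := ofP_smul f U (resO A le_top c) s
    rw [pb] at h2
    refine Eq.trans ?_ h2.symm
    refine h1.trans ?_
    congr 1
    exact (congrArg (fun φ : Γ(A, ⊤) ⟶ Γ(B, f ⁻¹ᵁ U) => φ.hom c)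
      (Scheme.Hom.map_appLE (f := f) (le_refl (f ⁻¹ᵁ U)) (homOfLE (le_top : U ≤ ⊤)).op)).symm
  refine hom_ext fun U s => ?_
  rw [appS_comp, appS_comp, key, key, LinearMap.map_smul]

end Push

end K527.TorsorPush
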